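import Cfsg.Agent.Lib.LocalEvenB.SuzType.Model

/-!
Data: words for some isometries of the six-dimensional space of minus type over two elements (owner: helper8).
-/

set_option autoImplicit false

namespace CfsgLib.LocalEvenB.SuzType

/-- The transvection exchanging the two middle vectors. -/
def tauM : List Nat := [1, 2, 8, 4, 16, 32]

/-- An element moving `32` to `48` and fixing `1`, `2`, `16`. -/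
def lamM : List Nat := [1, 2, 8, 4, 16, 48]

/-- Its word. -/
def lamW : List Nat := [3, 0, 0, 1, 2, 1, 3, 1]

/-- The exchange of two hyperbolic pairs. -/
def czeroM : List Nat := [4, 8, 1, 2, 16, 32]

/-- Its word. -/
def czeroW : List Nat := [2, 3, 2, 0, 1, 3, 0]

/-- A rotation of the last plane. -/
def rthreeM : List Nat := [1, 2, 4, 8, 32, 48]

/-- Its word. -/
def rthreeW : List Nat := [1, 2, 2, 1, 1]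

/-- An element of order five fixing a hyperbolic pair. -/
def rfiveM : List Nat := [1, 2, 8, 28, 40, 16]

/-- Its word. -/
def rfiveW : List Nat := [1, 0, 2, 0, 1, 1, 0, 2]

/-- An element exchanging `1` and `2`. -/
def swlM : List Nat := [2, 1, 4, 8, 48, 32]

/-- Its word. -/
def swlW : List Nat := [0, 0, 2, 3, 0, 2, 3, 1]

/-- The elements fixing the vectors `1` and `2`, with words. -/
def levList : List (List Nat × List Nat) := [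
  ([1, 2, 4, 8, 16, 32], []),
  ([1, 2, 4, 8, 32, 48], [1, 2, 2, 1, 1]),
  ([1, 2, 4, 8, 48, 16], [1, 2, 1, 1]),
  ([1, 2, 4, 28, 16, 36], [1, 2, 1, 1, 2]),
  ([1, 2, 4, 28, 36, 52], [2, 2, 1, 2, 1, 1]),
  ([1, 2, 4, 28, 52, 16], [2, 2]),
  ([1, 2, 4, 44, 20, 32], [2, 1, 2, 1, 1]),
  ([1, 2, 4, 44, 32, 52], [2]),
  ([1, 2, 4, 44, 52, 20], [2, 1, 2, 2, 1, 1]),
  ([1, 2, 4, 60, 20, 36], [2, 1, 2, 2, 1, 1, 2]),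
  ([1, 2, 4, 60, 36, 48], [1, 2, 1, 1, 2, 2]),
  ([1, 2, 4, 60, 48, 20], [1, 2, 2, 1, 1, 2]),
  ([1, 2, 8, 4, 16, 48], [3, 0, 0, 1, 2, 1, 3, 1]),
  ([1, 2, 8, 4, 32, 16], [2, 0, 2, 2, 0, 0, 2]),
  ([1, 2, 8, 4, 48, 32], [2, 3, 0, 2, 3, 1, 3]),
  ([1, 2, 8, 28, 16, 56], [2, 2, 0, 2, 0, 0]),
  ([1, 2, 8, 28, 40, 16], [1, 0, 2, 0, 1, 1, 0, 2]),
  ([1, 2, 8, 28, 56, 40], [1, 2, 2, 0, 0, 1, 1, 0]),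
  ([1, 2, 8, 44, 24, 56], [1, 2, 0, 0, 1, 1, 0]),
  ([1, 2, 8, 44, 32, 24], [1, 2, 0, 2, 0, 1, 1, 0]),
  ([1, 2, 8, 44, 56, 32], [2, 0, 2, 2, 0, 0]),
  ([1, 2, 8, 60, 24, 48], [1, 0, 2, 2, 0, 1, 1, 0]),
  ([1, 2, 8, 60, 40, 24], [1, 0, 0, 1, 1, 0]),
  ([1, 2, 8, 60, 48, 40], [1, 0, 2, 0, 1, 1, 0]),
  ([1, 2, 28, 4, 16, 52], [0, 2, 2, 0, 0, 2]),
  ([1, 2, 28, 4, 36, 16], [3, 0, 2, 3, 1, 3]),
  ([1, 2, 28, 4, 52, 36], [0, 0, 3, 0, 1, 2, 1, 2, 0]),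
  ([1, 2, 28, 8, 16, 40], [3, 0, 2, 3, 1, 3, 2]),
  ([1, 2, 28, 8, 40, 56], [3, 2, 2, 0, 2, 3, 3]),
  ([1, 2, 28, 8, 56, 16], [0, 2, 2, 0, 0]),
  ([1, 2, 28, 44, 12, 52], [0, 2, 1, 3, 2, 1, 1, 3]),
  ([1, 2, 28, 44, 52, 56], [2, 0, 2, 0, 0]),
  ([1, 2, 28, 44, 56, 12], [2, 0, 3, 1, 3, 2, 3]),
  ([1, 2, 28, 60, 12, 40], [2, 2, 1, 0, 0, 1, 1, 0]),
  ([1, 2, 28, 60, 36, 12], [2, 2, 1, 0, 2, 0, 1, 1, 0]),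
  ([1, 2, 28, 60, 40, 36], [3, 0, 2, 3, 1, 3, 2, 2]),
  ([1, 2, 44, 4, 20, 52], [3, 1, 1, 3, 3, 2, 0]),
  ([1, 2, 44, 4, 32, 20], [3, 2, 0, 0, 1, 1, 3, 1]),
  ([1, 2, 44, 4, 52, 32], [0, 2, 0, 0, 2, 2]),
  ([1, 2, 44, 8, 24, 32], [1, 0, 2, 0, 0, 2, 1, 1]),
  ([1, 2, 44, 8, 32, 56], [0, 2, 0, 0]),
  ([1, 2, 44, 8, 56, 24], [0, 3, 1, 3, 2, 3]),
  ([1, 2, 44, 28, 12, 56], [2, 1, 2, 0, 0, 1, 1, 0]),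
  ([1, 2, 44, 28, 52, 12], [3, 1, 1, 3, 3, 2, 0, 2]),
  ([1, 2, 44, 28, 56, 52], [0, 2, 0, 0, 2]),
  ([1, 2, 44, 60, 12, 20], [3, 3, 1, 0, 1, 0, 0, 3]),
  ([1, 2, 44, 60, 20, 24], [2, 1, 0, 2, 0, 1, 1, 0]),
  ([1, 2, 44, 60, 24, 12], [2, 1, 0, 0, 1, 1, 0]),
  ([1, 2, 60, 4, 20, 48], [2, 2, 0, 0, 1, 0, 1, 1]),
  ([1, 2, 60, 4, 36, 20], [0, 0, 1, 0, 1, 1]),
  ([1, 2, 60, 4, 48, 36], [2, 0, 0, 1, 0, 1, 1]),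
  ([1, 2, 60, 8, 24, 40], [0, 3, 3, 2, 3, 2, 0, 0]),
  ([1, 2, 60, 8, 40, 48], [0, 0, 3, 1, 3, 3, 0]),
  ([1, 2, 60, 8, 48, 24], [0, 2, 0, 3, 1, 3, 3, 0]),
  ([1, 2, 60, 28, 12, 36], [0, 2, 2, 0, 1, 0, 1, 1]),
  ([1, 2, 60, 28, 36, 40], [2, 0, 2, 0, 1, 0, 1, 1]),
  ([1, 2, 60, 28, 40, 12], [3, 2, 1, 0, 0, 3, 1, 1]),
  ([1, 2, 60, 44, 12, 24], [1, 0, 1, 1, 3, 3, 2, 3]),
  ([1, 2, 60, 44, 20, 12], [0, 2, 0, 1, 0, 1, 1]),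
  ([1, 2, 60, 44, 24, 20], [2, 0, 0, 3, 1, 3, 3, 0])]

/-- The images of near involutions, with words carrying `rho 4` to them. -/
def nearList : List (List Nat × List Nat) := [
  ([1, 6, 4, 9, 16, 32], []),
  ([1, 10, 5, 8, 16, 32], [0, 1, 1]),
  ([1, 30, 5, 9, 16, 33], [2, 1, 2, 0]),
  ([1, 46, 5, 9, 17, 32], [1, 2, 0]),
  ([1, 62, 5, 9, 17, 33], [1, 0]),
  ([4, 8, 1, 2, 16, 32], [1]),
  ([4, 28, 1, 19, 16, 37], [2, 2, 1]),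
  ([4, 44, 1, 35, 21, 32], [2, 1]),
  ([4, 60, 1, 51, 21, 37], [1, 1]),
  ([5, 2, 4, 10, 16, 32], [0, 1, 1, 0]),
  ([5, 6, 4, 27, 16, 36], [2, 1, 0, 0]),
  ([5, 6, 4, 43, 20, 32], [1, 2, 0, 0]),
  ([5, 6, 4, 59, 20, 36], [1, 0, 0]),
  ([8, 4, 2, 1, 16, 32], [0, 1]),
  ([8, 28, 19, 1, 16, 41], [1, 3, 3]),
  ([8, 44, 35, 1, 25, 32], [0, 2, 1]),
  ([8, 60, 51, 1, 25, 41], [0]),
  ([9, 2, 6, 8, 16, 32], [1, 1, 0]),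
  ([9, 10, 23, 8, 16, 40], [0, 2, 0]),
  ([9, 10, 39, 8, 24, 32], [1, 0, 3]),
  ([9, 10, 55, 8, 24, 40], [0, 0]),
  ([28, 4, 2, 19, 16, 38], [3]),
  ([28, 8, 19, 2, 16, 42], [0, 3, 1, 0]),
  ([28, 44, 55, 59, 13, 14], [3, 1, 0, 0]),
  ([28, 60, 39, 43, 13, 3], [2, 2, 0]),
  ([29, 2, 6, 10, 16, 34], [3, 3]),
  ([29, 30, 23, 27, 16, 47], [3, 0, 1]),
  ([29, 30, 35, 51, 12, 7], [2, 2, 0, 0]),
  ([29, 30, 51, 35, 12, 11], [3, 2, 0, 1]),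
  ([44, 4, 2, 35, 22, 32], [2, 0, 1]),
  ([44, 8, 35, 2, 26, 32], [3, 3, 0]),
  ([44, 28, 55, 59, 14, 13], [2, 0, 2, 1]),
  ([44, 60, 23, 27, 3, 13], [2, 0]),
  ([45, 2, 6, 10, 18, 32], [1, 3, 0]),
  ([45, 46, 19, 51, 7, 12], [2, 0, 0]),
  ([45, 46, 39, 43, 31, 32], [2, 0, 2, 0]),
  ([45, 46, 51, 19, 11, 12], [1, 0, 2, 0]),
  ([60, 4, 2, 51, 22, 38], [1, 0, 1]),
  ([60, 8, 51, 2, 26, 42], [0, 1, 0]),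
  ([60, 28, 39, 43, 14, 3], [2, 3, 0]),
  ([60, 44, 23, 27, 3, 14], [3, 0]),
  ([61, 2, 6, 10, 18, 34], [1, 0, 1, 0]),
  ([61, 62, 19, 35, 7, 11], [0, 3]),
  ([61, 62, 35, 19, 11, 7], [3, 1, 0]),
  ([61, 62, 55, 59, 31, 47], [0, 0, 1])]

/-- Near images meeting their transform under `rho 16`: a word, two section vectors, the common point. -/
def meetList : List (List Nat × List Nat × Nat × Nat × Nat) := [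
  ([4, 8, 1, 2, 16, 32], [3, 1, 1, 0], 28, 4, 5),
  ([4, 28, 1, 19, 16, 37], [3, 1, 1, 0], 4, 28, 5),
  ([4, 44, 1, 35, 21, 32], [3, 1, 1, 0], 44, 60, 5),
  ([4, 60, 1, 51, 21, 37], [3, 1, 1, 0], 60, 44, 5),
  ([5, 2, 4, 10, 16, 32], [1, 0], 8, 44, 4),
  ([5, 6, 4, 27, 16, 36], [1, 0], 44, 8, 4),
  ([5, 6, 4, 43, 20, 32], [1, 0], 28, 4, 4),
  ([5, 6, 4, 59, 20, 36], [1, 0], 4, 28, 4),
  ([8, 4, 2, 1, 16, 32], [3, 1, 1], 28, 4, 9),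
  ([8, 28, 19, 1, 16, 41], [3, 1, 1], 4, 28, 9),
  ([8, 44, 35, 1, 25, 32], [3, 1, 1], 44, 8, 9),
  ([8, 60, 51, 1, 25, 41], [3, 1, 1], 8, 44, 9),
  ([9, 2, 6, 8, 16, 32], [0, 0, 1], 4, 44, 8),
  ([9, 10, 23, 8, 16, 40], [0, 0, 1], 44, 4, 8),
  ([9, 10, 39, 8, 24, 32], [0, 0, 1], 28, 8, 8),
  ([9, 10, 55, 8, 24, 40], [0, 0, 1], 8, 28, 8),
  ([28, 4, 2, 19, 16, 38], [1, 0, 3, 3], 60, 44, 29),
  ([28, 8, 19, 2, 16, 42], [1, 0, 3, 3], 44, 60, 29),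
  ([28, 44, 55, 59, 13, 14], [1, 0, 3, 3], 4, 28, 29),
  ([28, 60, 39, 43, 13, 3], [1, 0, 3, 3], 28, 4, 29),
  ([29, 2, 6, 10, 16, 34], [0, 0, 1, 2], 4, 28, 28),
  ([29, 30, 23, 27, 16, 47], [0, 0, 1, 2], 28, 4, 28),
  ([29, 30, 35, 51, 12, 7], [0, 0, 1, 2], 8, 44, 28),
  ([29, 30, 51, 35, 12, 11], [0, 0, 1, 2], 44, 8, 28)]

end CfsgLib.LocalEvenB.SuzType
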