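import Cfsg.Agent.Lib.LocalEvenB.SuzType.Locals.Rho
import Cfsg.Agent.Lib.LocalEvenB.SuzType.Locals.Data

/-!
Finite facts on isometries fixing the first vector (owner: helper8).
-/

set_option autoImplicit false
set_option maxRecDepth 100000
set_option Elab.async false

namespace CfsgLib.LocalEvenB.SuzType

/-- The vectors below `64` with the given property. -/
def vecs (f : Nat → Bool) : List Nat := (List.range 64).filter f

/-- Images of `2` under isometries fixing `1`. -/
def candTwo : List Nat := vecs fun a => !qb a && bb a 1

/-- Images of `4`. -/
def candFour (a2 : Nat) : List Nat := vecs fun a => !qb a && !bb a 1 && !bb a a2 && !(a == 0)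

/-- Images of `8`. -/
def candEight (a2 a4 : Nat) : List Nat := vecs fun a => !qb a && !bb a 1 && !bb a a2 && bb a a4

/-- Images of `16`. -/
def candSixteen (a2 a4 a8 : Nat) : List Nat :=
  vecs fun a => qb a && !bb a 1 && !bb a a2 && !bb a a4 && !bb a a8

/-- Images of `32`. -/
def candLast (a2 a4 a8 a16 : Nat) : List Nat :=
  vecs fun a => qb a && !bb a 1 && !bb a a2 && !bb a a4 && !bb a a8 && bb a a16

/-- The isometries fixing `1`. -/
def cand1 : List (List Nat) :=
  candTwo.flatMap fun a2 => (candFour a2).flatMap fun a4 => (candEight a2 a4).flatMap fun a8 =>
    (candSixteen a2 a4 a8).flatMap fun a16 => (candLast a2 a4 a8 a16).map fun a32 => [1, a2, a4, a8, a16, a32]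

/-- The Siegel elements at the first vector. -/
def rhoList : List (List Nat) := sect.map rho

/-- Their translates by `lamM`. -/
def lamList : List (List Nat) := sect.map fun u => comp lamM (rho u)

/-- Membership, or membership after the transvection. -/
def halfB (good : List (List Nat)) (A : List Nat) : Bool := good.contains A || good.contains (comp A tauM)

theorem bb_basis : (bb 1 2 && bb 4 8 && bb 16 32 && !bb 1 4 && !bb 1 8 && !bb 1 16 && !bb 1 32 && !bb 2 4 && !bb 2 8 &&
    !bb 2 16 && !bb 2 32 && !bb 4 16 && !bb 4 32 && !bb 8 16 && !bb 8 32 && !qb 1 && !qb 2 && !qb 4 && !qb 8 &&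
    qb 16 && qb 32) = true := by decide +kernel

theorem tau_facts : comp tauM tauM = one ∧ tauM.length = 6 ∧
    ((List.range 64).filter (fixB tauM)).length = 32 := by decide +kernel

theorem swap_facts : comp [2, 1, 4, 8, 16, 32] [2, 1, 4, 8, 16, 32] = one ∧
    ((List.range 64).filter (fixB [2, 1, 4, 8, 16, 32])).length = 32 := by decide +kernel

theorem sylow_fix : sylow.all (fun r => !(((List.range 64).filter (fixB r.1)).length == 32)) = true := by
  decide +kernel

/-- The images of the centralizer of a standard four-group. -/
theorem cand_four : cand1.all (fun A => !(comp A (rho 16) == comp (rho 16) A) ||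
    !(comp A (rho 32) == comp (rho 32) A) || halfB rhoList A) = true := by decide +kernel

/-- The images of the centralizer of a standard far involution. -/
theorem cand_far : cand1.all (fun A => !(comp A (rho 16) == comp (rho 16) A) ||
    [32, 33, 48, 49].all (fun m => !((List.range 64).all fun y => !(fixB (rho 16) y) || bb m (app A y) == bb m y) ||
      halfB (rhoList ++ lamList) A)) = true := by decide +kernel

/-- The images of the elements fixing `1` and `2`. -/
theorem cand_lev : cand1.all (fun A => !(app A 2 == 2) || halfB (levList.map Prod.fst) A) = true := by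
  decide +kernel

theorem levList_ok : levList.all (fun e => e.1 == wmap e.2 && app e.1 1 == 1 && app e.1 2 == 2) = true := by
  decide +kernel

theorem levList_nodup : levList.length = 60 ∧ (levList.map Prod.fst).Nodup := by decide +kernel

/-- The powers of the element of order five. -/
def fiveList : List (List Nat) :=
  [one, rfiveM, comp rfiveM rfiveM, comp rfiveM (comp rfiveM rfiveM),
    comp rfiveM (comp rfiveM (comp rfiveM rfiveM))]

/-- The images of the elements fixing `1` and commuting with the element of order five. -/
theorem cand_five : cand1.all (fun A => !(comp A rfiveM == comp rfiveM A) || halfB fiveList A) = true := by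
  decide +kernel

theorem data_words : (lamM == wmap lamW && czeroM == wmap czeroW && rthreeM == wmap rthreeW &&
    rfiveM == wmap rfiveW && swlM == wmap swlW) = true := by decide +kernel

theorem im_sixteen : (List.range 64).all (fun m => qb (m ^^^ app (rho 16) m) || m ^^^ app (rho 16) m == 0 ||
    m ^^^ app (rho 16) m == 1) = true := by decide +kernel

end CfsgLib.LocalEvenB.SuzType
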