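import Cfsg.Agent.Lib.LocalEvenB.SuzType.Locals.CentLFour
import Cfsg.Agent.Lib.Classical.PSLThreeFour
import Cfsg.Agent.Lib.CIT.CNStructure
import Cfsg.Agent.Lib.Recog.SmallOrders.AlmostSimple
import Cfsg.Agent.Lib.Signalizer.OrderFormula

/-!
Counting in `PSL(3, 4)`: an involution inverts 193 elements of odd order; centralizers and normalizers of the
elements of order 3, 5, 7 (owner: helper8).
-/

set_option autoImplicit false
set_option linter.all false

namespace CfsgLib.LocalEvenB.SuzType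

open Subgroup
open CfsgLib.CIT (CIT IsPSLThreeFour)

universe u

variable {X : Type u} [Group X] [Finite X]

namespace LFour

variable (h : IsPSLThreeFour X)
include h

theorem card : Nat.card X = 20160 := by
  obtain ⟨F, iF, iFt, hF, ⟨e⟩⟩ := h
  exact (Nat.card_congr e.toEquiv).trans (CfsgLib.Known.L34.card_PSL hF)

theorem orders (g : X) : orderOf g ∈ [1, 2, 3, 4, 5, 7] := by
  obtain ⟨F, iF, iFt, hF, ⟨e⟩⟩ := h
  obtain ⟨n, hn, hd⟩ := CfsgLib.CIT.orderOf_dvd_psl_three_four hF (e g)
  rw [MulEquiv.orderOf_eq] at hd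
  have h0 : orderOf g ≤ n := Nat.le_of_dvd (by fin_cases hn <;> norm_num) hd
  have hpos := orderOf_pos g
  simp only [List.mem_cons, List.not_mem_nil, or_false] at hn ⊢
  generalize orderOf g = m at hd h0 hpos ⊢
  rcases hn with rfl | rfl | rfl | rfl <;> interval_cases m <;> omega

theorem prime_pow_orders (g : X) (hg : g ≠ 1) : IsPrimePow (orderOf g) := by
  have h1 := orders h g
  have h2 : orderOf g ≠ 1 := fun e => hg (orderOf_eq_one_iff.1 e)
  simp only [List.mem_cons, List.not_mem_nil, or_false] at h1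
  have hp : ∀ {p : ℕ}, p.Prime → IsPrimePow p := fun hp => hp.isPrimePow
  rcases h1 with e | e | e | e | e | e <;> rw [e]
  · exact absurd e h2
  · exact hp Nat.prime_two
  · exact hp Nat.prime_three
  · exact ⟨2, 2, Nat.prime_two.prime, two_pos, rfl⟩
  · exact hp (by norm_num)
  · exact hp (by norm_num)

theorem invol_conj {x y : X} (hx : orderOf x = 2) (hy : orderOf y = 2) : IsConj x y := by
  obtain ⟨F, iF, iFt, hF, ⟨e⟩⟩ := h
  have h1 := CfsgLib.Classical.PSLThreeFour.involutions_conj hF (x := e x) (y := e y)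
    (by rw [MulEquiv.orderOf_eq, hx]) (by rw [MulEquiv.orderOf_eq, hy])
  simpa using e.symm.toMonoidHom.map_isConj h1

theorem cit : CIT X := by
  refine CfsgLib.Recog.CITGraph.cit_of_no_two_mul fun r hr hr2 ⟨g, hg⟩ => ?_
  have h1 := orders h g
  rw [hg] at h1
  simp only [List.mem_cons, List.not_mem_nil, or_false] at h1
  have := hr.two_le
  omega

theorem card_centralizer_invol {i : X} (hi : orderOf i = 2) : Nat.card (centralizer ({i} : Set X)) = 64 := by
  classical
  haveI : Fact (Nat.Prime 2) := ⟨Nat.prime_two⟩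
  obtain ⟨T⟩ : Nonempty (Sylow 2 X) := inferInstance
  have hT : Nat.card (T : Subgroup X) = 2 ^ 6 := by
    rw [Sylow.card_eq_multiplicity, card h, show (20160 : ℕ) = 2 ^ 6 * 315 from rfl,
      Nat.factorization_mul (by norm_num) (by norm_num), Finsupp.add_apply,
      Nat.Prime.factorization_pow Nat.prime_two, Finsupp.single_eq_same,
      Nat.factorization_eq_zero_of_not_dvd (by norm_num)]
  haveI : Nontrivial (T : Subgroup X) := Finite.one_lt_card_iff_nontrivial.1 (by rw [hT]; norm_num)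
  haveI := T.2.center_nontrivial
  obtain ⟨k, hk, hck⟩ := (IsPGroup.nontrivial_iff_card (T.2.to_subgroup (center (T : Subgroup X)))).1 inferInstance
  obtain ⟨w, hw⟩ := exists_prime_orderOf_dvd_card' 2 (hck ▸ dvd_pow_self 2 hk.ne' :
    2 ∣ Nat.card (center (T : Subgroup X)))
  set j : X := ((w : (T : Subgroup X)) : X)
  have hj : orderOf j = 2 := by rw [Subgroup.orderOf_coe, Subgroup.orderOf_coe, hw]
  have hle : (T : Subgroup X) ≤ centralizer ({j} : Set X) := fun t ht => mem_centralizer_singleton_iff.2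
    (congrArg Subtype.val (mem_center_iff.1 w.2 ⟨t, ht⟩))
  have heq := T.is_maximal' ((cit h) j hj) hle
  obtain ⟨g, rfl⟩ := isConj_iff.1 (invol_conj h hj hi)
  refine (Nat.card_congr ?_).trans ((congrArg (fun S : Subgroup X => Nat.card S) heq).trans hT)
  refine ((MulAut.conj g⁻¹).toEquiv.subtypeEquiv fun y => ?_)
  show y ∈ centralizer ({g * j * g⁻¹} : Set X) ↔ g⁻¹ * y * g⁻¹⁻¹ ∈ centralizer ({j} : Set X)
  rw [mem_centralizer_singleton_iff, mem_centralizer_singleton_iff]
  constructor
  · intro e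
    calc g⁻¹ * y * g⁻¹⁻¹ * j = g⁻¹ * (y * (g * j * g⁻¹)) * g := by group
      _ = _ := by rw [e]; group
  · intro e
    calc y * (g * j * g⁻¹) = g * (g⁻¹ * y * g⁻¹⁻¹ * j) * g⁻¹ := by group
      _ = _ := by rw [e]; group

theorem card_invol : Nat.card {i : X // orderOf i = 2} = 315 := by
  classical
  obtain ⟨i, hi⟩ := exists_prime_orderOf_dvd_card' (G := X) 2 (hp := ⟨Nat.prime_two⟩) (by rw [card h]; norm_num)
  have e : {j : X // orderOf j = 2} ≃ {y : X // IsConj i y} :=
    Equiv.subtypeEquivRight fun j => ⟨fun hj => invol_conj h hi hj,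
      fun hj => (CfsgLib.Signalizer.orderOf_of_isConj hj).trans hi⟩
  rw [Nat.card_congr e]
  have h1 := CfsgLib.Signalizer.card_conj_class i
  rw [card_centralizer_invol h hi, card h] at h1
  omega

variable {p k : ℕ}

theorem centralizer_eq [hp : Fact p.Prime] (hk : k ≤ 2) (hpp : p ≠ 2) (P : Sylow p X)
    (hP : Nat.card (P : Subgroup X) = p ^ k) {g : X} (hg : g ∈ (P : Subgroup X)) (hg1 : g ≠ 1) :
    centralizer ({g} : Set X) = (P : Subgroup X) := by
  have hcomm : ∀ a ∈ (P : Subgroup X), ∀ b ∈ (P : Subgroup X), Commute a b := by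
    intro a ha b hb
    have h1 : IsMulCommutative (P : Subgroup X) := by
      interval_cases k
      · haveI := (Nat.card_eq_one_iff_unique.1 (hP.trans (pow_zero p))).1
        exact ⟨⟨fun a b => Subsingleton.elim _ _⟩⟩
      · haveI := isCyclic_of_prime_card (hP.trans (pow_one p))
        exact IsCyclic.commutative
      · exact IsPGroup.isMulCommutative_of_card_eq_prime_sq hP
    exact congrArg Subtype.val (mul_comm' (⟨a, ha⟩ : (P : Subgroup X)) ⟨b, hb⟩)
  have hgo : orderOf g = p := by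
    obtain ⟨j, hj⟩ := IsPGroup.iff_orderOf.1 P.2 ⟨g, hg⟩
    rw [Subgroup.orderOf_mk] at hj
    have h1 := orders h g
    have h2 : j ≠ 0 := fun e => hg1 (orderOf_eq_one_iff.1 (by rw [hj, e, pow_zero]))
    rw [hj] at h1 ⊢
    rcases Nat.lt_or_ge j 2 with hj2 | hj2
    · rw [show j = 1 by omega, pow_one]
    exfalso
    have h9 : p ^ 2 ≤ p ^ j := Nat.pow_le_pow_right hp.out.pos hj2
    have h3 : 3 ≤ p := lt_of_le_of_ne hp.out.two_le (Ne.symm hpp)
    simp only [List.mem_cons, List.not_mem_nil, or_false] at h1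
    have h9' : 9 ≤ p ^ 2 := by nlinarith
    omega
  refine P.is_maximal' ?_ fun a ha => mem_centralizer_singleton_iff.2 (hcomm a ha g hg).eq
  intro ⟨c, hc⟩
  rw [mem_centralizer_singleton_iff] at hc
  by_cases hc1 : c = 1
  · exact ⟨0, Subtype.ext (by simp [hc1])⟩
  obtain ⟨q, j, hq, hj, hqj⟩ := prime_pow_orders h c hc1
  refine ⟨j, Subtype.ext ?_⟩
  obtain rfl : q = p := by
    by_contra hne
    have h1 := orders h (c * g)
    rw [(show Commute c g from hc).orderOf_mul_eq_mul_orderOf_of_coprime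
      (by rw [← hqj, hgo]; exact ((Nat.coprime_primes hq.nat_prime hp.out).2 hne).pow_left j),
      ← hqj, hgo] at h1
    have h2 : p ∣ q ^ j * p := dvd_mul_left _ _
    have hp3 : 3 ≤ p := lt_of_le_of_ne hp.out.two_le (Ne.symm hpp)
    have hqj2 : 2 ≤ q ^ j := le_trans hq.nat_prime.two_le (Nat.le_self_pow hj.ne' q)
    have h6 : 2 * 3 ≤ q ^ j * p := Nat.mul_le_mul hqj2 hp3
    simp only [List.mem_cons, List.not_mem_nil, or_false] at h1
    have h7 : q ^ j * p = 7 := by omega
    rw [h7] at h2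
    rw [(Nat.prime_dvd_prime_iff_eq hp.out (by norm_num)).1 h2] at h7
    omega
  show c ^ q ^ j = 1
  rw [hqj, pow_orderOf_eq_one]

/-- The Sylow numbers of the odd primes. -/
theorem sylow_data [hp : Fact p.Prime] (P : Sylow p X) :
    (p = 3 → Nat.card (P : Subgroup X) = 3 ^ 2 ∧ Nat.card (normalizer ((P : Subgroup X) : Set X)) ∈ [18, 72]) ∧
    (p = 5 → Nat.card (P : Subgroup X) = 5 ^ 1 ∧ Nat.card (normalizer ((P : Subgroup X) : Set X)) = 10) ∧
    (p = 7 → Nat.card (P : Subgroup X) = 7 ^ 1 ∧ Nat.card (normalizer ((P : Subgroup X) : Set X)) = 21) := by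
  have hcard := card h
  set N := Nat.card (normalizer ((P : Subgroup X) : Set X)) with hN
  set n := Nat.card (Sylow p X) with hn
  have hmul : N * n = 20160 := by
    rw [hN, hn, P.card_eq_index_normalizer]
    exact (Subgroup.card_mul_index _).trans hcard
  have hmod : n ≡ 1 [MOD p] := card_sylow_modEq_one p X
  have hdvd : ∀ (q a : ℕ), q.Prime → p ≠ q → q ^ a ∣ N → q ^ a ∣ Nat.card (P : Subgroup X) - 1 := fun q a hq hne hd =>
    CfsgLib.Recog.SmallOrders.prime_pow_dvd_sub_one (prime_pow_orders h) P.2 hq hne hd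
  have hPN : Nat.card (P : Subgroup X) ∣ N := card_dvd_of_le le_normalizer
  have hNd : N ∣ 20160 := ⟨n, hmul.symm⟩
  unfold Nat.ModEq at hmod
  clear_value N
  refine ⟨?_, ?_, ?_⟩ <;> intro hp' <;> subst hp'
  · have hc : Nat.card (P : Subgroup X) = 3 ^ 2 := by
      rw [Sylow.card_eq_multiplicity, hcard, show (20160 : ℕ) = 3 ^ 2 * 2240 from rfl,
        Nat.factorization_mul (by norm_num) (by norm_num), Finsupp.add_apply,
        Nat.Prime.factorization_pow Nat.prime_three, Finsupp.single_eq_same,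
        Nat.factorization_eq_zero_of_not_dvd (by norm_num)]
    refine ⟨hc, ?_⟩
    rw [hc] at hPN hdvd
    have h5 : ¬ 5 ^ 1 ∣ N := fun hd => absurd (hdvd 5 1 (by norm_num) (by norm_num) hd) (by norm_num)
    have h7 : ¬ 7 ^ 1 ∣ N := fun hd => absurd (hdvd 7 1 (by norm_num) (by norm_num) hd) (by norm_num)
    have h16 : ¬ 2 ^ 4 ∣ N := fun hd => absurd (hdvd 2 4 Nat.prime_two (by norm_num) hd) (by norm_num)
    have h72 : N ∣ 72 := by
      have c5 : N.Coprime 5 := ((Nat.Prime.coprime_iff_not_dvd (by norm_num)).2 (by simpa using h5)).symm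
      have c7 : N.Coprime 7 := ((Nat.Prime.coprime_iff_not_dvd (by norm_num)).2 (by simpa using h7)).symm
      have h576 : N ∣ 576 := c7.dvd_of_dvd_mul_right (c5.dvd_of_dvd_mul_right hNd)
      obtain ⟨m, rfl⟩ : 9 ∣ N := hPN
      have hm : m ∣ 2 ^ 6 := Nat.dvd_of_mul_dvd_mul_left (by norm_num : 0 < 9) (by simpa using h576)
      obtain ⟨a, ha, rfl⟩ := (Nat.dvd_prime_pow Nat.prime_two).1 hm
      refine Nat.mul_dvd_mul_left 9 (pow_dvd_pow 2 (?_ : a ≤ 3))
      by_contra hlt
      exact h16 ((pow_dvd_pow 2 (by omega : 4 ≤ a)).trans (dvd_mul_left _ _))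
    have hle := Nat.le_of_dvd (by norm_num) h72
    simp only [List.mem_cons, List.not_mem_nil, or_false]
    interval_cases N <;> omega
  · have hc : Nat.card (P : Subgroup X) = 5 ^ 1 := by
      rw [Sylow.card_eq_multiplicity, hcard, show (20160 : ℕ) = 5 ^ 1 * 4032 from rfl,
        Nat.factorization_mul (by norm_num) (by norm_num), Finsupp.add_apply,
        Nat.Prime.factorization_pow (by norm_num : Nat.Prime 5), Finsupp.single_eq_same,
        Nat.factorization_eq_zero_of_not_dvd (by norm_num)]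
    refine ⟨hc, ?_⟩
    rw [hc] at hPN hdvd
    have h3 : ¬ 3 ^ 1 ∣ N := fun hd => absurd (hdvd 3 1 Nat.prime_three (by norm_num) hd) (by norm_num)
    have h7 : ¬ 7 ^ 1 ∣ N := fun hd => absurd (hdvd 7 1 (by norm_num) (by norm_num) hd) (by norm_num)
    have h8 : ¬ 2 ^ 3 ∣ N := fun hd => absurd (hdvd 2 3 Nat.prime_two (by norm_num) hd) (by norm_num)
    have h20 : N ∣ 20 := by
      have c9 : N.Coprime (3 ^ 2) := (((Nat.Prime.coprime_iff_not_dvd Nat.prime_three).2 (by simpa using h3)).symm).pow_right 2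
      have c7 : N.Coprime 7 := ((Nat.Prime.coprime_iff_not_dvd (by norm_num)).2 (by simpa using h7)).symm
      have h320 : N ∣ 320 := c7.dvd_of_dvd_mul_right (c9.dvd_of_dvd_mul_right hNd)
      obtain ⟨m, rfl⟩ : 5 ∣ N := hPN
      have hm : m ∣ 2 ^ 6 := Nat.dvd_of_mul_dvd_mul_left (by norm_num : 0 < 5) (by simpa using h320)
      obtain ⟨a, ha, rfl⟩ := (Nat.dvd_prime_pow Nat.prime_two).1 hm
      refine Nat.mul_dvd_mul_left 5 (pow_dvd_pow 2 (?_ : a ≤ 2))
      by_contra hlt
      exact h8 ((pow_dvd_pow 2 (by omega : 3 ≤ a)).trans (dvd_mul_left _ _))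
    have hle := Nat.le_of_dvd (by norm_num) h20
    interval_cases N <;> omega
  · have hc : Nat.card (P : Subgroup X) = 7 ^ 1 := by
      rw [Sylow.card_eq_multiplicity, hcard, show (20160 : ℕ) = 7 ^ 1 * 2880 from rfl,
        Nat.factorization_mul (by norm_num) (by norm_num), Finsupp.add_apply,
        Nat.Prime.factorization_pow (by norm_num : Nat.Prime 7), Finsupp.single_eq_same,
        Nat.factorization_eq_zero_of_not_dvd (by norm_num)]
    refine ⟨hc, ?_⟩
    rw [hc] at hPN hdvd
    have h5 : ¬ 5 ^ 1 ∣ N := fun hd => absurd (hdvd 5 1 (by norm_num) (by norm_num) hd) (by norm_num)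
    have h9 : ¬ 3 ^ 2 ∣ N := fun hd => absurd (hdvd 3 2 Nat.prime_three (by norm_num) hd) (by norm_num)
    have h4 : ¬ 2 ^ 2 ∣ N := fun hd => absurd (hdvd 2 2 Nat.prime_two (by norm_num) hd) (by norm_num)
    have h42 : N ∣ 42 := by
      have c5 : N.Coprime 5 := ((Nat.Prime.coprime_iff_not_dvd (by norm_num)).2 (by simpa using h5)).symm
      have h : N ∣ 2 ^ 6 * 3 ^ 2 * 7 := c5.dvd_of_dvd_mul_right (by simpa using hNd)
      obtain ⟨a, b, ha, hb, rfl⟩ := Nat.dvd_mul.1 h
      obtain ⟨a1, a2, ha1, ha2, rfl⟩ := Nat.dvd_mul.1 ha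
      obtain ⟨i, hi, rfl⟩ := (Nat.dvd_prime_pow Nat.prime_two).1 ha1
      obtain ⟨j, hj, rfl⟩ := (Nat.dvd_prime_pow Nat.prime_three).1 ha2
      have hi1 : i ≤ 1 := by
        by_contra hlt
        exact h4 (((pow_dvd_pow 2 (by omega : 2 ≤ i)).trans (dvd_mul_right _ _)).trans (dvd_mul_right _ _))
      have hj1 : j ≤ 1 := by
        by_contra hlt
        exact h9 (((pow_dvd_pow 3 (by omega : 2 ≤ j)).trans (dvd_mul_left _ _)).trans (dvd_mul_right _ _))
      exact Nat.mul_dvd_mul (Nat.mul_dvd_mul (pow_dvd_pow 2 hi1) (pow_dvd_pow 3 hj1)) hb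
    have hle := Nat.le_of_dvd (by norm_num) h42
    interval_cases N <;> omega

/-- Centralizers of elements of order 3, 5, 7. -/
theorem card_centralizer_odd {g : X} {q : ℕ} (hq : q = 3 ∨ q = 5 ∨ q = 7) (hg : orderOf g = q) :
    Nat.card (centralizer ({g} : Set X)) = if q = 3 then 9 else q := by
  haveI : Fact q.Prime := ⟨by rcases hq with rfl | rfl | rfl <;> norm_num⟩
  obtain ⟨P, hP⟩ := IsPGroup.exists_le_sylow (IsPGroup.of_card (n := 1) (G := zpowers g)
    (by rw [Nat.card_zpowers, hg, pow_one]))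
  have hg1 : g ≠ 1 := fun e => by rw [e, orderOf_one] at hg; omega
  obtain ⟨d3, d5, d7⟩ := sylow_data h P
  rcases hq with rfl | rfl | rfl
  · rw [centralizer_eq h (k := 2) le_rfl (by norm_num) P (d3 rfl).1 (hP (mem_zpowers g)) hg1, (d3 rfl).1]
    rfl
  · rw [centralizer_eq h (k := 1) (by norm_num) (by norm_num) P (d5 rfl).1 (hP (mem_zpowers g)) hg1, (d5 rfl).1]
    rfl
  · rw [centralizer_eq h (k := 1) (by norm_num) (by norm_num) P (d7 rfl).1 (hP (mem_zpowers g)) hg1, (d7 rfl).1]
    rfl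

/-- The number of elements of order `q`. -/
theorem card_order_mul (q k : ℕ) [hq : Fact q.Prime] (hk : 1 ≤ k) (hk2 : k ≤ 2) (hq2 : q ≠ 2)
    (hP : ∀ P : Sylow q X, Nat.card (P : Subgroup X) = q ^ k) :
    Nat.card {g : X // orderOf g = q} = Nat.card (Sylow q X) * (q ^ k - 1) := by
  classical
  haveI := Fintype.ofFinite X
  have hord : ∀ (P : Sylow q X) (x : X), x ∈ (P : Subgroup X) → x ≠ 1 → orderOf x = q := by
    intro P x hx hx1
    obtain ⟨j, hj⟩ := IsPGroup.iff_orderOf.1 P.2 ⟨x, hx⟩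
    rw [Subgroup.orderOf_mk] at hj
    have h1 := orders h x
    have h2 : j ≠ 0 := fun e => hx1 (orderOf_eq_one_iff.1 (by rw [hj, e, pow_zero]))
    rw [hj] at h1 ⊢
    rcases Nat.lt_or_ge j 2 with hj2 | hj2
    · rw [show j = 1 by omega, pow_one]
    exfalso
    have h9 : q ^ 2 ≤ q ^ j := Nat.pow_le_pow_right hq.out.pos hj2
    have h3 : 3 ≤ q := lt_of_le_of_ne hq.out.two_le (Ne.symm hq2)
    simp only [List.mem_cons, List.not_mem_nil, or_false] at h1
    have h9' : 9 ≤ q ^ 2 := by nlinarith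
    omega
  let f : (Σ P : Sylow q X, {x : (P : Subgroup X) // x ≠ 1}) → {g : X // orderOf g = q} := fun s =>
    ⟨(s.2.1 : X), hord s.1 _ s.2.1.2 fun e => s.2.2 (Subtype.ext e)⟩
  have hf : Function.Bijective f := by
    constructor
    · rintro ⟨P, x⟩ ⟨P', x'⟩ e
      have e' : (x.1 : X) = x'.1 := congrArg Subtype.val e
      obtain rfl : P = P' := Sylow.ext ((centralizer_eq h hk2 hq2 P (hP P) x.1.2
        fun e => x.2 (Subtype.ext e)).symm.trans (e' ▸ centralizer_eq h hk2 hq2 P' (hP P') x'.1.2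
        fun e => x'.2 (Subtype.ext e)))
      exact Sigma.ext rfl (heq_of_eq (Subtype.ext (Subtype.ext e')))
    · rintro ⟨g, hg⟩
      obtain ⟨P, hP'⟩ := IsPGroup.exists_le_sylow (IsPGroup.of_card (n := 1) (G := zpowers g)
        (by rw [Nat.card_zpowers, hg, pow_one]))
      exact ⟨⟨P, ⟨g, hP' (mem_zpowers g)⟩, fun e => by
        rw [show g = 1 from congrArg Subtype.val e, orderOf_one] at hg
        exact hq.out.one_lt.ne hg⟩, rfl⟩
  rw [← Nat.card_eq_of_bijective f hf, Nat.card_sigma, Finset.sum_congr rfl (g := fun _ => q ^ k - 1) (fun P _ => by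
    rw [Nat.card_eq_fintype_card, Fintype.card_subtype_compl, Fintype.card_subtype_eq, ← Nat.card_eq_fintype_card,
      hP P]), Finset.sum_const, smul_eq_mul, Finset.card_univ, Nat.card_eq_fintype_card]

theorem card_orders : Nat.card {g : X // orderOf g = 3} = 2240 ∧ Nat.card {g : X // orderOf g = 5} = 8064 ∧
    Nat.card {g : X // orderOf g = 7} = 5760 ∧
    ∀ P : Sylow 3 X, Nat.card (normalizer ((P : Subgroup X) : Set X)) = 72 := by
  classical
  haveI : Fact (Nat.Prime 3) := ⟨Nat.prime_three⟩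
  haveI : Fact (Nat.Prime 5) := ⟨by norm_num⟩
  haveI : Fact (Nat.Prime 7) := ⟨by norm_num⟩
  obtain ⟨P3⟩ : Nonempty (Sylow 3 X) := inferInstance
  obtain ⟨P5⟩ : Nonempty (Sylow 5 X) := inferInstance
  obtain ⟨P7⟩ : Nonempty (Sylow 7 X) := inferInstance
  have c3 := card_order_mul h 3 2 (by norm_num) le_rfl (by norm_num) fun P => ((sylow_data h P).1 rfl).1
  have c5 := card_order_mul h 5 1 le_rfl (by norm_num) (by norm_num) fun P => ((sylow_data h P).2.1 rfl).1
  have c7 := card_order_mul h 7 1 le_rfl (by norm_num) (by norm_num) fun P => ((sylow_data h P).2.2 rfl).1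
  have hm : ∀ {q : ℕ} [Fact q.Prime] (P : Sylow q X),
      Nat.card (normalizer ((P : Subgroup X) : Set X)) * Nat.card (Sylow q X) = 20160 := fun P => by
    rw [P.card_eq_index_normalizer]
    exact (Subgroup.card_mul_index _).trans (card h)
  have m3 := hm P3
  have m5 := hm P5
  have m7 := hm P7
  rw [((sylow_data h P5).2.1 rfl).2] at m5
  rw [((sylow_data h P7).2.2 rfl).2] at m7
  have h1 : Nat.card {g : X // orderOf g = 3} + Nat.card {g : X // orderOf g = 5} +
      Nat.card {g : X // orderOf g = 7} ≤ 20160 := by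
    rw [← card h, ← Nat.card_sum, ← Nat.card_sum]
    refine Nat.card_le_card_of_injective (Sum.elim (Sum.elim Subtype.val Subtype.val) Subtype.val) ?_
    rintro ((⟨a, ha⟩ | ⟨a, ha⟩) | ⟨a, ha⟩) ((⟨b, hb⟩ | ⟨b, hb⟩) | ⟨b, hb⟩) e
    all_goals
      simp only [Sum.elim_inl, Sum.elim_inr] at e
      subst e
      first
      | rfl
      | exact absurd (ha.symm.trans hb) (by norm_num)
  have h3 := ((sylow_data h P3).1 rfl).2
  simp only [List.mem_cons, List.not_mem_nil, or_false] at h3
  have e3 : Nat.card (normalizer ((P3 : Subgroup X) : Set X)) = 72 := by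
    rcases h3 with e | e
    · rw [e] at m3; omega
    · exact e
  rw [e3] at m3
  refine ⟨by omega, by omega, by omega, fun P => ?_⟩
  have := hm P
  rw [show Nat.card (Sylow 3 X) = 280 by omega] at this
  omega

/-- Elements of order 3 and 5 are inverted by involutions. -/
theorem exists_inverting {g : X} (hg : orderOf g = 3 ∨ orderOf g = 5) :
    ∃ i : X, orderOf i = 2 ∧ i * g * i⁻¹ = g⁻¹ := by
  classical
  obtain ⟨q, hq, hgq, hsmall⟩ : ∃ q, q.Prime ∧ orderOf g = q ∧ (q = 3 ∨ q = 5) :=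
    ⟨orderOf g, by rcases hg with e | e <;> rw [e] <;> norm_num, rfl, hg⟩
  haveI := Fact.mk hq
  obtain ⟨P, hP⟩ := IsPGroup.exists_le_sylow (IsPGroup.of_card (n := 1) (G := zpowers g)
    (by rw [Nat.card_zpowers, hgq, pow_one]))
  have heven : 2 ∣ Nat.card (normalizer ((P : Subgroup X) : Set X)) := by
    rcases hsmall with rfl | rfl
    · rw [(card_orders h).2.2.2 P]; norm_num
    · rw [((sylow_data h P).2.1 rfl).2]; norm_num
  obtain ⟨i, hi⟩ := exists_prime_orderOf_dvd_card' 2 (hp := ⟨Nat.prime_two⟩) heven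
  refine ⟨i, by rw [Subgroup.orderOf_coe, hi], ?_⟩
  have hodd : Odd (Nat.card (P : Subgroup X)) := by
    obtain ⟨j, hj⟩ := IsPGroup.iff_card.1 P.2
    rw [hj]
    exact (hq.odd_of_ne_two (by rcases hsmall with rfl | rfl <;> norm_num)).pow
  exact ((cit h).inverted_odd hodd (by rw [Subgroup.orderOf_coe, hi] : orderOf (i : X) = 2)
    (fun y hy => (mem_normalizer_iff.1 i.2 y).1 hy)).1 g (hP (mem_zpowers g))

/-- Elements of order 7 are not inverted. -/
theorem not_inverted_seven {g : X} (hg : orderOf g = 7) (y : X) : y * g * y⁻¹ ≠ g⁻¹ := by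
  intro hy
  haveI : Fact (Nat.Prime 7) := ⟨by norm_num⟩
  obtain ⟨P, hP⟩ := IsPGroup.exists_le_sylow (IsPGroup.of_card (n := 1) (G := zpowers g)
    (by rw [Nat.card_zpowers, hg, pow_one]))
  obtain ⟨hc, hN⟩ := (sylow_data h P).2.2 rfl
  have heq : zpowers g = (P : Subgroup X) :=
    eq_of_le_of_card_ge hP (by rw [Nat.card_zpowers, hg, hc, pow_one])
  have hyN : y ∈ normalizer ((P : Subgroup X) : Set X) := by
    rw [← heq, CfsgLib.CIT.mem_normalizer_iff_cj, CfsgLib.CIT.cj, MonoidHom.map_zpowers]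
    show zpowers (y * g * y⁻¹) = _
    rw [hy, zpowers_inv]
  have ho : orderOf (⟨y, hyN⟩ : normalizer ((P : Subgroup X) : Set X)) ∣ 21 := hN ▸ orderOf_dvd_natCard _
  rw [Subgroup.orderOf_mk] at ho
  have h21 : y ^ 21 = 1 := orderOf_dvd_iff_pow_eq_one.1 ho
  have h2 : y * y * g * (y * y)⁻¹ = g := by
    calc y * y * g * (y * y)⁻¹ = y * (y * g * y⁻¹) * y⁻¹ := by group
      _ = y * g⁻¹ * y⁻¹ := by rw [hy]
      _ = (y * g * y⁻¹)⁻¹ := conj_inv.symm
      _ = g := by rw [hy, inv_inv]
  have hc2 : Commute (y * y) g := mul_inv_eq_iff_eq_mul.1 h2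
  have hc20 : Commute (y ^ 20) g := by
    have := hc2.pow_left 10
    rwa [← pow_two, ← pow_mul] at this
  have e : g⁻¹ = g := by
    calc g⁻¹ = y * g * y⁻¹ := hy.symm
      _ = y * (y ^ 20 * g * (y ^ 20)⁻¹) * y⁻¹ := by rw [hc20.eq, mul_inv_cancel_right]
      _ = y ^ 21 * g * (y ^ 21)⁻¹ := by rw [pow_succ' y 20, mul_inv_rev]; simp only [mul_assoc]
      _ = g := by rw [h21, one_mul, inv_one, mul_one]
  have h3 : g ^ 2 = 1 := by rw [pow_two]; exact mul_eq_one_iff_eq_inv.2 e.symm
  have h4 := orderOf_dvd_of_pow_eq_one h3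
  rw [hg] at h4
  norm_num at h4

/-- An involution inverts 193 elements of odd order. -/
theorem card_inverted {i : X} (hi : orderOf i = 2) :
    Nat.card {g : X // Odd (orderOf g) ∧ i * g * i⁻¹ = g⁻¹} = 193 := by
  classical
  haveI := Fintype.ofFinite X
  set I := (Finset.univ : Finset X).filter fun j => orderOf j = 2 with hI
  set R : X → Finset X := fun g => I.filter fun j => j * g * j⁻¹ = g⁻¹ with hR
  set A : X → Finset X := fun j => (Finset.univ : Finset X).filter fun g => Odd (orderOf g) ∧ j * g * j⁻¹ = g⁻¹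
    with hA
  have hAc : ∀ j ∈ I, (A j).card = (A i).card := by
    intro j hj
    rw [hI, Finset.mem_filter] at hj
    obtain ⟨c, rfl⟩ := isConj_iff.1 (invol_conj h hi hj.2)
    refine Finset.card_bij' (fun g _ => c⁻¹ * g * c) (fun g _ => c * g * c⁻¹) ?_ ?_ ?_ ?_
    · intro g hg
      simp only [hA, Finset.mem_filter, Finset.mem_univ, true_and] at hg ⊢
      refine ⟨by have := (MulAut.conj c⁻¹).orderOf_eq g; simp only [MulAut.conj_apply, inv_inv] at this; rw [this]; exact hg.1, ?_⟩
      calc i * (c⁻¹ * g * c) * i⁻¹ = c⁻¹ * (c * i * c⁻¹ * g * (c * i * c⁻¹)⁻¹) * c := by group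
        _ = _ := by rw [hg.2]; group
    · intro g hg
      simp only [hA, Finset.mem_filter, Finset.mem_univ, true_and] at hg ⊢
      refine ⟨by have := (MulAut.conj c).orderOf_eq g; simp only [MulAut.conj_apply] at this; rw [this]; exact hg.1, ?_⟩
      calc c * i * c⁻¹ * (c * g * c⁻¹) * (c * i * c⁻¹)⁻¹ = c * (i * g * i⁻¹) * c⁻¹ := by group
        _ = _ := by rw [hg.2]; group
    · intro g _; group
    · intro g _; group
  have hdouble : ∑ j ∈ I, (A j).card = ∑ g ∈ (Finset.univ : Finset X).filter (fun g => Odd (orderOf g)), (R g).card := by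
    simp only [hA, hR, Finset.card_filter]
    rw [Finset.sum_comm]
    rw [Finset.sum_filter]
    refine Finset.sum_congr rfl fun g _ => ?_
    by_cases ho : Odd (orderOf g) <;> simp [ho]
  rw [Finset.sum_congr rfl hAc, Finset.sum_const, smul_eq_mul] at hdouble
  have hIc : I.card = 315 := by
    rw [hI, ← Fintype.card_subtype, ← Nat.card_eq_fintype_card, card_invol h]
  -- the number of involutions inverting a given element
  have hRg : ∀ g : X, (orderOf g = 3 ∨ orderOf g = 5) → (R g).card = Nat.card (centralizer ({g} : Set X)) := by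
    intro g hg
    obtain ⟨j0, hj0, hj0g⟩ := exists_inverting h hg
    have hodd : Odd (Nat.card (centralizer ({g} : Set X))) := by
      rcases hg with e | e <;> rw [card_centralizer_odd h (by omega) e] <;> decide
    have hn : ∀ c ∈ centralizer ({g} : Set X), j0 * c * j0⁻¹ ∈ centralizer ({g} : Set X) := by
      intro c hc
      rw [mem_centralizer_singleton_iff] at hc ⊢
      have h1 : Commute (j0 * c * j0⁻¹) (j0 * g⁻¹ * j0⁻¹) := ((show Commute c g from hc).inv_right).map (MulAut.conj j0)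
      have h2 : j0 * g⁻¹ * j0⁻¹ = g := by
        rw [show j0 * g⁻¹ * j0⁻¹ = (j0 * g * j0⁻¹)⁻¹ by group, hj0g, inv_inv]
      rw [h2] at h1
      exact h1.eq
    have hinv := ((cit h).inverted_odd hodd hj0 hn).1
    have hj2 : j0 * j0 = 1 := by rw [← pow_two, ← hj0, pow_orderOf_eq_one]
    rw [Nat.card_eq_fintype_card, Fintype.card_subtype]
    refine (Finset.card_bij' (fun c _ => j0 * c) (fun j _ => j0 * j) ?_ ?_ ?_ ?_).symm
    · intro c hc
      simp only [Finset.mem_filter, Finset.mem_univ, true_and] at hc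
      have hcg : c * g = g * c := mem_centralizer_singleton_iff.1 hc
      have hic := hinv c hc
      simp only [hR, hI, Finset.mem_filter, Finset.mem_univ, true_and]
      refine ⟨orderOf_eq_prime ?_ ?_, ?_⟩
      · calc (j0 * c) ^ 2 = j0 * c * j0⁻¹ * (j0 * j0) * c := by rw [pow_two]; group
          _ = 1 := by rw [hic, hj2]; group
      · intro e
        have hjc : j0 ∈ centralizer ({g} : Set X) := by
          rw [eq_inv_of_mul_eq_one_left e]
          exact inv_mem hc
        exact Nat.not_even_iff_odd.2 hodd (even_iff_two_dvd.2 (hj0 ▸ Subgroup.orderOf_dvd_natCard _ hjc))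
      · calc j0 * c * g * (j0 * c)⁻¹ = j0 * (c * g * c⁻¹) * j0⁻¹ := by group
          _ = g⁻¹ := by rw [hcg, mul_inv_cancel_right, hj0g]
    · intro j hj
      simp only [hR, hI, Finset.mem_filter, Finset.mem_univ, true_and] at hj
      simp only [Finset.mem_filter, Finset.mem_univ, true_and]
      refine mem_centralizer_singleton_iff.2 (mul_inv_eq_iff_eq_mul.1 ?_)
      calc j0 * j * g * (j0 * j)⁻¹ = j0 * (j * g * j⁻¹) * j0⁻¹ := by group
        _ = (j0 * g * j0⁻¹)⁻¹ := by rw [hj.2]; group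
        _ = g := by rw [hj0g, inv_inv]
    · intro c _; rw [← mul_assoc, hj2, one_mul]
    · intro j _; rw [← mul_assoc, hj2, one_mul]
  have hterm : ∀ g : X, Odd (orderOf g) → (R g).card = (if g = 1 then 315 else 0) + (if orderOf g = 3 then 9 else 0) +
      (if orderOf g = 5 then 5 else 0) := by
    intro g ho
    by_cases hg1 : g = 1
    · subst hg1
      have e : R 1 = I := Finset.filter_true_of_mem fun j _ => by simp
      simp [e, hIc]
    have h1 := orders h g
    have h2 : orderOf g ≠ 1 := fun e => hg1 (orderOf_eq_one_iff.1 e)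
    simp only [List.mem_cons, List.not_mem_nil, or_false] at h1
    rw [if_neg hg1, zero_add]
    rcases h1 with e | e | e | e | e | e
    · exact absurd e h2
    · rw [e] at ho; exact absurd ho (by decide)
    · rw [hRg g (Or.inl e), card_centralizer_odd h (Or.inl rfl) e, e]; rfl
    · rw [e] at ho; exact absurd ho (by decide)
    · rw [hRg g (Or.inr e), card_centralizer_odd h (Or.inr (Or.inl rfl)) e, e]; rfl
    · rw [e, if_neg (by norm_num), if_neg (by norm_num), Finset.card_eq_zero]
      exact Finset.filter_eq_empty_iff.2 fun j _ => not_inverted_seven h e j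
  obtain ⟨n3, n5, -, -⟩ := card_orders h
  rw [Nat.card_eq_fintype_card, Fintype.card_subtype] at n3 n5
  have hsum : ∑ g ∈ (Finset.univ : Finset X).filter (fun g => Odd (orderOf g)), (R g).card =
      315 + 9 * 2240 + 5 * 8064 := by
    rw [Finset.sum_congr rfl fun g hg => hterm g (Finset.mem_filter.1 hg).2, Finset.sum_add_distrib,
      Finset.sum_add_distrib, ← Finset.sum_filter, ← Finset.sum_filter, ← Finset.sum_filter,
      Finset.sum_const, Finset.sum_const, Finset.sum_const, smul_eq_mul, smul_eq_mul, smul_eq_mul,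
      Finset.filter_filter, Finset.filter_filter, Finset.filter_filter]
    have e1 : ((Finset.univ : Finset X).filter fun g => Odd (orderOf g) ∧ g = 1).card = 1 := by
      rw [Finset.card_eq_one]
      refine ⟨1, Finset.ext fun g => ?_⟩
      simp only [Finset.mem_filter, Finset.mem_univ, true_and, Finset.mem_singleton]
      exact ⟨fun e => e.2, fun e => ⟨by rw [e, orderOf_one]; decide, e⟩⟩
    have e3 : ∀ q : ℕ, Odd q → ((Finset.univ : Finset X).filter fun g => Odd (orderOf g) ∧ orderOf g = q) =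
        (Finset.univ : Finset X).filter fun g => orderOf g = q := fun q hq =>
      Finset.filter_congr fun g _ => ⟨fun e => e.2, fun e => ⟨e ▸ hq, e⟩⟩
    rw [e1, e3 3 (by decide), e3 5 (by decide), n3, n5]
  rw [hdouble.symm, hIc] at hsum
  rw [Nat.card_eq_fintype_card, Fintype.card_subtype]
  change (A i).card = 193
  omega

/-- A subgroup of order 7 is its own centralizer. -/
theorem centralizer_seven {g : X} (hg : orderOf g = 7) : centralizer ({g} : Set X) = zpowers g := by
  refine (eq_of_le_of_card_ge (fun y hy => ?_) ?_).symm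
  · obtain ⟨n, rfl⟩ := mem_zpowers_iff.1 hy
    exact mem_centralizer_singleton_iff.2 ((Commute.refl g).zpow_left n).eq
  · rw [card_centralizer_odd h (Or.inr (Or.inr rfl)) hg, Nat.card_zpowers, hg]; rfl

end LFour

end CfsgLib.LocalEvenB.SuzType
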