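import Cfsg.Agent.Lib.CIT.Simple
import Cfsg.Agent.Lib.CIT.AlmostSimple
import Cfsg.Agent.Lib.Recog.CITPrimeGraph.Basic
import Cfsg.Agent.Lib.Known.L34.Upper

/-!
A CIT group with Sylow 2-subgroup of order 64 with two independent central involutions `z`, `x` and a witness of
non-solvability at `z` is `PSL(3, 4)` (owner: helper8).
-/

set_option autoImplicit false
set_option linter.all false

namespace CfsgLib.LocalEvenB.SuzType

open Subgroup
open CfsgLib.CIT (CIT IsSyl TISylow IsPSLThreeFour)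

universe u

variable {X : Type u} [Group X]

/-- An involution `z` and elements moving it to `z * a` and `z * a'` with `z` the commutator of `a` and `a'`. -/
structure Witness (z a a' β β' : X) : Prop where
  sq : z * z = 1
  ne : z ≠ 1
  move : β * z * β⁻¹ = z * a
  move' : β' * z * β'⁻¹ = z * a'
  comm : a * a' * a⁻¹ * a'⁻¹ = z

namespace Witness

variable {z a a' β β' : X} (W : Witness z a a' β β')
include W

theorem mem_of_move {N : Subgroup X} (hz : z ∈ N) (hb : β * z * β⁻¹ ∈ N) : a ∈ N := by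
  have h := N.mul_mem hz hb
  rwa [W.move, ← mul_assoc, W.sq, one_mul] at h

theorem mem_of_move' {N : Subgroup X} (hz : z ∈ N) (hb : β' * z * β'⁻¹ ∈ N) : a' ∈ N := by
  have h := N.mul_mem hz hb
  rwa [W.move', ← mul_assoc, W.sq, one_mul] at h

/-- A subgroup through `z` normalized by the two moving elements is not solvable. -/
theorem not_solvable (N : Subgroup X) (hz : z ∈ N) (hb : N.map (MulAut.conj β).toMonoidHom = N)
    (hb' : N.map (MulAut.conj β').toMonoidHom = N) : ¬ Group.IsSolvable N := by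
  intro hs
  obtain ⟨n, hn⟩ := (Group.isSolvable_def N).1 hs
  have key : ∀ m : ℕ, z ∈ (derivedSeries N m).map N.subtype ∧
      ((derivedSeries N m).map N.subtype).map (MulAut.conj β).toMonoidHom = (derivedSeries N m).map N.subtype ∧
      ((derivedSeries N m).map N.subtype).map (MulAut.conj β').toMonoidHom = (derivedSeries N m).map N.subtype := by
    intro m
    induction m with
    | zero =>
      rw [derivedSeries_zero, ← MonoidHom.range_eq_map, range_subtype]
      exact ⟨hz, hb, hb'⟩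
    | succ m ih =>
      obtain ⟨h1, h2, h3⟩ := ih
      rw [derivedSeries_succ, map_commutator]
      refine ⟨?_, by rw [map_commutator, h2], by rw [map_commutator, h3]⟩
      have ha := W.mem_of_move h1 (h2.le ⟨z, h1, rfl⟩)
      have ha' := W.mem_of_move' h1 (h3.le ⟨z, h1, rfl⟩)
      have h := commutator_mem_commutator ha ha'
      rwa [commutatorElement_def, W.comm] at h
  obtain ⟨h1, -, -⟩ := key n
  rw [hn, Subgroup.map_bot, mem_bot] at h1
  exact W.ne h1

/-- Versions for normal subgroups. -/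
theorem not_solvable_normal (N : Subgroup X) [N.Normal] (hz : z ∈ N) : ¬ Group.IsSolvable N :=
  W.not_solvable N hz (CfsgLib.CIT.mem_normalizer_iff_cj.1 (by rw [normalizer_eq_top]; exact mem_top _))
    (CfsgLib.CIT.mem_normalizer_iff_cj.1 (by rw [normalizer_eq_top]; exact mem_top _))

theorem mem_of_quotient (L : Subgroup X) [L.Normal] [Group.IsSolvable (X ⧸ L)] : z ∈ L := by
  by_contra hz
  have hne : (QuotientGroup.mk' L z) ≠ 1 := fun e => hz ((QuotientGroup.eq_one_iff z).1 e)
  have W' : Witness (QuotientGroup.mk' L z) (QuotientGroup.mk' L a) (QuotientGroup.mk' L a')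
      (QuotientGroup.mk' L β) (QuotientGroup.mk' L β') :=
    ⟨by rw [← map_mul, W.sq, map_one], hne, by rw [← map_inv, ← map_mul, ← map_mul, W.move, map_mul],
      by rw [← map_inv, ← map_mul, ← map_mul, W.move', map_mul],
      by rw [← map_inv, ← map_inv, ← map_mul, ← map_mul, ← map_mul, W.comm]⟩
  exact W'.not_solvable_normal ⊤ (mem_top _) inferInstance

end Witness

variable [Finite X]

/-- The recognition of the centralizer quotient. -/
theorem isPSLThreeFour_of_witness (hC : CIT X) {T : Subgroup X} (hT : IsSyl T ⊤) (hT64 : Nat.card T = 64)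
    {z x a a' β β' : X} (W : Witness z a a' β β') (hzT : z ∈ T) (hxT : x ∈ T) (haT : a ∈ T) (ha'T : a' ∈ T)
    (hzc : ∀ s ∈ T, Commute s z) (hxc : ∀ s ∈ T, Commute s x) (hx1 : x ≠ 1) (hxz : x ≠ z)
    (hreach : ∀ S : Subgroup X, z ∈ S → a ∈ S → a' ∈ S → (∀ s ∈ T, ∀ y ∈ S, s * y * s⁻¹ ∈ S) → x ∈ S) :
    IsPSLThreeFour X := by
  classical
  haveI : Fact (Nat.Prime 2) := ⟨Nat.prime_two⟩
  have h2 : 2 ∣ Nat.card X := (hT64 ▸ (by norm_num : 2 ∣ 64)).trans T.card_subgroup_dvd_card
  have hns : ¬ Group.IsSolvable X := fun h => W.not_solvable_normal ⊤ (mem_top z) inferInstance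
  -- the 2-core is trivial
  have hcore : Cfsg.pCore 2 X = ⊥ := by
    by_contra hne
    set R := Cfsg.pCore 2 X with hR
    have hR2 : IsPGroup 2 R := CfsgLib.Core.isPGroup_pCore 2 X
    haveI : R.Normal := by rw [hR]; infer_instance
    have hRT : R ≤ T := by
      have h := hT.2.2 (T ⊔ R) le_sup_left le_top (hT.2.1.to_sup_of_normal_right hR2)
      exact h ▸ le_sup_right
    obtain ⟨f, hf, hf1⟩ := R.bot_or_exists_ne_one.resolve_left hne
    obtain ⟨k, hk⟩ := CfsgLib.CIT.orderOf_two_pow_of_mem hR2 hf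
    obtain ⟨N, hN⟩ : ∃ N, N = normalClosure ({z} : Set X) := ⟨_, rfl⟩
    haveI : N.Normal := hN ▸ normalClosure_normal
    have hle : N ≤ centralizer ({f} : Set X) := by
      rw [hN, normalClosure, closure_le]
      intro y hy
      obtain ⟨z', hz', hc⟩ := Group.mem_conjugatesOfSet_iff.1 hy
      rw [Set.mem_singleton_iff.1 hz'] at hc
      obtain ⟨g, rfl⟩ := isConj_iff.1 hc
      have h1 : Commute (g⁻¹ * f * g⁻¹⁻¹) z := hzc _ (hRT (Subgroup.Normal.conj_mem inferInstance f hf g⁻¹))
      have h2 : Commute (g * (g⁻¹ * f * g⁻¹⁻¹) * g⁻¹) (g * z * g⁻¹) := h1.map (MulAut.conj g)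
      rw [show g * (g⁻¹ * f * g⁻¹⁻¹) * g⁻¹ = f by group] at h2
      exact mem_centralizer_singleton_iff.2 h2.symm.eq
    haveI := ((hC.centralizer_pGroup hk hf1).to_le hle).isNilpotent
    exact W.not_solvable_normal N (hN ▸ subset_normalClosure rfl) inferInstance
  obtain ⟨L, hLn, hLs, hna, hL2⟩ := CfsgLib.Recog.CITGraph.exists_simple_normal hC h2 hns hcore
  haveI := hLn
  haveI := hLs
  -- the quotient is a 2-group
  obtain ⟨u, huL, hu, hsp⟩ := CfsgLib.CIT.exists_split hC hna hL2
  have hQ : IsPGroup 2 (X ⧸ L) := by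
    intro y
    obtain ⟨g, rfl⟩ := QuotientGroup.mk_surjective y
    obtain ⟨l, c, hl, hc, rfl⟩ := hsp g
    obtain ⟨j, hj⟩ := CfsgLib.CIT.orderOf_two_pow_of_mem (hC u hu) (mem_centralizer_singleton_iff.2 hc)
    refine ⟨j, ?_⟩
    rw [show ((l * c : X) : X ⧸ L) = (c : X ⧸ L) by
      rw [QuotientGroup.mk_mul, (QuotientGroup.eq_one_iff l).2 hl, one_mul], ← QuotientGroup.mk_pow, ← hj,
      pow_orderOf_eq_one, QuotientGroup.mk_one]
  haveI := hQ.isNilpotent
  have hzL : z ∈ L := W.mem_of_quotient L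
  have haL : a ∈ L := W.mem_of_move hzL (hLn.conj_mem z hzL β)
  have ha'L : a' ∈ L := W.mem_of_move' hzL (hLn.conj_mem z hzL β')
  have hxL : x ∈ L := hreach L hzL haL ha'L fun s _ y hy => hLn.conj_mem y hy s
  -- the Sylow subgroup of `L`
  set S : Subgroup L := T.subgroupOf L with hS
  have hS2 : IsPGroup 2 S := hT.2.1.comap_of_injective L.subtype L.subtype_injective
  have hSsyl : IsSyl S ⊤ := by
    refine ⟨le_top, hS2, fun P hSP _ hP => ?_⟩
    obtain ⟨T', hT', hPT'⟩ := CfsgLib.CIT.exists_isSyl (le_top : P.map L.subtype ≤ ⊤) (hP.map _)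
    obtain ⟨g, -, hg⟩ := hT.exists_conj hT'
    refine (eq_of_le_of_card_ge hSP ?_).symm
    refine Nat.card_le_card_of_injective (fun p : P => (⟨⟨g⁻¹ * ((p : L) : X) * g, ?_⟩, ?_⟩ : S)) fun p q e => ?_
    · simpa using hLn.conj_mem _ (p : L).2 g⁻¹
    · have h : ((p : L) : X) ∈ CfsgLib.CIT.cj g T := hg ▸ hPT' ⟨(p : L), p.2, rfl⟩
      exact mem_subgroupOf.2 (CfsgLib.CIT.mem_cj.1 h)
    · have e' : g⁻¹ * ((p : L) : X) * g = g⁻¹ * ((q : L) : X) * g := congrArg (fun r : S => ((r : L) : X)) e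
      exact Subtype.ext (Subtype.ext (mul_left_cancel (mul_right_cancel e')))
  have hzS : (⟨z, hzL⟩ : L) ∈ S := mem_subgroupOf.2 hzT
  have haS : (⟨a, haL⟩ : L) ∈ S := mem_subgroupOf.2 haT
  have ha'S : (⟨a', ha'L⟩ : L) ∈ S := mem_subgroupOf.2 ha'T
  have hxS : (⟨x, hxL⟩ : L) ∈ S := mem_subgroupOf.2 hxT
  have hCL := hC.subgroup L
  -- the Sylow subgroups of `L` meet
  have hTI : ¬ TISylow L := by
    intro hTI
    set S' : Subgroup X := T ⊓ L with hS'
    have hSmap : S.map L.subtype = S' := by rw [hS, subgroupOf_map_subtype]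
    have hfix : ∀ b : X, b * z * b⁻¹ ∈ S' → S'.map (MulAut.conj b).toMonoidHom = S' := by
      intro b hb
      obtain ⟨hbT, hbL⟩ := hb
      have hsyl : IsSyl (S.map (MulAut.conjNormal b : MulAut L).toMonoidHom) ⊤ := by
        refine ⟨le_top, hS2.map _, fun P hle _ hP => ?_⟩
        have h1 := hSsyl.2.2 (P.comap (MulAut.conjNormal b : MulAut L).toMonoidHom) (map_le_iff_le_comap.1 hle) le_top
          (hP.comap_of_injective _ (MulAut.conjNormal b : MulAut L).injective)
        refine Eq.trans ?_ (congrArg _ h1)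
        exact (map_comap_eq_self_of_surjective (MulEquiv.surjective _) P).symm
      have hmem : (⟨b * z * b⁻¹, hbL⟩ : L) ∈ S.map (MulAut.conjNormal b : MulAut L).toMonoidHom :=
        ⟨⟨z, hzL⟩, hzS, Subtype.ext (MulAut.conjNormal_apply b _)⟩
      have heq : S.map (MulAut.conjNormal b : MulAut L).toMonoidHom = S := by
        by_contra hne
        have h1 := mem_bot.1 ((hTI _ _ hsyl hSsyl hne).le ⟨hmem, mem_subgroupOf.2 hbT⟩)
        exact W.ne (conj_eq_one_iff.1 (congrArg Subtype.val h1))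
      rw [← hSmap, map_map]
      conv_rhs => rw [← heq, map_map]
      congr 1
    have hb : β * z * β⁻¹ ∈ S' := W.move ▸ ⟨T.mul_mem hzT haT, L.mul_mem hzL haL⟩
    have hb' : β' * z * β'⁻¹ ∈ S' := W.move' ▸ ⟨T.mul_mem hzT ha'T, L.mul_mem hzL ha'L⟩
    set N := normalizer (S' : Set X) with hN
    have hβN : β ∈ N := CfsgLib.CIT.mem_normalizer_iff_cj.2 (hfix β hb)
    have hβ'N : β' ∈ N := CfsgLib.CIT.mem_normalizer_iff_cj.2 (hfix β' hb')
    refine W.not_solvable N (le_normalizer ⟨hzT, hzL⟩) (CfsgLib.CIT.mem_normalizer_iff_cj.1 (le_normalizer hβN))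
      (CfsgLib.CIT.mem_normalizer_iff_cj.1 (le_normalizer hβ'N)) ?_
    -- the normalizer is solvable
    set M := N ⊓ L with hM
    have hS'M : S' ≤ M := le_inf le_normalizer inf_le_right
    haveI : (S'.subgroupOf M).Normal := normal_subgroupOf_of_le_normalizer inf_le_left
    haveI : (M.subgroupOf N).Normal := by rw [hM, inf_subgroupOf_left]; infer_instance
    have hodd : ¬ 2 ∣ (S'.subgroupOf M).index := by
      intro hd
      have h1 : (S'.subgroupOf M).index ∣ (S'.subgroupOf L).index :=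
        Dvd.intro _ (relIndex_mul_relIndex S' M L hS'M inf_le_right)
      obtain ⟨P, hP⟩ := hSsyl.subgroupOf
      have h3 : (P : Subgroup (⊤ : Subgroup L)).index = S.index := by
        rw [← hP, ← index_map_equiv _ (topEquiv : (⊤ : Subgroup L) ≃* L)]
        rfl
      have h4 : S'.subgroupOf L = S := by rw [hS', hS, inf_subgroupOf_right]
      rw [h4, ← h3] at h1
      exact P.not_dvd_index (hd.trans h1)
    have hMs : Group.IsSolvable M :=
      CfsgLib.Recog.CITGraph.solvable_of_sylow_normal (hC.subgroup M) (S'.subgroupOf M)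
        ((hT.2.1.to_le inf_le_left).comap_of_injective M.subtype M.subtype_injective)
        (fun e => W.ne (by
          have h1 : (⟨z, hS'M ⟨hzT, hzL⟩⟩ : M) ∈ S'.subgroupOf M := mem_subgroupOf.2 ⟨hzT, hzL⟩
          rw [e, mem_bot] at h1
          exact congrArg Subtype.val h1)) hodd
    haveI := hMs
    haveI : Group.IsSolvable (M.subgroupOf N) :=
      Group.isSolvable_of_surjective (f := (subgroupOfEquivOfLe (inf_le_left : M ≤ N)).symm.toMonoidHom)
        (MulEquiv.surjective _)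
    refine Group.isSolvable_of_ker_le_range (M.subgroupOf N).subtype ((QuotientGroup.mk' L).comp N.subtype) ?_
    intro g hg
    rw [range_subtype, mem_subgroupOf, hM]
    exact ⟨g.2, (QuotientGroup.eq_one_iff _).1 hg⟩
  have hL := CfsgLib.CIT.localTI hCL
  obtain ⟨T0, W0, A0, q, h⟩ := CfsgLib.CIT.exists_pair hCL (CfsgLib.CIT.simple_noCore hna) hL hTI
  have hq4 := h.q_le_four hCL hL
  have hq1 := h.left.one_lt
  obtain ⟨j, hj⟩ := (h.left.syl.2.1.to_le (inf_le_left.trans h.le_T.2 : A0 ⊓ W0 ≤ T0)).exists_card_eq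
  rw [h.card_inter] at hj
  obtain rfl | rfl : q = 2 ∨ q = 4 := by
    have : q ≠ 3 := fun e => by
      rcases Nat.eq_zero_or_pos j with rfl | hpos
      · norm_num at hj; omega
      · have : 2 ∣ q := hj ▸ dvd_pow_self 2 hpos.ne'
        omega
    omega
  · exfalso
    have hel := h.right.maxA.2.1
    have hW4 : Nat.card W0 = 4 := h.right.card_A
    obtain ⟨w, hw, hw1⟩ := W0.bot_or_exists_ne_one.resolve_left (fun h0 => by rw [h0, card_bot] at hW4; omega)
    have hself : centralizer (W0 : Set L) ≤ W0 := by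
      have hp : IsPGroup 2 (centralizer (W0 : Set L)) :=
        (hCL w (Signalizer.orderOf_eq_two_of hw1 (CfsgLib.CIT.sq_of_elementary hel hw))).to_le
          (centralizer_le (Set.singleton_subset_iff.2 hw))
      refine (CfsgLib.CIT.le_core hp (centralizer_le_normalizer _) ?_).trans h.core_left.le
      exact le_normalizer_of_normal_subgroupOf (centralizer_le_normalizer _)
    obtain ⟨T1, hT1, hWT1⟩ := CfsgLib.CIT.exists_isSyl (le_top : W0 ≤ ⊤) (h.left.syl.2.1.to_le h.right.maxA.1)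
    obtain ⟨g, -, hg⟩ := hT1.exists_conj hSsyl
    set W1 := CfsgLib.CIT.cj g W0 with hW1
    have hW1S : W1 ≤ S := hg ▸ CfsgLib.CIT.cj_mono hWT1
    have hc : ∀ y : L, (∀ v ∈ W1, v * y = y * v) → y ∈ W1 := by
      intro y hy
      refine CfsgLib.CIT.mem_cj.2 (hself (mem_centralizer_iff.2 fun v hv => ?_))
      have h1 := hy (g * v * g⁻¹) (CfsgLib.CIT.mem_cj.2 (by simpa [mul_assoc] using hv))
      calc v * (g⁻¹ * y * g) = g⁻¹ * (g * v * g⁻¹ * y) * g := by group
        _ = g⁻¹ * (y * (g * v * g⁻¹)) * g := by rw [h1]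
        _ = g⁻¹ * y * g * v := by group
    have hzW : (⟨z, hzL⟩ : L) ∈ W1 :=
      hc _ fun v hv => Subtype.ext (hzc _ (mem_subgroupOf.1 (hW1S hv))).eq
    have hxW : (⟨x, hxL⟩ : L) ∈ W1 :=
      hc _ fun v hv => Subtype.ext (hxc _ (mem_subgroupOf.1 (hW1S hv))).eq
    haveI := Fintype.ofFinite W1
    have hfour : ∀ v ∈ W1, v = 1 ∨ v = ⟨z, hzL⟩ ∨ v = ⟨x, hxL⟩ ∨ v = ⟨z, hzL⟩ * ⟨x, hxL⟩ := by
      intro v hv
      by_contra hne
      push Not at hne
      obtain ⟨n1, n2, n3, n4⟩ := hne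
      have e12 : (⟨z, hzL⟩ : L) ≠ 1 := fun e => W.ne (congrArg Subtype.val e)
      have e13 : (⟨x, hxL⟩ : L) ≠ 1 := fun e => hx1 (congrArg Subtype.val e)
      have e14 : (⟨z, hzL⟩ : L) * ⟨x, hxL⟩ ≠ 1 := fun e => hxz (by
        have h1 : z * x = 1 := congrArg Subtype.val e
        rw [eq_inv_of_mul_eq_one_right h1, inv_eq_of_mul_eq_one_left W.sq])
      have e23 : (⟨x, hxL⟩ : L) ≠ ⟨z, hzL⟩ := fun e => hxz (congrArg Subtype.val e)
      have e24 : (⟨z, hzL⟩ : L) * ⟨x, hxL⟩ ≠ ⟨z, hzL⟩ := fun e => e13 (mul_eq_left.1 e)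
      have e34 : (⟨z, hzL⟩ : L) * ⟨x, hxL⟩ ≠ ⟨x, hxL⟩ := fun e => e12 (mul_eq_right.1 e)
      have h5 := Finset.card_le_card (show ({1, ⟨z, hzL⟩, ⟨x, hxL⟩, ⟨z, hzL⟩ * ⟨x, hxL⟩, v} : Finset L) ⊆
          (W1 : Set L).toFinite.toFinset from fun w hw => by
        simp only [Set.Finite.mem_toFinset, SetLike.mem_coe]
        simp only [Finset.mem_insert, Finset.mem_singleton] at hw
        rcases hw with rfl | rfl | rfl | rfl | rfl
        exacts [W1.one_mem, hzW, hxW, W1.mul_mem hzW hxW, hv])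
      rw [Finset.card_insert_of_notMem (by
          simp only [Finset.mem_insert, Finset.mem_singleton, not_or]
          exact ⟨e12.symm, e13.symm, e14.symm, n1.symm⟩),
        Finset.card_insert_of_notMem (by
          simp only [Finset.mem_insert, Finset.mem_singleton, not_or]
          exact ⟨e23.symm, e24.symm, n2.symm⟩),
        Finset.card_insert_of_notMem (by
          simp only [Finset.mem_insert, Finset.mem_singleton, not_or]
          exact ⟨e34.symm, n3.symm⟩),
        Finset.card_insert_of_notMem (Finset.notMem_singleton.2 n4.symm), Finset.card_singleton,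
        ← Nat.card_eq_card_finite_toFinset] at h5
      have : Nat.card W1 = 4 := by rw [hW1, CfsgLib.CIT.card_cj, hW4]
      change 5 ≤ Nat.card W1 at h5
      omega
    have hW1 : ∀ y : L, (y : X) ∈ T → y ∈ W1 := fun y hy => hc y fun v hv => by
      rcases hfour v hv with rfl | rfl | rfl | rfl
      · rw [one_mul, mul_one]
      · exact Subtype.ext (hzc _ hy).symm.eq
      · exact Subtype.ext (hxc _ hy).symm.eq
      · exact Subtype.ext ((hzc _ hy).mul_right (hxc _ hy)).symm.eq
    have hcomm : Commute (⟨a, haL⟩ : L) ⟨a', ha'L⟩ := by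
      rcases hfour _ (hW1 ⟨a, haL⟩ haT) with e | e | e | e <;> rw [e]
      · exact Commute.one_left _
      · exact Subtype.ext (hzc _ ha'T).symm.eq
      · exact Subtype.ext (hxc _ ha'T).symm.eq
      · exact (Commute.mul_left (Subtype.ext (hzc _ ha'T).symm.eq : Commute (⟨z, hzL⟩ : L) ⟨a', ha'L⟩)
          (Subtype.ext (hxc _ ha'T).symm.eq : Commute (⟨x, hxL⟩ : L) ⟨a', ha'L⟩))
    have h1 : a * a' = a' * a := congrArg Subtype.val hcomm.eq
    refine W.ne ?_
    rw [← W.comm, h1]
    group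
  · obtain ⟨F, iF, iFt, hF, ⟨e⟩⟩ := CfsgLib.CIT.Four.isPSLThreeFour ⟨hCL, hL, h, h.sylow_of_simple hna hCL hL⟩
    have hLc : Nat.card L = 20160 := (Nat.card_congr e.toEquiv).trans (CfsgLib.Known.L34.card_PSL hF)
    have htop : L = ⊤ := by
      rw [← index_eq_one]
      obtain ⟨k, hk⟩ := IsPGroup.iff_card.1 hQ
      rw [← index_eq_card] at hk
      rcases k with _ | k
      · exact hk.trans (pow_zero 2)
      exfalso
      obtain ⟨P, hP⟩ := hT.subgroupOf
      have h3 : (P : Subgroup (⊤ : Subgroup X)).index = T.index := by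
        rw [← hP, ← index_map_equiv _ (topEquiv : (⊤ : Subgroup X) ≃* X)]
        rfl
      refine P.not_dvd_index (h3 ▸ ?_)
      have h4 := T.card_mul_index
      rw [hT64, ← L.card_mul_index, hLc, hk, pow_succ] at h4
      exact ⟨315 * 2 ^ k, by omega⟩
    subst htop
    exact ⟨F, iF, iFt, hF, ⟨topEquiv.symm.trans e⟩⟩

end CfsgLib.LocalEvenB.SuzType
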