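import Cfsg.Agent.Lib.LocalEvenB.SuzType.Locals.FarCent
import Cfsg.Agent.Lib.LocalEvenB.SuzType.Locals.CentLFour

/-!
The centralizer of the four-group of far involutions: its Sylow 2-subgroup, and its quotient by the four-group,
which is `PSL(3, 4)` (owner: helper8).
-/

set_option autoImplicit false
set_option linter.unusedSectionVars false
set_option linter.unusedVariables false
set_option linter.style.haveILetI false
set_option maxRecDepth 100000
set_option quotPrecheck false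
set_option Elab.async false

namespace CfsgLib.LocalEvenB.SuzType

open CfsgLib.ThreeTrans
open CfsgLib.CIT (CIT IsSyl IsPSLThreeFour)

theorem four_move : fourList.all (fun e => (pairList e.1 e.2).any fun ua =>
    [5, 9, 13].contains (app (rho ua.1) 4)) = true := by decide +kernel

/-- The group generated by the two far involutions. -/
def fourGrp {G : Type*} [Group G] (t v : G) : Subgroup G := Subgroup.closure {t, v}

/-- Their common centralizer. -/
def fourCent {G : Type*} [Group G] (t v : G) : Subgroup G :=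
  Subgroup.centralizer ({t} : Set G) ⊓ Subgroup.centralizer ({v} : Set G)

variable {G : Type*} [Group G] [Finite G] {z : G} {Q : Subgroup G} {p : G → Nat} {k : G}

theorem mem_fourCent {t v g : G} : g ∈ fourCent t v ↔ Commute g t ∧ Commute g v := by
  rw [fourCent, Subgroup.mem_inf, mem_centralizer_singleton_iff', mem_centralizer_singleton_iff']
  rfl

theorem IsT.conj {x : G} (h : IsT z x) (g : G) : IsT z (g * x * g⁻¹) :=
  ⟨conj_sq_one h.1 g, fun e => h.2.1 (conj_eq_one_iff.1 e),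
    fun hc => h.2.2 (hc.trans (isConj_iff.2 ⟨g, rfl⟩).symm)⟩

/-- A 2-element whose cube commutes with `z` commutes with it. -/
theorem commute_of_cube {n a : G} {j : ℕ} (hn : n ^ 2 ^ j = 1) (h : Commute (n ^ 3) a) : Commute n a := by
  obtain ⟨b, hb⟩ := exists_pow_eq_self_of_coprime (show (3 : ℕ).Coprime (orderOf n) from
    Nat.Coprime.coprime_dvd_right (orderOf_dvd_of_pow_eq_one hn) ((by norm_num : (3 : ℕ).Coprime 2).pow_right j))
  exact hb ▸ h.pow_left b

/-- A proper 2-subgroup of a 2-subgroup is properly normalized. -/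
theorem exists_normalizing {T S : Subgroup G} (hS : IsPGroup 2 S) (hle : T ≤ S) (hne : S ≠ T) :
    ∃ n ∈ S, n ∉ T ∧ ∀ d ∈ T, n * d * n⁻¹ ∈ T := by
  haveI : Fact (Nat.Prime 2) := ⟨Nat.prime_two⟩
  haveI := hS.isNilpotent
  have hlt : T.subgroupOf S < ⊤ := lt_top_iff_ne_top.2 fun e =>
    hne (le_antisymm (Subgroup.subgroupOf_eq_top.1 e) hle)
  obtain ⟨n, hn, hnT⟩ := SetLike.exists_of_lt (Group.normalizerCondition_of_isNilpotent _ hlt)
  refine ⟨n, n.2, fun h => hnT (Subgroup.mem_subgroupOf.2 h), fun d hd => ?_⟩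
  exact Subgroup.mem_subgroupOf.1 ((Subgroup.mem_normalizer_iff.1 hn ⟨d, hle hd⟩).1 (Subgroup.mem_subgroupOf.2 hd))

namespace Four

variable {t v : G} (W : Four z Q p k t v)
include W

local notation "X" => k * z * k⁻¹
local notation "Dz" => (Subgroup.centralizer ({z} : Set G) ⊓ Subgroup.centralizer ({t} : Set G) : Subgroup G)
local notation "Tz" => (Subgroup.centralizer ({z} : Set G) ⊓ Subgroup.centralizer ({t} : Set G) ⊓
  Subgroup.centralizer ({v} : Set G) : Subgroup G)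

theorem t_mem_T : t ∈ Tz := W.mem_T.2 ⟨W.acts_t.1, Commute.refl t, W.comm_tv⟩

theorem v_mem_T : v ∈ Tz := W.mem_T.2 ⟨W.acts_v.1, W.comm_tv.symm, Commute.refl v⟩

theorem z_mem_T : z ∈ Tz := W.mem_T.2 ⟨Commute.refl z, W.acts_t.1.symm, W.acts_v.1.symm⟩

theorem x_mem_T : X ∈ Tz := W.mem_T.2 ⟨W.frame.z_comm_x.symm, W.comm_xt.symm, W.comm_xv.symm⟩

/-- `x` is centralized by the centralizer of the four-group. -/
theorem x_central {d : G} (hd : d ∈ Tz) : Commute d X := by
  obtain ⟨hz, ht, hv⟩ := W.mem_T.1 hd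
  obtain ⟨u, hu, hA⟩ := W.image_four hz ht hv
  exact W.comm_x_of_comm hu hA (Or.inl ht)

theorem z_central {d : G} (hd : d ∈ Tz) : Commute d z := (W.mem_T.1 hd).1

theorem isConj_x : IsConj z X := isConj_iff.2 ⟨k, rfl⟩

theorem isConj_zx : IsConj z (z * X) := by
  have F := W.frame
  refine F.mem_type (Q.mul_mem (F.sys.sg_mem true) F.memQ) ?_ ?_
  · rw [mul_assoc z X, ← mul_assoc X z, ← F.z_comm_x.eq, mul_assoc z X X, F.sys'.large.mul_self_z, mul_one,
      F.sys.large.mul_self_z]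
  · intro e
    refine F.x_ne_z ?_
    rw [eq_inv_of_mul_eq_one_right e, inv_of_sq F.sys.large.mul_self_z]

/-- Commuting pairs of a conjugate of `z` and a far involution are all conjugate. -/
theorem exists_move {f x : G} (hf : IsConj z f) (hx : IsT z x) (hc : Commute f x) :
    ∃ h, h * f * h⁻¹ = z ∧ h * x * h⁻¹ = t := by
  have F := W.frame
  obtain ⟨g, hg⟩ := isConj_iff.1 hf.symm
  obtain ⟨t0, hR, ht0, -⟩ := F.exists_tdata
  have hxz : Commute (g * x * g⁻¹) z := by
    have := hc.symm.map (MulAut.conj g)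
    simpa [hg] using this
  obtain ⟨c, hcz, hct⟩ := (F.conjC_of_isT hR ht0.1 (hx.conj g) hxz).symm.trans
    (F.conjC_of_isT hR ht0.1 W.isT_t W.acts_t.1)
  refine ⟨c * g, ?_, ?_⟩
  · rw [show c * g * f * (c * g)⁻¹ = c * (g * f * g⁻¹) * c⁻¹ by group, hg, hcz.eq, mul_inv_cancel_right]
  · rw [show c * g * x * (c * g)⁻¹ = c * (g * x * g⁻¹) * c⁻¹ by group, hct]

/-- The centralizer of a commuting pair has order 512. -/
theorem card_pair {f x : G} (hf : IsConj z f) (hx : IsT z x) (hc : Commute f x) :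
    Nat.card (Subgroup.centralizer ({f} : Set G) ⊓ Subgroup.centralizer ({x} : Set G) : Subgroup G) = 512 := by
  obtain ⟨h, h1, h2⟩ := W.exists_move hf hx hc
  refine (Nat.card_congr ((MulAut.conj h).toEquiv.subtypeEquiv fun y => ?_)).trans W.card_far
  show y ∈ _ ↔ h * y * h⁻¹ ∈ Dz
  rw [W.mem_D, Subgroup.mem_inf, mem_centralizer_singleton_iff', mem_centralizer_singleton_iff', ← h1, ← h2,
    LargeData.commute_conj_iff', LargeData.commute_conj_iff']
  rfl

theorem isT_z_mul {w : G} (hw : IsT z w) (hwz : Commute w z) : IsT z (z * w) := by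
  have F := W.frame
  obtain ⟨h, h1, h2⟩ := W.exists_move (IsConj.refl z) hw hwz.symm
  have hzt : IsT z (z * t) := W.isT_mul (F.sys.sg_mem true) (Or.inl rfl) (by
    rw [show z * t * (z * t) = z * (t * z) * t by group, W.acts_t.1.eq, ← mul_assoc,
      F.sys.large.mul_self_z, one_mul, W.sq_t])
  have e : h⁻¹ * (z * t) * h⁻¹⁻¹ = z * w := by
    nth_rewrite 1 [← h1]
    rw [← h2]
    group
  exact e ▸ hzt.conj h⁻¹

/-- A conjugate of `z` times a commuting far involution is far. -/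
theorem isT_conj_mul {f w : G} (hf : IsConj z f) (hw : IsT z w) (hc : Commute f w) : IsT z (f * w) := by
  obtain ⟨g, hg⟩ := isConj_iff.1 hf.symm
  have h := W.isT_z_mul (hw.conj g) (by
    have := hc.symm.map (MulAut.conj g)
    simpa [hg] using this)
  have e : g⁻¹ * (z * (g * w * g⁻¹)) * g⁻¹⁻¹ = f * w := by rw [← hg]; group
  exact e ▸ h.conj g⁻¹

theorem mem_four {g : G} : g ∈ fourGrp t v ↔ g = 1 ∨ g = t ∨ g = v ∨ g = t * v := by
  have c : v * t = t * v := W.comm_tv.eq.symm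
  have tt := W.sq_t
  have vv := W.sq_v
  have t1 : t * (t * v) = v := by rw [← mul_assoc, tt, one_mul]
  have t2 : v * (t * v) = t := by rw [← mul_assoc, c, mul_assoc, vv, mul_one]
  have t3 : t * v * t = v := by rw [mul_assoc, c, t1]
  have t4 : t * v * v = t := by rw [mul_assoc, vv, mul_one]
  constructor
  · intro hg
    induction hg using Subgroup.closure_induction with
    | mem x hx => rcases hx with rfl | rfl <;> simp
    | one => simp
    | mul x y _ _ hx hy =>
      rcases hx with rfl | rfl | rfl | rfl <;> rcases hy with rfl | rfl | rfl | rfl <;>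
        simp [c, tt, vv, t1, t2, t3, t4, W.sq_tv]
    | inv x _ hx =>
      rcases hx with rfl | rfl | rfl | rfl
      · simp
      · simp [inv_of_sq tt]
      · simp [inv_of_sq vv]
      · simp [inv_of_sq W.sq_tv]
  · have ht : t ∈ fourGrp t v := Subgroup.subset_closure (by simp)
    have hv : v ∈ fourGrp t v := Subgroup.subset_closure (by simp)
    rintro (rfl | rfl | rfl | rfl)
    exacts [one_mem _, ht, hv, mul_mem ht hv]

theorem isT_of_mem {w : G} (hw : w ∈ fourGrp t v) (hw1 : w ≠ 1) : IsT z w := by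
  rcases W.mem_four.1 hw with rfl | rfl | rfl | rfl
  exacts [absurd rfl hw1, W.isT_t, W.isT_v, W.isT_tv]

theorem commute_four {g w : G} (hg : g ∈ fourCent t v) (hw : w ∈ fourGrp t v) : Commute g w := by
  obtain ⟨h1, h2⟩ := mem_fourCent.1 hg
  rcases W.mem_four.1 hw with rfl | rfl | rfl | rfl
  exacts [Commute.one_right g, h1, h2, h1.mul_right h2]

/-- A coset of the four-group contains one conjugate of `z`. -/
theorem eq_one_of_conj {f w : G} (hf : IsConj z f) (hfJ : f ∈ fourCent t v) (hw : w ∈ fourGrp t v)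
    (h : IsConj z (f * w)) : w = 1 := by
  by_contra hw1
  exact (W.isT_conj_mul hf (W.isT_of_mem hw hw1) (W.commute_four hfJ hw)).2.2 h

theorem not_mem_four {f : G} (hf : IsConj z f) : f ∉ fourGrp t v := fun h => by
  by_cases h1 : f = 1
  · obtain ⟨g, hg⟩ := isConj_iff.1 hf
    exact W.frame.sys.large.z_ne_one (conj_eq_one_iff.1 (hg.trans h1))
  · exact (W.isT_of_mem h h1).2.2 hf

theorem card_fourGrp : Nat.card (fourGrp t v) = 4 := by
  classical
  have e : ((fourGrp t v : Subgroup G) : Set G) = ↑({1, t, v, t * v} : Finset G) := by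
    ext g
    simp [W.mem_four]
  have ht : t ≠ 1 := W.isT_t.2.1
  have hv : v ≠ 1 := W.isT_v.2.1
  have htv : t * v ≠ 1 := W.isT_tv.2.1
  have h12 : t ≠ v := fun e => htv (by rw [e, W.sq_v])
  have h13 : t ≠ t * v := fun e => hv (left_eq_mul.1 e)
  have h23 : v ≠ t * v := fun e => ht (right_eq_mul.1 e)
  rw [show Nat.card (fourGrp t v) = ((fourGrp t v : Subgroup G) : Set G).ncard from Nat.card_coe_set_eq _, e,
    Set.ncard_coe_finset, Finset.card_insert_of_notMem (by simp [ht.symm, hv.symm, htv.symm]),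
    Finset.card_insert_of_notMem (by simp [h12, h13]), Finset.card_insert_of_notMem (by simp [h23]),
    Finset.card_singleton]

/-- The fixed point of an element moving `z` among the central conjugates. -/
theorem mover {n : G} {j : ℕ} (hn : n ^ 2 ^ j = 1) (hw : n * z * n⁻¹ = X ∨ n * z * n⁻¹ = z * X)
    (hu : n * (n * z * n⁻¹) * n⁻¹ = z ∨ n * (n * z * n⁻¹) * n⁻¹ = X ∨ n * (n * z * n⁻¹) * n⁻¹ = z * X)
    (hnz : ¬ Commute n z) : ∃ f, (f = X ∨ f = z * X) ∧ f = z * (n * z * n⁻¹) ∧ Commute n f := by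
  have F := W.frame
  set w := n * z * n⁻¹ with hwd
  have zz : z * z = 1 := F.sys.large.mul_self_z
  have hzw : Commute z w := by
    rcases hw with e | e <;> rw [e]
    · exact F.z_comm_x
    · exact (Commute.refl z).mul_right F.z_comm_x
  have hf : z * w = X ∨ z * w = z * X := by
    rcases hw with e | e <;> rw [e]
    · exact Or.inr rfl
    · exact Or.inl (by rw [← mul_assoc, zz, one_mul])
  refine ⟨z * w, hf, rfl, ?_⟩
  have hmove : n * (z * w) * n⁻¹ = w * (n * w * n⁻¹) := by rw [hwd]; group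
  have hwz : w ≠ z := fun e => hnz (mul_inv_eq_iff_eq_mul.1 e)
  have hcase : n * w * n⁻¹ = z ∨ n * w * n⁻¹ = z * w := by
    have hne : n * w * n⁻¹ ≠ w := by
      intro e
      have e' : w = z := mul_left_cancel (mul_right_cancel (e.trans hwd))
      exact hwz e'
    rcases hu with e | e | e
    · exact Or.inl e
    · rcases hw with e' | e'
      · exact absurd (e.trans e'.symm) hne
      · exact Or.inr (by rw [e, e', ← mul_assoc, zz, one_mul])
    · rcases hw with e' | e'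
      · exact Or.inr (by rw [e, e'])
      · exact absurd (e.trans e'.symm) hne
  rcases hcase with e | e
  · refine mul_inv_eq_iff_eq_mul.1 ?_
    rw [hmove, e, hzw.eq]
  · exfalso
    refine hnz (commute_of_cube hn (mul_inv_eq_iff_eq_mul.1 ?_))
    calc n ^ 3 * z * (n ^ 3)⁻¹ = n * (n * w * n⁻¹) * n⁻¹ := by
          rw [hwd, show n ^ 3 = n * n * n by rw [pow_succ, pow_succ, pow_one]]; group
      _ = w * (n * w * n⁻¹) := by rw [e, hmove, e]
      _ = z := by rw [e, ← mul_assoc, ← hzw.eq, mul_assoc]; rw [show w * w = 1 from conj_sq_one zz n, mul_one]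

/-- The centralizer of the four-group in `C(z)` is a Sylow 2-subgroup of the centralizer of the four-group. -/
theorem syl_T : IsSyl Tz (fourCent t v) := by
  have F := W.frame
  refine ⟨fun g hg => mem_fourCent.2 ⟨(W.mem_T.1 hg).2.1, (W.mem_T.1 hg).2.2⟩,
    IsPGroup.of_card (n := 8) (by rw [W.card_four]; norm_num), fun S hTS hSJ hS => ?_⟩
  by_contra hne
  obtain ⟨n, hnS, hnT, hnorm⟩ := exists_normalizing hS hTS hne
  obtain ⟨hnt, hnv⟩ := mem_fourCent.1 (hSJ hnS)
  obtain ⟨j, hj⟩ := hS ⟨n, hnS⟩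
  have hj' : n ^ 2 ^ j = 1 := congrArg Subtype.val hj
  have hnz : ¬ Commute n z := fun h => hnT (W.mem_T.2 ⟨h, hnt, hnv⟩)
  have key : ∀ c ∈ Tz, IsConj z c → (∀ d ∈ Tz, Commute c d) →
      IsConj z (n * c * n⁻¹) ∧ n * c * n⁻¹ ∈ Tz ∧ ∀ d ∈ Tz, Commute (n * c * n⁻¹) d := by
    intro c hc hcz hcc
    refine ⟨hcz.trans (isConj_iff.2 ⟨n, rfl⟩), hnorm c hc, fun d hd => ?_⟩
    have hmap : (Tz).map (MulAut.conj n).toMonoidHom = Tz := Subgroup.eq_of_le_of_card_ge
      (Subgroup.map_le_iff_le_comap.2 fun y hy => hnorm y hy)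
      (le_of_eq (Subgroup.card_map_of_injective (MulEquiv.injective _)).symm)
    obtain ⟨d', hd', rfl⟩ := hmap.ge hd
    exact (hcc d' hd').map (MulAut.conj n)
  obtain ⟨hw1, hw2, hw3⟩ := key z W.z_mem_T (IsConj.refl z) fun d hd => (W.z_central hd).symm
  obtain ⟨hu1, hu2, hu3⟩ := key _ hw2 hw1 hw3
  rcases W.central_z hw2 hw1 hw3 with e | hw
  · exact hnz (mul_inv_eq_iff_eq_mul.1 e)
  obtain ⟨f, hf, -, hnf⟩ := W.mover hj' hw (W.central_z hu2 hu1 hu3) hnz
  have hfc : IsConj z f := by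
    rcases hf with rfl | rfl
    exacts [W.isConj_x, W.isConj_zx]
  have hfT : f ∈ Tz ∧ ∀ d ∈ Tz, Commute d f := by
    rcases hf with rfl | rfl
    · exact ⟨W.x_mem_T, fun d hd => W.x_central hd⟩
    · exact ⟨mul_mem W.z_mem_T W.x_mem_T, fun d hd => (W.z_central hd).mul_right (W.x_central hd)⟩
  -- the centralizer of `f` and of the four-group is too large
  obtain ⟨h, h1, h2⟩ := W.exists_move hfc W.isT_t (W.mem_T.1 hfT.1).2.1
  set E := Subgroup.centralizer ({f} : Set G) ⊓ fourCent t v with hE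
  have hTE : Tz ≤ E := fun d hd => ⟨mem_centralizer_singleton_iff'.2 (hfT.2 d hd),
    mem_fourCent.2 ⟨(W.mem_T.1 hd).2.1, (W.mem_T.1 hd).2.2⟩⟩
  have hnE : n ∈ E := ⟨mem_centralizer_singleton_iff'.2 hnf, hSJ hnS⟩
  have hE512 : 512 ≤ Nat.card E := by
    obtain ⟨c, hc⟩ : 256 ∣ Nat.card E := W.card_four ▸ Subgroup.card_dvd_of_le hTE
    rcases lt_or_ge c 2 with hc2 | hc2
    · exfalso
      exact hnT ((Subgroup.eq_of_le_of_card_ge hTE (by rw [W.card_four, hc]; omega)).ge hnE)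
    · omega
  have hmap : E.map (MulAut.conj h).toMonoidHom = Dz := by
    refine Subgroup.eq_of_le_of_card_ge ?_ (by
      rw [W.card_far, Subgroup.card_map_of_injective (MulEquiv.injective _)]; exact hE512)
    rintro _ ⟨y, ⟨hy1, hy2⟩, rfl⟩
    refine W.mem_D.2 ⟨?_, ?_⟩
    · rw [← h1]; exact LargeData.commute_conj_iff'.2 (mem_centralizer_singleton_iff'.1 hy1)
    · rw [← h2]; exact LargeData.commute_conj_iff'.2 (mem_fourCent.1 hy2).1
  refine W.no_central_four (w := h * v * h⁻¹) ?_ ?_ (W.isT_v.conj h) ?_ ?_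
  · rw [← h1]; exact LargeData.commute_conj_iff'.2 (W.mem_T.1 hfT.1).2.2.symm
  · have := (LargeData.commute_conj_iff' (g := h)).2 W.comm_tv.symm
    rwa [h2] at this
  · have e : h * (t * v) * h⁻¹ = t * (h * v * h⁻¹) := by nth_rewrite 2 [← h2]; group
    exact e ▸ W.isT_tv.conj h
  · intro d hd
    obtain ⟨y, hy, rfl⟩ := hmap.ge hd
    exact LargeData.commute_conj_iff'.2 (mem_fourCent.1 hy.2).2.symm

/-- An element of the centralizer of `t` in `C(z)` centralizing that of the four-group lies in it. -/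
theorem mem_T_of_central {w : G} (hw : w ∈ Dz) (hcen : ∀ d ∈ Tz, Commute w d) : w ∈ Tz :=
  W.mem_T.2 ⟨(W.mem_D.1 hw).1, (W.mem_D.1 hw).2, hcen v W.v_mem_T⟩

/-- The centralizer of `t` in `C(z)` is a Sylow 2-subgroup of the centralizer of `t`. -/
theorem syl_D : IsSyl Dz (Subgroup.centralizer ({t} : Set G)) := by
  have F := W.frame
  refine ⟨inf_le_right, IsPGroup.of_card (n := 9) (by rw [W.card_far]; norm_num), fun S hDS hSK hS => ?_⟩
  by_contra hne
  obtain ⟨n, hnS, hnD, hnorm⟩ := exists_normalizing hS hDS hne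
  have hnt : Commute n t := mem_centralizer_singleton_iff'.1 (hSK hnS)
  obtain ⟨j, hj⟩ := hS ⟨n, hnS⟩
  have hj' : n ^ 2 ^ j = 1 := congrArg Subtype.val hj
  have hnz : ¬ Commute n z := fun h => hnD (W.mem_D.2 ⟨h, hnt⟩)
  have hTD : Tz ≤ Dz := inf_le_left
  have key : ∀ c ∈ Dz, IsConj z c → (∀ d ∈ Dz, Commute c d) →
      IsConj z (n * c * n⁻¹) ∧ n * c * n⁻¹ ∈ Dz ∧ ∀ d ∈ Dz, Commute (n * c * n⁻¹) d := by
    intro c hc hcz hcc
    refine ⟨hcz.trans (isConj_iff.2 ⟨n, rfl⟩), hnorm c hc, fun d hd => ?_⟩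
    have hmap : (Dz).map (MulAut.conj n).toMonoidHom = Dz := Subgroup.eq_of_le_of_card_ge
      (Subgroup.map_le_iff_le_comap.2 fun y hy => hnorm y hy)
      (le_of_eq (Subgroup.card_map_of_injective (MulEquiv.injective _)).symm)
    obtain ⟨d', hd', rfl⟩ := hmap.ge hd
    exact (hcc d' hd').map (MulAut.conj n)
  obtain ⟨hw1, hw2, hw3⟩ := key z (hTD W.z_mem_T) (IsConj.refl z) fun d hd => (W.mem_D.1 hd).1.symm
  obtain ⟨hu1, hu2, hu3⟩ := key _ hw2 hw1 hw3
  have hwT := W.mem_T_of_central hw2 fun d hd => hw3 d (hTD hd)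
  have huT := W.mem_T_of_central hu2 fun d hd => hu3 d (hTD hd)
  rcases W.central_z hwT hw1 (fun d hd => hw3 d (hTD hd)) with e | hw
  · exact hnz (mul_inv_eq_iff_eq_mul.1 e)
  obtain ⟨f, hf, hfe, hnf⟩ := W.mover hj' hw (W.central_z huT hu1 fun d hd => hu3 d (hTD hd)) hnz
  have hfc : IsConj z f := by
    rcases hf with rfl | rfl
    exacts [W.isConj_x, W.isConj_zx]
  have hfD : ∀ d ∈ Dz, Commute f d := fun d hd => hfe ▸ (W.mem_D.1 hd).1.symm.mul_left (hw3 d hd)
  have hcard := W.card_pair hfc W.isT_t (hfD t (hTD W.t_mem_T))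
  have hle : Dz ≤ (Subgroup.centralizer ({f} : Set G) ⊓ Subgroup.centralizer ({t} : Set G) : Subgroup G) :=
    fun d hd => ⟨mem_centralizer_singleton_iff'.2 (hfD d hd).symm, hd.2⟩
  exact hnD ((Subgroup.eq_of_le_of_card_ge hle (by rw [hcard, W.card_far])).ge
    ⟨mem_centralizer_singleton_iff'.2 hnf, hSK hnS⟩)

/-- A coset of the four-group of order two contains a conjugate of `z`. -/
theorem exists_lift_z {d : G} (hd : d ∈ fourCent t v) (hd1 : d ∉ fourGrp t v) (hd2 : d * d ∈ fourGrp t v) :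
    d * d = 1 ∧ ∃ w ∈ fourGrp t v, IsConj z (d * w) := by
  have h4 : d ^ 2 ^ 2 = 1 := by
    rw [show (2 : ℕ) ^ 2 = 2 * 2 by norm_num, pow_mul, pow_two, pow_two]
    by_cases h1 : d * d = 1
    · rw [h1, one_mul]
    · exact (W.isT_of_mem hd2 h1).1
  have hzp : IsPGroup 2 (Subgroup.zpowers d) := by
    obtain ⟨i, -, hi⟩ := (Nat.dvd_prime_pow Nat.prime_two).1 (orderOf_dvd_of_pow_eq_one h4)
    exact IsPGroup.of_card (n := i) (by rw [Nat.card_zpowers, hi])
  obtain ⟨S, hS, hdS⟩ := CfsgLib.CIT.exists_isSyl ((Subgroup.zpowers_le).2 hd) hzp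
  obtain ⟨g, hg, hgS⟩ := hS.exists_conj W.syl_T
  have hdT : g * d * g⁻¹ ∈ Tz := hgS ▸ CfsgLib.CIT.mem_cj.2 (by
    simpa [mul_assoc] using hdS (Subgroup.mem_zpowers d))
  have hfix : ∀ w ∈ fourGrp t v, g * w * g⁻¹ = w := fun w hw => by
    rw [(W.commute_four hg hw).eq, mul_inv_cancel_right]
  have hset : ∀ w : G, w ∈ fourGrp t v ↔ w ∈ ({1, t, v, t * v} : Set G) := fun w => by simp [W.mem_four]
  have e2 : g * d * g⁻¹ * (g * d * g⁻¹) = d * d :=
    calc g * d * g⁻¹ * (g * d * g⁻¹) = g * (d * d) * g⁻¹ := by group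
      _ = d * d := hfix _ hd2
  obtain ⟨h1, w, hw, hwz⟩ := W.exists_coset_z hdT (by rw [e2]; exact (hset _).1 hd2) (fun h => hd1 (by
    have h' := (hset _).2 h
    have := hfix _ h'
    rw [show d = g * d * g⁻¹ from mul_left_cancel (mul_right_cancel this.symm)]
    exact h'))
  refine ⟨e2 ▸ h1, w, (hset w).2 hw, hwz.trans (isConj_iff.2 ⟨g⁻¹, ?_⟩)⟩
  have := hfix w ((hset w).2 hw)
  nth_rewrite 1 [← this]
  group

theorem normal_four : ((fourGrp t v).subgroupOf (fourCent t v)).Normal :=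
  ⟨fun w hw g => by
    rw [Subgroup.mem_subgroupOf] at hw ⊢
    simp only [Subgroup.coe_mul, Subgroup.coe_inv]
    rwa [(W.commute_four g.2 hw).eq, mul_inv_cancel_right]⟩

theorem four_le : fourGrp t v ≤ fourCent t v := by
  rw [fourGrp, Subgroup.closure_le]
  rintro g (rfl | rfl)
  · exact mem_fourCent.2 ⟨Commute.refl _, W.comm_tv⟩
  · exact mem_fourCent.2 ⟨W.comm_tv.symm, Commute.refl _⟩

/-- An element of odd order centralizing a coset of order two is trivial. -/
theorem odd_centralizer {d y : G} (hd : d ∈ fourCent t v) (hd1 : d ∉ fourGrp t v) (hd2 : d * d ∈ fourGrp t v)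
    (hy : y ∈ fourCent t v) (hyo : Odd (orderOf y)) (hc : d⁻¹ * (y * d * y⁻¹) ∈ fourGrp t v) : y = 1 := by
  obtain ⟨-, w, hw, hf⟩ := W.exists_lift_z hd hd1 hd2
  have hfJ : d * w ∈ fourCent t v := mul_mem hd (W.four_le hw)
  have e : y * (d * w) * y⁻¹ = d * w * (d⁻¹ * (y * d * y⁻¹)) := by
    rw [mul_assoc d w, ← (W.commute_four (mul_mem (inv_mem hd) (mul_mem (mul_mem hy hd) (inv_mem hy))) hw).eq,
      ← mul_assoc d, mul_inv_cancel_left, show y * (d * w) * y⁻¹ = y * d * y⁻¹ * (y * w * y⁻¹) by group,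
      (W.commute_four hy hw).eq, mul_inv_cancel_right]
  have h1 := W.eq_one_of_conj hf hfJ hc (e ▸ hf.trans (isConj_iff.2 ⟨y, rfl⟩))
  rw [h1, mul_one] at e
  have hyf : Commute y (d * w) := mul_inv_eq_iff_eq_mul.1 e
  exact CfsgLib.CIT.eq_one_of_odd_of_pGroup
    (IsPGroup.of_card (n := 9) (G := (Subgroup.centralizer ({d * w} : Set G) ⊓ Subgroup.centralizer ({t} : Set G) :
      Subgroup G)) (by rw [W.card_pair hf W.isT_t (mem_fourCent.1 hfJ).1]; norm_num))
    (Subgroup.mem_inf.2 ⟨mem_centralizer_singleton_iff'.2 hyf,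
      mem_centralizer_singleton_iff'.2 (mem_fourCent.1 hy).1⟩) hyo

/-- The quotient of the centralizer of the four-group by it is `PSL(3, 4)`. -/
theorem quotient_psl [((fourGrp t v).subgroupOf (fourCent t v)).Normal] :
    IsPSLThreeFour (fourCent t v ⧸ (fourGrp t v).subgroupOf (fourCent t v)) := by
  classical
  have F := W.frame
  haveI : Fact (Nat.Prime 2) := ⟨Nat.prime_two⟩
  set J := fourCent t v with hJ
  set V := (fourGrp t v).subgroupOf J with hV
  set π := QuotientGroup.mk' V with hπ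
  have hVc : Nat.card V = 4 :=
    (Nat.card_congr (Subgroup.subgroupOfEquivOfLe W.four_le).toEquiv).trans W.card_fourGrp
  have hTJ : Tz ≤ J := W.syl_T.1
  set T0 := (Tz).subgroupOf J with hT0
  have hVT : V ≤ T0 := fun w hw => by
    rw [hT0, Subgroup.mem_subgroupOf]
    rcases W.mem_four.1 (Subgroup.mem_subgroupOf.1 hw) with e | e | e | e <;> rw [e]
    exacts [one_mem _, W.t_mem_T, W.v_mem_T, mul_mem W.t_mem_T W.v_mem_T]
  have hker : π.ker = V := QuotientGroup.ker_mk' V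
  have hsurj : Function.Surjective π := QuotientGroup.mk'_surjective V
  -- the Sylow subgroup of the quotient
  set T1 := T0.map π with hT1
  have hsyl : IsSyl T1 ⊤ := by
    refine ⟨le_top, (W.syl_T.2.1.comap_of_injective J.subtype J.subtype_injective).map π,
      fun P hTP _ hP => ?_⟩
    have h2 : IsPGroup 2 (P.comap π) := hP.comap_of_ker_isPGroup π
      (by rw [hker]; exact IsPGroup.of_card (n := 2) (by rw [hVc]; norm_num))
    have h3 : (P.comap π).map J.subtype = Tz := W.syl_T.2.2 _ (by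
      intro d hd
      exact ⟨⟨d, hTJ hd⟩, Subgroup.mem_comap.2 (hTP ⟨⟨d, hTJ hd⟩, Subgroup.mem_subgroupOf.2 hd, rfl⟩), rfl⟩)
      (Subgroup.map_subtype_le _) (h2.map _)
    refine le_antisymm ?_ hTP
    intro x hx
    obtain ⟨y, rfl⟩ := hsurj x
    exact ⟨y, Subgroup.mem_subgroupOf.2 (h3.le ⟨y, Subgroup.mem_comap.2 hx, rfl⟩), rfl⟩
  have h64 : Nat.card T1 = 64 := by
    have h1 : T1.index = T0.index := Subgroup.index_map_eq T0 hsurj (by rw [hker]; exact hVT)
    have h2 := T1.card_mul_index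
    have h3 := T0.card_mul_index
    have h4 := V.card_mul_index
    rw [h1, ← Subgroup.index_eq_card] at h2
    rw [hVc] at h4
    have hT0c : Nat.card T0 = 256 :=
      (Nat.card_congr (Subgroup.subgroupOfEquivOfLe hTJ).toEquiv).trans W.card_four
    rw [hT0c, ← h4, ← h2, ← mul_assoc] at h3
    have := Nat.eq_of_mul_eq_mul_right (Nat.pos_of_ne_zero Subgroup.index_ne_zero_of_finite) h3
    omega
  -- the witness
  obtain ⟨a, -, β, haQ, -, hpa, -, hβt, hβv, hβz⟩ := W.wit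
  obtain ⟨e, he, het, hev⟩ := W.exists_swap
  have hlam := lam_facts
  simp only [Bool.and_eq_true, beq_iff_eq] at hlam
  obtain ⟨⟨⟨⟨⟨⟨⟨⟨⟨⟨⟨⟨⟨⟨⟨-, -⟩, -⟩, hl4⟩, -⟩, -⟩, -⟩, -⟩, -⟩, -⟩, -⟩, -⟩, -⟩, -⟩, -⟩, -⟩ := hlam
  set a' := e * a * e⁻¹ with ha'
  have ha'Q : a' ∈ Q := F.sys.large.conj_mem he.1 haQ
  have hpa' : p a' = 8 := by rw [ha', he.2 a haQ, hpa, hl4]
  have hTm : ∀ {b : G}, b ∈ Q → (p b = 4 ∨ p b = 8) → b ∈ Tz := fun {b} hb hpb =>
    W.mem_T.2 ⟨F.sys.large.commute_z hb, (W.comm_lift hb hpb).1.symm, (W.comm_lift hb hpb).2.symm⟩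
  have haT := hTm haQ (Or.inl hpa)
  have ha'T := hTm ha'Q (Or.inr hpa')
  have hβJ : β ∈ J := mem_fourCent.2 ⟨hβt, hβv⟩
  have hetv : e * (t * v) * e⁻¹ = v := by
    rw [show e * (t * v) * e⁻¹ = e * t * e⁻¹ * (e * v * e⁻¹) by group, hev, het.eq, mul_inv_cancel_right,
      ← mul_assoc, W.sq_t, one_mul]
  have hβ'J : e * β * e⁻¹ ∈ J := by
    refine mem_fourCent.2 ⟨?_, ?_⟩
    · have := hβt.map (MulAut.conj e)
      simpa [het.eq] using this
    · rw [← hetv]
      exact LargeData.commute_conj_iff'.2 (hβt.mul_right hβv)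
  have hβ'z : e * β * e⁻¹ * z * (e * β * e⁻¹)⁻¹ = z * a' := by
    rw [show e * β * e⁻¹ * z * (e * β * e⁻¹)⁻¹ = e * (β * (e⁻¹ * z * e) * β⁻¹) * e⁻¹ by group,
      he.1.inv_left.eq, inv_mul_cancel_right, hβz, ha',
      show e * (z * a) * e⁻¹ = e * z * e⁻¹ * (e * a * e⁻¹) by group, he.1.eq, mul_inv_cancel_right]
  let mkJ : ∀ g : G, g ∈ J → J := fun g hg => ⟨g, hg⟩
  set Z : J := mkJ z (hTJ W.z_mem_T) with hZ
  set Xj : J := mkJ X (hTJ W.x_mem_T) with hXj
  have hne : ∀ {g : J}, IsConj z (g : G) → π g ≠ 1 := fun {g} hg h1 =>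
    W.not_mem_four hg (Subgroup.mem_subgroupOf.1 ((QuotientGroup.eq_one_iff g).1 h1))
  have hwit : Witness (π Z) (π (mkJ a (hTJ haT))) (π (mkJ a' (hTJ ha'T))) (π (mkJ β hβJ))
      (π (mkJ (e * β * e⁻¹) hβ'J)) := by
    refine ⟨?_, hne (IsConj.refl z), ?_, ?_, ?_⟩
    · rw [← map_mul, show Z * Z = 1 from Subtype.ext F.sys.large.mul_self_z, map_one]
    · rw [← map_inv, ← map_mul, ← map_mul, ← map_mul]
      exact congrArg π (Subtype.ext hβz)
    · rw [← map_inv, ← map_mul, ← map_mul, ← map_mul]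
      exact congrArg π (Subtype.ext hβ'z)
    · rw [← map_inv, ← map_inv, ← map_mul, ← map_mul, ← map_mul]
      refine congrArg π (Subtype.ext ?_)
      show a * a' * a⁻¹ * a'⁻¹ = z
      rw [F.sys.comm haQ ha'Q, hpa, hpa', show bb 4 8 = true by decide +kernel]
      rfl
  have hcit : CIT (J ⧸ V) := by
    intro y hy x
    by_contra hno
    obtain ⟨m, hm, hm1⟩ := CfsgLib.CIT.exists_odd_power (x : J ⧸ V) fun i hi =>
      hno ⟨i, Subtype.ext (by rw [Subgroup.coe_pow, ← hi, pow_orderOf_eq_one]; rfl)⟩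
    obtain ⟨d, rfl⟩ := hsurj y
    obtain ⟨c, hc⟩ := hsurj ((x : J ⧸ V) ^ m)
    obtain ⟨i, l, hl, hil⟩ := Nat.exists_eq_two_pow_mul_odd (orderOf_pos c).ne'
    have hco : Odd (orderOf (c ^ 2 ^ i)) := by
      rw [orderOf_pow_of_dvd (pow_ne_zero _ two_ne_zero) (hil ▸ dvd_mul_right _ _), hil,
        Nat.mul_div_cancel_left _ (pow_pos two_pos i)]
      exact hl
    have hd1 : (d : G) ∉ fourGrp t v := fun h => by
      have h1 : π d = 1 := (QuotientGroup.eq_one_iff d).2 (Subgroup.mem_subgroupOf.2 h)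
      rw [h1, orderOf_one] at hy
      norm_num at hy
    have hdd : π (d * d) = 1 := by
      rw [map_mul, ← pow_two, ← hy, pow_orderOf_eq_one]
    have hcomm : Commute (π (c ^ 2 ^ i)) (π d) := by
      rw [map_pow, hc]
      exact ((show Commute (x : J ⧸ V) (π d) from Subgroup.mem_centralizer_singleton_iff.1 x.2).pow_left m).pow_left _
    have hyd : π (d⁻¹ * (c ^ 2 ^ i * d * (c ^ 2 ^ i)⁻¹)) = 1 := by
      rw [map_mul, map_mul, map_mul, map_inv, map_inv, hcomm.eq, mul_inv_cancel_right, inv_mul_cancel]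
    have h1 := W.odd_centralizer d.2 hd1 (Subgroup.mem_subgroupOf.1 ((QuotientGroup.eq_one_iff (d * d)).1 hdd))
      (c ^ 2 ^ i).2 (by rwa [Subgroup.orderOf_coe]) (Subgroup.mem_subgroupOf.1 ((QuotientGroup.eq_one_iff _).1 hyd))
    have h2 : π (c ^ 2 ^ i) = 1 := by rw [show c ^ 2 ^ i = 1 from Subtype.ext h1, map_one]
    rw [map_pow, hc] at h2
    have h3 : orderOf ((x : J ⧸ V) ^ m) ∣ 2 ^ i := orderOf_dvd_of_pow_eq_one h2
    exact hm1 (orderOf_eq_one_iff.1 (Nat.eq_one_of_dvd_coprimes ((Nat.coprime_two_right.2 hm).pow_right i)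
      dvd_rfl h3))
  have hmemT : ∀ {g : G} (hg : g ∈ Tz), π (mkJ g (hTJ hg)) ∈ T1 := fun {g} hg =>
    ⟨_, Subgroup.mem_subgroupOf.2 hg, rfl⟩
  refine isPSLThreeFour_of_witness hcit hsyl h64 hwit (x := π Xj) (hmemT W.z_mem_T) (hmemT W.x_mem_T) (hmemT haT)
    (hmemT ha'T) ?_ ?_ (hne W.isConj_x) ?_ ?_
  · rintro _ ⟨s, hs, rfl⟩
    exact (show Commute s Z from Subtype.ext (W.z_central (Subgroup.mem_subgroupOf.1 hs)).eq).map π
  · rintro _ ⟨s, hs, rfl⟩
    exact (show Commute s Xj from Subtype.ext (W.x_central (Subgroup.mem_subgroupOf.1 hs)).eq).map π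
  · intro h1
    refine hne (g := Z * Xj) W.isConj_zx ?_
    rw [map_mul, h1, ← map_mul, show Z * Z = 1 from Subtype.ext F.sys.large.mul_self_z, map_one]
  · intro S hzS haS ha'S hconj
    obtain ⟨n, m, hn, hm, hf⟩ := W.reps
    have h := List.all_eq_true.1 four_move _ hf
    simp only [List.any_eq_true, List.contains_iff_mem] at h
    obtain ⟨⟨u, l⟩, hul, hmove⟩ := h
    obtain ⟨h1, h2⟩ := List.mem_filter.1 hul
    simp only [List.mem_flatMap, List.mem_map, vecs, List.mem_filter, List.mem_range, Bool.not_eq_true',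
      Prod.mk.injEq] at h1
    obtain ⟨u', hu', l', ⟨hl64, hl1⟩, rfl, rfl⟩ := h1
    obtain ⟨hc1, hc2⟩ := Bool.and_eq_true_iff.1 h2
    obtain ⟨q, hq, hpq⟩ := F.sys.surj l' hl64
    obtain ⟨g1, g2, g3⟩ := F.sOf_spec hu'
    have hR : Rep z Q p k (sOf z Q p k u' * q) u' l' := ⟨hu', hl64, hl1, _, q, g1, g2, g3, hq, hpq, rfl⟩
    set d := sOf z Q p k u' * q with hd
    have hdT : d ∈ Tz := W.mem_T.2 ⟨(F.rep_acts hR).1, (F.rep_commute_iff hR hn).2 hc1, (F.rep_commute_iff hR hm).2 hc2⟩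
    set b := d * a * d⁻¹ with hb
    have hbQ : b ∈ Q := F.sys.large.conj_mem (F.rep_acts hR).1 haQ
    have hpb : p b = app (rho u') 4 := by rw [hb, (F.rep_acts hR).2 a haQ, hpa]
    have hbJ : b ∈ J := mul_mem (mul_mem (hTJ hdT) (hTJ haT)) (inv_mem (hTJ hdT))
    have hbS : π (mkJ b hbJ) ∈ S := by
      have := hconj _ (hmemT hdT) _ haS
      rwa [← map_inv, ← map_mul, ← map_mul] at this
    obtain ⟨y, hyQ, hyJ, hyS, hpy⟩ : ∃ y, y ∈ Q ∧ ∃ hy : y ∈ J, π (mkJ y hy) ∈ S ∧ p y = 1 := by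
      simp only [List.mem_cons, List.not_mem_nil, or_false] at hmove
      rcases hmove with e' | e' | e'
      · refine ⟨b * a, Q.mul_mem hbQ haQ, mul_mem hbJ (hTJ haT), ?_, ?_⟩
        · have := S.mul_mem hbS haS
          rwa [← map_mul] at this
        · rw [F.sys.map_mul _ hbQ _ haQ, hpb, hpa, e']; decide
      · refine ⟨b * a', Q.mul_mem hbQ ha'Q, mul_mem hbJ (hTJ ha'T), ?_, ?_⟩
        · have := S.mul_mem hbS ha'S
          rwa [← map_mul] at this
        · rw [F.sys.map_mul _ hbQ _ ha'Q, hpb, hpa', e']; decide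
      · refine ⟨b * a * a', Q.mul_mem (Q.mul_mem hbQ haQ) ha'Q, mul_mem (mul_mem hbJ (hTJ haT)) (hTJ ha'T), ?_, ?_⟩
        · have := S.mul_mem (S.mul_mem hbS haS) ha'S
          rwa [← map_mul, ← map_mul] at this
        · rw [F.sys.map_mul _ (Q.mul_mem hbQ haQ) _ ha'Q, F.sys.map_mul _ hbQ _ haQ, hpb, hpa, hpa', e']; decide
    obtain ⟨i, ei⟩ := F.sys.eq_of_p F.memQ hyQ (by rw [F.px, hpy])
    cases i
    · have e0 : mkJ y hyJ = Xj := Subtype.ext (ei.trans (mul_one X))
      rwa [e0] at hyS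
    · have e0 : mkJ y hyJ = Xj * Z := Subtype.ext ei
      have e1 := S.mul_mem hyS hzS
      rwa [e0, ← map_mul, mul_assoc, show Z * Z = 1 from Subtype.ext F.sys.large.mul_self_z, mul_one] at e1

end Four

end CfsgLib.LocalEvenB.SuzType
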