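import Cfsg.Agent.Lib.LocalEvenB.SuzType.Locals.CentJ
import Cfsg.Agent.Lib.LocalEvenB.SuzType.Locals.CentCount
import Cfsg.Agent.Lib.ZStar.Main

/-!
The centralizer of a far involution: the four-group is normal in it, and its order is 161280 (owner: helper8).
-/

set_option autoImplicit false
set_option linter.unusedSectionVars false
set_option linter.unusedVariables false
set_option linter.style.haveILetI false
set_option maxRecDepth 100000
set_option quotPrecheck false
set_option Elab.async false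

namespace CfsgLib.LocalEvenB.SuzType

open CfsgLib.ThreeTrans
open CfsgLib.CIT (CIT IsSyl IsPSLThreeFour)

variable {G : Type*} [Group G] [Finite G] {z : G} {Q : Subgroup G} {p : G → Nat} {k : G}

/-- A member of odd order lying over a given element of odd order. -/
theorem exists_odd_over {A B : Type*} [Group A] [Finite A] [Group B] (π : A →* B) {c : A}
    (hc : Odd (orderOf (π c))) : ∃ g : A, π g = π c ∧ Odd (orderOf g) ∧ g ∈ Subgroup.zpowers c := by
  obtain ⟨i, l, hl, hil⟩ := Nat.exists_eq_two_pow_mul_odd (orderOf_pos c).ne'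
  have hco : orderOf (c ^ 2 ^ i) = l := by
    rw [orderOf_pow_of_dvd (pow_ne_zero _ two_ne_zero) (hil ▸ dvd_mul_right _ _), hil,
      Nat.mul_div_cancel_left _ (pow_pos two_pos i)]
  obtain ⟨m, hm⟩ := exists_pow_eq_self_of_coprime ((Nat.coprime_two_left.2 hc).pow_left i)
  refine ⟨(c ^ 2 ^ i) ^ m, ?_, ?_, pow_mem (pow_mem (Subgroup.mem_zpowers c) _) _⟩
  · rw [map_pow, map_pow, hm]
  · exact Odd.of_dvd_nat hl (hco ▸ orderOf_pow_dvd m)

namespace Four

variable {t v : G} (W : Four z Q p k t v)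
include W

local notation "X" => k * z * k⁻¹
local notation "Dz" => (Subgroup.centralizer ({z} : Set G) ⊓ Subgroup.centralizer ({t} : Set G) : Subgroup G)
local notation "Tz" => (Subgroup.centralizer ({z} : Set G) ⊓ Subgroup.centralizer ({t} : Set G) ⊓
  Subgroup.centralizer ({v} : Set G) : Subgroup G)

theorem z_mem_J : z ∈ fourCent t v := mem_fourCent.2 ⟨W.acts_t.1.symm, W.acts_v.1.symm⟩

/-- Conjugates of `z` in the centralizer of the four-group are conjugate there. -/
theorem conj_in_J {f : G} (hf : IsConj z f) (hfJ : f ∈ fourCent t v) :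
    ∃ j ∈ fourCent t v, j * z * j⁻¹ = f := by
  haveI := W.normal_four
  set V := (fourGrp t v).subgroupOf (fourCent t v) with hV
  have hord : ∀ g : fourCent t v, IsConj z (g : G) → orderOf (QuotientGroup.mk' V g) = 2 := by
    intro g hg
    refine orderOf_eq_prime ?_ fun e => W.not_mem_four hg
      (Subgroup.mem_subgroupOf.1 ((QuotientGroup.eq_one_iff g).1 e))
    obtain ⟨h, hh⟩ := isConj_iff.1 hg
    rw [pow_two, ← map_mul, show g * g = 1 from Subtype.ext (hh ▸ conj_sq_one W.frame.sys.large.mul_self_z h :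
      (g : G) * g = 1), map_one]
  obtain ⟨q, hq⟩ := isConj_iff.1 (LFour.invol_conj W.quotient_psl (hord ⟨z, W.z_mem_J⟩ (IsConj.refl z))
    (hord ⟨f, hfJ⟩ hf))
  obtain ⟨j, rfl⟩ := QuotientGroup.mk'_surjective V q
  refine ⟨j, j.2, ?_⟩
  rw [← map_inv, ← map_mul, ← map_mul, QuotientGroup.mk'_eq_mk'] at hq
  obtain ⟨w, hw, e⟩ := hq
  have e' : (j : G) * z * (j : G)⁻¹ * (w : G) = f := congrArg Subtype.val e
  have hj : IsConj z ((j : G) * z * (j : G)⁻¹) := isConj_iff.2 ⟨j, rfl⟩
  have h1 := W.eq_one_of_conj hj (mul_mem (mul_mem j.2 W.z_mem_J) (inv_mem j.2))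
    (Subgroup.mem_subgroupOf.1 hw) (e' ▸ hf)
  rw [h1, mul_one] at e'
  exact e'

/-- `v` is isolated among its conjugates under the centralizer of `t`. -/
theorem isolation {c : G} (hc : Commute c t) (hcD : c * v * c⁻¹ ∈ Dz) :
    c * v * c⁻¹ = v ∨ c * v * c⁻¹ = t * v := by
  obtain ⟨hcz, -⟩ := W.mem_D.1 hcD
  have hfv : Commute (c⁻¹ * z * c) v := by
    have := hcz.symm.map (MulAut.conj c⁻¹)
    simpa [mul_assoc] using this
  have hft : Commute (c⁻¹ * z * c) t := by
    have := W.acts_t.1.symm.map (MulAut.conj c⁻¹)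
    have e : c⁻¹ * t * c = t := by rw [mul_assoc, ← hc.eq, inv_mul_cancel_left]
    simpa [e] using this
  obtain ⟨j, hj, hjf⟩ := W.conj_in_J (isConj_iff.2 ⟨c⁻¹, by group⟩) (mem_fourCent.2 ⟨hft, hfv⟩)
  obtain ⟨hjt, hjv⟩ := mem_fourCent.1 hj
  have hd : c * j ∈ Dz := by
    refine W.mem_D.2 ⟨mul_inv_eq_iff_eq_mul.1 ?_, hc.mul_left hjt⟩
    calc c * j * z * (c * j)⁻¹ = c * (j * z * j⁻¹) * c⁻¹ := by group
      _ = z := by rw [hjf]; group
  have e : c * j * v * (c * j)⁻¹ = c * v * c⁻¹ := by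
    rw [show c * j * v * (c * j)⁻¹ = c * (j * v * j⁻¹) * c⁻¹ by group, hjv.eq, mul_inv_cancel_right]
  rw [← e]
  exact W.conj_v hd

/-- The odd core of the centralizer of `t` modulo `t` is trivial: a fixed-point argument. -/
theorem odd_fixed {r f : G} (hr : Commute r t) (hro : Odd (orderOf r)) (hf : IsConj z f) (hft : Commute f t)
    (h : f * r * f⁻¹ * r⁻¹ ∈ Subgroup.zpowers t) : r = 1 := by
  obtain ⟨n, hn⟩ := Subgroup.mem_zpowers_iff.1 h
  have hcases : f * r * f⁻¹ = r ∨ f * r * f⁻¹ = r * t := by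
    rcases Int.even_or_odd n with ⟨i, rfl⟩ | ⟨i, rfl⟩
    · left
      rw [show i + i = 2 * i by ring, zpow_mul, zpow_two, W.sq_t, one_zpow] at hn
      exact (mul_inv_eq_one.1 hn.symm)
    · right
      rw [zpow_add, zpow_mul, zpow_two, W.sq_t, one_zpow, one_mul, zpow_one] at hn
      calc f * r * f⁻¹ = f * r * f⁻¹ * r⁻¹ * r := by group
        _ = t * r := by rw [← hn]
        _ = r * t := hr.symm.eq
  rcases hcases with e | e
  · exact CfsgLib.CIT.eq_one_of_odd_of_pGroup
      (IsPGroup.of_card (n := 9) (G := (Subgroup.centralizer ({f} : Set G) ⊓ Subgroup.centralizer ({t} : Set G) :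
        Subgroup G)) (by rw [W.card_pair hf W.isT_t hft]; norm_num))
      (Subgroup.mem_inf.2 ⟨mem_centralizer_singleton_iff'.2 (mul_inv_eq_iff_eq_mul.1 e : Commute f r).symm,
        mem_centralizer_singleton_iff'.2 hr⟩) hro
  · exfalso
    have h1 : orderOf (r * t) = orderOf r := e ▸ ((MulAut.conj f).orderOf_eq r)
    rw [hr.orderOf_mul_eq_mul_orderOf_of_coprime (by
      rw [orderOf_eq_prime (by rw [pow_two, W.sq_t]) W.isT_t.2.1]; exact Nat.coprime_two_right.2 hro),
      orderOf_eq_prime (by rw [pow_two, W.sq_t]) W.isT_t.2.1] at h1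
    have := orderOf_pos r
    omega

/-- The centralizer of `t` moves `v` at most to `t * v`. -/
theorem v_conj {c : G} (hc : Commute c t) : c * v * c⁻¹ = v ∨ c * v * c⁻¹ = t * v := by
  classical
  haveI : Fact (Nat.Prime 2) := ⟨Nat.prime_two⟩
  set K := Subgroup.centralizer ({t} : Set G) with hK
  set N := (Subgroup.zpowers t).subgroupOf K with hN
  have hKc : ∀ g : K, Commute (g : G) t := fun g => mem_centralizer_singleton_iff'.1 g.2
  haveI : N.Normal := ⟨fun w hw g => by
    rw [hN, Subgroup.mem_subgroupOf] at hw ⊢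
    obtain ⟨i, hi⟩ := Subgroup.mem_zpowers_iff.1 hw
    simp only [Subgroup.coe_mul, Subgroup.coe_inv, ← hi]
    rw [((hKc g).zpow_right i).eq, mul_inv_cancel_right]
    exact Subgroup.zpow_mem_zpowers t i⟩
  set π := QuotientGroup.mk' N with hπ
  have hsurj : Function.Surjective π := QuotientGroup.mk'_surjective N
  have hmem : ∀ {g : K}, π g = 1 ↔ (g : G) ∈ Subgroup.zpowers t := fun {g} =>
    (QuotientGroup.eq_one_iff g).trans Subgroup.mem_subgroupOf
  have htD : Subgroup.zpowers t ≤ Dz := Subgroup.zpowers_le.2 (W.mem_D.2 ⟨W.acts_t.1, Commute.refl t⟩)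
  obtain ⟨P, hP⟩ := W.syl_D.subgroupOf
  set Vk : K := ⟨v, mem_centralizer_singleton_iff'.2 W.comm_tv.symm⟩ with hVk
  have hvD : v ∈ Dz := W.mem_D.2 ⟨W.acts_v.1, W.comm_tv.symm⟩
  have hcases : ∀ {g : G}, g ∈ Subgroup.zpowers t → g = 1 ∨ g = t := by
    intro g hg
    obtain ⟨i, rfl⟩ := Subgroup.mem_zpowers_iff.1 hg
    rcases Int.even_or_odd i with ⟨j, rfl⟩ | ⟨j, rfl⟩
    · left; rw [show j + j = 2 * j by ring, zpow_mul, zpow_two, W.sq_t, one_zpow]
    · right; rw [zpow_add, zpow_mul, zpow_two, W.sq_t, one_zpow, one_mul, zpow_one]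
  have hu : orderOf (π Vk) = 2 := by
    refine orderOf_eq_prime ?_ fun e => ?_
    · rw [pow_two, ← map_mul, show Vk * Vk = 1 from Subtype.ext W.sq_v, map_one]
    · rcases hcases (hmem.1 e) with e' | e'
      · exact W.isT_v.2.1 e'
      · refine W.isT_tv.2.1 ?_
        change v = t at e'
        rw [e', W.sq_t]
  have hzs := CfsgLib.ZStar.mem_oddCore_of_sylow (u := π Vk) (P.mapSurjective hsurj) hu
    (by
      show π Vk ∈ ((P.mapSurjective hsurj : Sylow 2 (K ⧸ N)) : Subgroup (K ⧸ N))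
      rw [Sylow.coe_mapSurjective]
      refine ⟨Vk, ?_, rfl⟩
      have := hP.ge hvD
      obtain ⟨y, hy, e⟩ := this
      rwa [show Vk = y from Subtype.ext e.symm])
    (fun g hg => by
      obtain ⟨g, rfl⟩ := hsurj g
      change π g * π Vk * (π g)⁻¹ ∈ ((P.mapSurjective hsurj : Sylow 2 (K ⧸ N)) : Subgroup (K ⧸ N)) at hg
      rw [Sylow.coe_mapSurjective, ← map_inv, ← map_mul, ← map_mul] at hg
      obtain ⟨y, hy, hye⟩ := hg
      have hyD : (y : G) ∈ Dz := hP.le ⟨y, hy, rfl⟩
      have h1 : π (y⁻¹ * (g * Vk * g⁻¹)) = 1 := by rw [map_mul, map_inv, hye, inv_mul_cancel]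
      have h2 : (g : G) * v * (g : G)⁻¹ ∈ Dz := by
        have := mul_mem hyD (htD (hmem.1 h1))
        simpa [mul_assoc] using this
      rw [← map_inv, ← map_mul, ← map_mul, ← inv_mul_eq_one, ← map_inv, ← map_mul, hmem]
      show ((g : G) * v * (g : G)⁻¹)⁻¹ * v ∈ Subgroup.zpowers t
      rcases W.isolation (hKc g) h2 with e | e <;> rw [e]
      · rw [inv_mul_cancel]; exact one_mem _
      · rw [mul_inv_rev, inv_of_sq W.sq_v, inv_of_sq W.sq_t, mul_assoc, W.comm_tv.eq, ← mul_assoc, W.sq_v, one_mul]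
        exact Subgroup.mem_zpowers t)
  -- the odd core is trivial
  set R := Cfsg.oddCore (K ⧸ N) with hR
  haveI hRn : R.Normal := by rw [hR]; infer_instance
  have hRodd : Odd (Nat.card R) := CfsgLib.ZStar.odd_card_oddCore _
  have hRbot : ∀ r ∈ R, r = 1 := by
    have hfix : ∀ (f : K), IsConj z (f : G) → ∀ r ∈ R, π f * r * (π f)⁻¹ = r → r = 1 := by
      intro f hf r hr hfr
      obtain ⟨c, rfl⟩ := hsurj r
      obtain ⟨g, hg, hgo, -⟩ := exists_odd_over π (c := c)
        (Odd.of_dvd_nat hRodd (Subgroup.orderOf_dvd_natCard R hr))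
      rw [← hg] at hfr ⊢
      have h1 : π (f * g * f⁻¹ * g⁻¹) = 1 := by rw [map_mul, map_mul, map_mul, map_inv, map_inv, hfr, mul_inv_cancel]
      have h2 := W.odd_fixed (hKc g) (by rwa [Subgroup.orderOf_coe]) hf (hKc f) (hmem.1 h1)
      rw [show g = 1 from Subtype.ext h2, map_one]
    have hinv : ∀ (f : K), IsConj z (f : G) → ∀ r ∈ R, π f * r * (π f)⁻¹ = r⁻¹ := by
      intro f hf r hr
      refine CfsgLib.CIT.inverts_of_fpf (N := R) ?_ (fun n hn => hRn.conj_mem n hn _) (hfix f hf) r hr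
      refine orderOf_eq_prime ?_ fun e => ?_
      · obtain ⟨h, hh⟩ := isConj_iff.1 hf
        rw [pow_two, ← map_mul, show f * f = 1 from Subtype.ext (hh ▸ conj_sq_one W.frame.sys.large.mul_self_z h :
          (f : G) * f = 1), map_one]
      · have h0 := hcases (hmem.1 e)
        obtain ⟨h, hh⟩ := isConj_iff.1 hf
        rcases h0 with e' | e'
        · exact W.frame.sys.large.z_ne_one (conj_eq_one_iff.1 (hh.trans e'))
        · exact W.isT_t.2.2 (e' ▸ hf)
    intro r hr
    set Zk : K := ⟨z, mem_centralizer_singleton_iff'.2 W.acts_t.1.symm⟩ with hZk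
    set Xk : K := ⟨X, mem_centralizer_singleton_iff'.2 W.comm_xt.symm⟩ with hXk
    have h1 := hinv (Zk * Xk) W.isConj_zx r hr
    have h2 : π (Zk * Xk) * r * (π (Zk * Xk))⁻¹ = r := by
      rw [map_mul, show π Zk * π Xk * r * (π Zk * π Xk)⁻¹ = π Zk * (π Xk * r * (π Xk)⁻¹) * (π Zk)⁻¹ by group,
        hinv Xk W.isConj_x r hr, hinv Zk (IsConj.refl z) _ (R.inv_mem hr), inv_inv]
    exact CfsgLib.ZStar.eq_one_of_odd_of_sq (Odd.of_dvd_nat hRodd (Subgroup.orderOf_dvd_natCard R hr))
      (by rw [pow_two]; exact mul_eq_one_iff_eq_inv.2 (h2.symm.trans h1))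
  have h1 := hRbot _ (hzs (π ⟨c, mem_centralizer_singleton_iff'.2 hc⟩))
  rw [← map_inv, ← map_inv, ← map_mul, ← map_mul, ← map_mul, hmem] at h1
  change v * c * v⁻¹ * c⁻¹ ∈ Subgroup.zpowers t at h1
  have e : c * v * c⁻¹ = (v * c * v⁻¹ * c⁻¹)⁻¹ * v := by group
  rw [e]
  rcases hcases h1 with e' | e' <;> rw [e']
  · exact Or.inl (by rw [inv_one, one_mul])
  · exact Or.inr (by rw [inv_of_sq W.sq_t])

theorem sq_mem_J {c : G} (hc : Commute c t) : c * c ∈ fourCent t v := by
  refine mem_fourCent.2 ⟨hc.mul_left hc, mul_inv_eq_iff_eq_mul.1 ?_⟩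
  rw [show c * c * v * (c * c)⁻¹ = c * (c * v * c⁻¹) * c⁻¹ by group]
  rcases W.v_conj hc with e | e
  · rw [e, e]
  · rw [e, show c * (t * v) * c⁻¹ = c * t * c⁻¹ * (c * v * c⁻¹) by group, e, hc.eq, mul_inv_cancel_right,
      ← mul_assoc, W.sq_t, one_mul]

theorem mem_J_of_odd {c : G} (hc : Commute c t) (ho : Odd (orderOf c)) : c ∈ fourCent t v := by
  obtain ⟨m, hm⟩ := exists_pow_eq_self_of_coprime (Nat.coprime_two_left.2 ho)
  rw [← hm, pow_two]
  exact pow_mem (W.sq_mem_J hc) m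

theorem card_J : Nat.card (fourCent t v) = 80640 := by
  haveI := W.normal_four
  rw [Subgroup.card_eq_card_quotient_mul_card_subgroup ((fourGrp t v).subgroupOf (fourCent t v)),
    LFour.card W.quotient_psl, Nat.card_congr (Subgroup.subgroupOfEquivOfLe W.four_le).toEquiv, W.card_fourGrp]

theorem card_K : Nat.card (Subgroup.centralizer ({t} : Set G)) = 161280 := by
  classical
  obtain ⟨e, he, het, hev⟩ := W.exists_swap
  have heJ : e ∉ fourCent t v := fun h => W.isT_t.2.1 (by
    have h1 : e * v * e⁻¹ = v := by rw [(mem_fourCent.1 h).2.eq, mul_inv_cancel_right]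
    exact right_eq_mul.1 (h1.symm.trans hev))
  let f : fourCent t v × Bool → Subgroup.centralizer ({t} : Set G) := fun x => ⟨(bif x.2 then e else 1) * x.1, by
    refine mem_centralizer_singleton_iff'.2 ?_
    rcases x with ⟨x, _ | _⟩
    · exact (Commute.one_left t).mul_left (mem_fourCent.1 x.2).1
    · exact het.mul_left (mem_fourCent.1 x.2).1⟩
  have hf : Function.Bijective f := by
    constructor
    · rintro ⟨a, i⟩ ⟨b, j⟩ h
      have h' : (bif i then e else 1) * (a : G) = (bif j then e else 1) * (b : G) := congrArg Subtype.val h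
      rcases i <;> rcases j <;> simp only [cond_true, cond_false, one_mul] at h'
      · rw [Subtype.ext h']
      · refine absurd ?_ heJ
        rw [eq_mul_inv_of_mul_eq h'.symm]
        exact mul_mem a.2 (inv_mem b.2)
      · refine absurd ?_ heJ
        rw [eq_mul_inv_of_mul_eq h']
        exact mul_mem b.2 (inv_mem a.2)
      · rw [Subtype.ext (mul_left_cancel h')]
    · rintro ⟨c, hc⟩
      have hct := mem_centralizer_singleton_iff'.1 hc
      rcases W.v_conj hct with h | h
      · exact ⟨(⟨c, mem_fourCent.2 ⟨hct, mul_inv_eq_iff_eq_mul.1 h⟩⟩, false), Subtype.ext (one_mul c)⟩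
      · refine ⟨(⟨e⁻¹ * c, mem_fourCent.2 ⟨het.inv_left.mul_left hct, mul_inv_eq_iff_eq_mul.1 ?_⟩⟩, true),
          Subtype.ext (mul_inv_cancel_left e c)⟩
        rw [show e⁻¹ * c * v * (e⁻¹ * c)⁻¹ = e⁻¹ * (c * v * c⁻¹) * e by group, h, ← hev]
        group
  rw [← Nat.card_eq_of_bijective f hf, Nat.card_prod, W.card_J]
  simp

end Four

end CfsgLib.LocalEvenB.SuzType
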