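import Cfsg.Agent.Lib.LocalEvenB.SuzType.Locals.CentK

/-!
Outside the centralizer of the four-group, no element centralizing `t` centralizes an element of order seven
(owner: helper8).
-/

set_option autoImplicit false
set_option linter.unusedSectionVars false
set_option linter.unusedVariables false
set_option linter.style.haveILetI false
set_option maxRecDepth 100000
set_option quotPrecheck false
set_option Elab.async false

namespace CfsgLib.LocalEvenB.SuzType

open CfsgLib.ThreeTrans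
open CfsgLib.CIT (CIT IsSyl IsPSLThreeFour)

theorem swap_x : [32, 33, 48, 49].all (fun n =>
    !(bb n 32 == bb (app lamM n) 32) && !(bb (app lamM n) 1)) = true := by decide +kernel

theorem out_fix : fourList.all (fun e => (pairList e.1 e.2).all fun wn => !(invB wn.1 wn.2) || qb wn.1 ||
    wn.1 == 0 || sect.all fun u =>
      !(comp (comp lamM (rho u)) (rho wn.1) == comp (rho wn.1) (comp lamM (rho u))) ||
      bb (app (comp lamM (rho u)) 4) 1 ||
      !(cz wn.1 wn.2 0 (app (comp lamM (rho u)) 4) == (cz wn.1 wn.2 0 4 ^^ cx wn.1 wn.2 0 4) &&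
        cx wn.1 wn.2 0 (app (comp lamM (rho u)) 4) == cx wn.1 wn.2 0 4)) = true := by decide +kernel

theorem out_inner : fourList.all (fun e => (pairList e.1 e.2).all fun wn => !(wn.1 == 0) || qb wn.2 ||
    wn.2 == 0 || wn.2 == 1 || sect.all fun u => !(fixB (comp lamM (rho u)) wn.2)) = true := by decide +kernel

theorem lam_rho_four : sect.all (fun u => bb (app (comp lamM (rho u)) 4) 1 == false) = true := by decide +kernel

variable {G : Type*} [Group G] [Finite G] {z : G} {Q : Subgroup G} {p : G → Nat} {k : G}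

namespace Four

variable {t v : G} (W : Four z Q p k t v)
include W

local notation "X" => k * z * k⁻¹
local notation "P" => Q.map (MulAut.conj k).toMonoidHom
local notation "Dz" => (Subgroup.centralizer ({z} : Set G) ⊓ Subgroup.centralizer ({t} : Set G) : Subgroup G)
local notation "Tz" => (Subgroup.centralizer ({z} : Set G) ⊓ Subgroup.centralizer ({t} : Set G) ⊓
  Subgroup.centralizer ({v} : Set G) : Subgroup G)

/-- The outer elements move `x`. -/
theorem swap_moves_x {e : G} (he : Acts z Q p e lamM) (het : Commute e t) : e * X * e⁻¹ = X * z := by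
  have F := W.frame
  have hl : app lamM 1 = 1 := by decide +kernel
  obtain ⟨i, ei⟩ := F.sys.eq_of_p F.memQ (F.sys.large.conj_mem he.1 F.memQ) (by rw [he.2 _ F.memQ, F.px, hl])
  cases i
  swap
  · exact ei
  exfalso
  rw [show sg z false = 1 from rfl, mul_one] at ei
  have hex : Commute e X := mul_inv_eq_iff_eq_mul.1 ei
  obtain ⟨n, m, hn, -, hf⟩ := W.reps
  have hmem : n ∈ [32, 33, 48, 49] := by
    have := List.all_eq_true.1 fourList_first _ hf
    rwa [List.contains_iff_mem] at this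
  have hfin := List.all_eq_true.1 swap_x n hmem
  simp only [Bool.and_eq_true, Bool.not_eq_true', beq_eq_false_iff_ne] at hfin
  obtain ⟨h16, -, -, s, q, hs, hsz, hsA, hq, hpq, hte⟩ := id hn
  have hs' : e * s * e⁻¹ ∈ P := F.sys'.large.conj_mem hex hs
  have hq' : e * q * e⁻¹ ∈ Q := F.sys.large.conj_mem he.1 hq
  have hsplit : t = e * s * e⁻¹ * (e * q * e⁻¹) := by
    calc t = e * t * e⁻¹ := by rw [het.eq, mul_inv_cancel_right]
      _ = _ := by rw [hte]; group
  have hs'A : Acts z Q p (e * s * e⁻¹) (rho 16) := by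
    have h1 := F.sys.acts_mul (show one.length = 6 from rfl) W.acts_t (F.sys.acts_of_mem (Q.inv_mem hq'))
    rw [show comp (rho 16) one = rho 16 by decide +kernel, hsplit, mul_inv_cancel_right] at h1
    exact h1
  have hR' : Rep z Q p k t 16 (app lamM n) := by
    have hpq' : p (e * q * e⁻¹) = app lamM n := by rw [he.2 q hq, hpq]
    exact ⟨h16, hpq' ▸ F.sys.lt _ hq', hfin.2, _, _, hs', (he.1.mul_left hsz).mul_left he.1.inv_left, hs'A, hq',
      hpq', hsplit⟩
  obtain ⟨r, hr, hpr⟩ := F.sys.surj 32 (by norm_num)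
  have hRr := F.rep_of_mem hr (by rw [hpr]; decide +kernel)
  rw [hpr] at hRr
  obtain ⟨h1, -⟩ := F.pair_inj ((F.rep_comm hn hRr).symm.trans (F.rep_comm hR' hRr))
  refine hfin.1 ?_
  have hz : ∀ l : Nat, cz 16 l 0 32 = (bb 16 32 ^^ bb l 32) := fun l => by
    unfold cz; rw [bb_zero_left, Bool.false_xor]
  rw [hz, hz] at h1
  revert h1
  cases bb 16 32 <;> simp

/-- `z` is the only conjugate of `z` in the centralizer of the four-group commuting with an outer element. -/
theorem outer_unique {f d : G} (hf : f ∈ Dz) (hfJ : ¬ Commute f v) (hd : d ∈ Tz) (hdz : IsConj z d)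
    (hfd : Commute f d) : d = z := by
  have F := W.frame
  obtain ⟨hfz, hft⟩ := W.mem_D.1 hf
  obtain ⟨e, he, het, hev⟩ := W.exists_swap
  have hfT : f ∉ Tz := fun h => hfJ (W.mem_T.1 h).2.2
  have hx : e⁻¹ * f ∈ Tz := (W.mem_or he het hf).resolve_left hfT
  have hfX : f * X * f⁻¹ = X * z := by
    have h1 : e⁻¹ * f * X * (e⁻¹ * f)⁻¹ = X := by rw [(W.x_central hx).eq, mul_inv_cancel_right]
    calc f * X * f⁻¹ = e * (e⁻¹ * f * X * (e⁻¹ * f)⁻¹) * e⁻¹ := by group
      _ = _ := by rw [h1, W.swap_moves_x he het]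
  obtain ⟨u, hu, hfA⟩ : ∃ u ∈ sect, Acts z Q p f (comp lamM (rho u)) := by
    rcases W.image_far hfz hft with ⟨u, hu, hA⟩ | h
    · exact absurd (W.mem_T_of_rho hfz hft hu hA) hfT
    · exact h
  obtain ⟨hdz', hdt, hdv⟩ := W.mem_T.1 hd
  obtain ⟨n, m, hn, hm, hfl⟩ := W.reps
  obtain ⟨w, hw, hdA⟩ := W.image_four hdz' hdt hdv
  obtain ⟨l, hdR⟩ := F.exists_rep hw hdA (W.comm_x_of_comm hw hdA (Or.inl hdt))
  have hdd : d * d = 1 := by
    obtain ⟨c, rfl⟩ := isConj_iff.1 hdz
    exact conj_sq_one F.sys.large.mul_self_z c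
  have hd1 : d ≠ 1 := by
    obtain ⟨c, rfl⟩ := isConj_iff.1 hdz
    exact fun e => F.sys.large.z_ne_one (conj_eq_one_iff.1 e)
  by_cases hw0 : w = 0
  · subst hw0
    rw [F.rho_zero] at hdA
    have hdQ := F.sys.mem_of_acts_one hdA
    have hqb : qb (p d) = false := F.sys.sg_inj ((F.sys.sq d hdQ).symm.trans hdd)
    have hd1' : bb (p d) 1 = false := (F.comm_x hdQ).1 (W.x_central hd)
    have hR := F.rep_of_mem hdQ hd1'
    have hmem : ((0 : Nat), p d) ∈ pairList n m := by
      refine List.mem_filter.2 ⟨List.mem_flatMap.2 ⟨0, zero_mem_sect, List.mem_map.2 ⟨_, List.mem_filter.2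
        ⟨List.mem_range.2 hR.2.1, ?_⟩, rfl⟩⟩, ?_⟩
      · simp [hd1']
      · simp [(F.rep_commute_iff hR hn).1 hdt, (F.rep_commute_iff hR hm).1 hdv]
    have hfix : fixB (comp lamM (rho u)) (p d) = true := by
      rw [fixB, beq_iff_eq, ← hfA.2 d hdQ, hfd.eq, mul_inv_cancel_right]
    have h := List.all_eq_true.1 (List.all_eq_true.1 out_inner _ hfl) _ hmem
    simp only [beq_self_eq_true, Bool.not_true, Bool.false_or, hqb, Bool.or_eq_true, beq_iff_eq] at h
    rcases h with (h | h) | h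
    · exact (F.sys.ker d hdQ h).resolve_left hd1
    · exfalso
      obtain ⟨i, ei⟩ := F.sys.eq_of_p F.memQ hdQ (by rw [F.px, h])
      have e1 : f * d * f⁻¹ = d := by rw [hfd.eq, mul_inv_cancel_right]
      rw [ei, show f * (X * sg z i) * f⁻¹ = f * X * f⁻¹ * (f * sg z i * f⁻¹) by group, hfX,
        (F.sys.sg_comm hfz i).eq, mul_inv_cancel_right] at e1
      exact F.sys.large.z_ne_one (mul_eq_left.1 (mul_right_cancel e1))
    · rw [List.all_eq_true] at h
      have := h u hu
      rw [hfix] at this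
      exact absurd this (by simp)
  · exfalso
    have hq : qb w = false := (F.siegel_type hw hw0 hdA hdd).1 hdz
    have hmem : (w, l) ∈ pairList n m := by
      refine List.mem_filter.2 ⟨List.mem_flatMap.2 ⟨w, hw, List.mem_map.2 ⟨_, List.mem_filter.2
        ⟨List.mem_range.2 hdR.2.1, ?_⟩, rfl⟩⟩, ?_⟩
      · simp [hdR.2.2.1]
      · simp [(F.rep_commute_iff hdR hn).1 hdt, (F.rep_commute_iff hdR hm).1 hdv]
    obtain ⟨a, -, -, haQ, -, hpa, -⟩ := W.wit
    have Ra := F.rep_of_mem haQ (by rw [hpa]; decide +kernel)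
    rw [hpa] at Ra
    set A := comp lamM (rho u) with hA
    have hb : f * a * f⁻¹ ∈ Q := F.sys.large.conj_mem hfz haQ
    have hpb : p (f * a * f⁻¹) = app A 4 := by rw [hfA.2 a haQ, hpa]
    have hb1 := List.all_eq_true.1 lam_rho_four u hu
    rw [beq_iff_eq, ← hA] at hb1
    have Rb := F.rep_of_mem hb (by rw [hpb]; exact hb1)
    rw [hpb] at Rb
    have e1 := F.rep_comm hdR Ra
    have e2 := F.rep_comm hdR Rb
    have e3 : f * (d * a * d⁻¹ * a⁻¹) * f⁻¹ = d * (f * a * f⁻¹) * d⁻¹ * (f * a * f⁻¹)⁻¹ := by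
      calc f * (d * a * d⁻¹ * a⁻¹) * f⁻¹
          = (f * d * f⁻¹) * (f * a * f⁻¹) * (f * d * f⁻¹)⁻¹ * (f * a * f⁻¹)⁻¹ := by group
        _ = _ := by rw [hfd.eq, mul_inv_cancel_right]
    have e4 : ∀ i j : Bool, f * (sg z i * sg X j) * f⁻¹ = sg z (i ^^ j) * sg X j := by
      intro i j
      rw [show f * (sg z i * sg X j) * f⁻¹ = f * sg z i * f⁻¹ * (f * sg X j * f⁻¹) by group,
        (F.sys.sg_comm hfz i).eq, mul_inv_cancel_right]
      cases j
      · simp [show sg X false = 1 from rfl]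
      · rw [show sg X true = X from rfl, hfX, ← F.z_comm_x.eq, ← mul_assoc, show sg z i * z = sg z i * sg z true from rfl,
          F.sys.sg_mul]
    rw [e1, e2, e4] at e3
    obtain ⟨h1, h2⟩ := F.pair_inj e3
    have h := List.all_eq_true.1 (List.all_eq_true.1 out_fix _ hfl) _ hmem
    simp only [(F.rep_invol_iff hdR).1 hdd, hq, beq_eq_false_iff_ne.2 hw0, Bool.not_true, Bool.false_or,
      List.all_eq_true] at h
    have h' := h u hu
    rw [← hA] at h'
    simp [F.sys.comm_of_commute (by rw [hA, length_comp, F.rho_len]) (F.rho_len w) hfA hdA hfd, hb1, ← h1, ← h2]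
      at h'

theorem conj_mem_J {g j : G} (hg : Commute g t) (hj : j ∈ fourCent t v) : g * j * g⁻¹ ∈ fourCent t v := by
  obtain ⟨hjt, hjv⟩ := mem_fourCent.1 hj
  refine mem_fourCent.2 ⟨(hg.mul_left hjt).mul_left hg.inv_left, ?_⟩
  have hc : Commute j (g⁻¹ * v * g) := by
    rcases W.v_conj hg.inv_left with e | e <;> rw [inv_inv] at e <;> rw [e]
    exacts [hjv, hjt.mul_right hjv]
  have h2 := (LargeData.commute_conj_iff' (g := g)).2 hc
  rwa [show g * (g⁻¹ * v * g) * g⁻¹ = v by group] at h2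

/-- An element centralizing `t` and one of order seven centralizes the four-group. -/
theorem no_outer_seven {c y : G} (hc : Commute c t) (hy : y ∈ fourCent t v) (hy7 : orderOf y = 7)
    (hcy : Commute c y) : c ∈ fourCent t v := by
  classical
  by_contra hcJ
  haveI := W.normal_four
  haveI : Fact (Nat.Prime 2) := ⟨Nat.prime_two⟩
  obtain ⟨i, l, hl, hil⟩ := Nat.exists_eq_two_pow_mul_odd (orderOf_pos c).ne'
  have hf2 : (c ^ l) ^ 2 ^ i = 1 := by rw [← pow_mul, mul_comm, ← hil, pow_orderOf_eq_one]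
  have hfJ : c ^ l ∉ fourCent t v := by
    intro h
    obtain ⟨j, rfl⟩ := hl
    refine hcJ ?_
    have h1 : (c * c) ^ j ∈ fourCent t v := pow_mem (W.sq_mem_J hc) j
    rw [pow_succ', pow_mul, pow_two] at h
    simpa [mul_assoc] using mul_mem h (inv_mem h1)
  set f := c ^ l with hf
  have hft : Commute f t := hc.pow_left l
  have hfy : Commute f y := hcy.pow_left l
  -- move `f` into `D`
  set K := Subgroup.centralizer ({t} : Set G) with hK
  have hzp : IsPGroup 2 (Subgroup.zpowers f) := by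
    obtain ⟨j, -, hj⟩ := (Nat.dvd_prime_pow Nat.prime_two).1 (orderOf_dvd_of_pow_eq_one hf2)
    exact IsPGroup.of_card (n := j) (by rw [Nat.card_zpowers, hj])
  obtain ⟨S, hS, hfS⟩ := CfsgLib.CIT.exists_isSyl ((Subgroup.zpowers_le).2 (mem_centralizer_singleton_iff'.2 hft :
    f ∈ K)) hzp
  obtain ⟨g, hg, hgS⟩ := hS.exists_conj W.syl_D
  have hgt : Commute g t := mem_centralizer_singleton_iff'.1 hg
  have hfD : g * f * g⁻¹ ∈ Dz := hgS ▸ CfsgLib.CIT.mem_cj.2 (by
    simpa [mul_assoc] using hfS (Subgroup.mem_zpowers f))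
  set f' := g * f * g⁻¹ with hf'
  set y' := g * y * g⁻¹ with hy'
  have hyJ : y' ∈ fourCent t v := W.conj_mem_J hgt hy
  have hy7' : orderOf y' = 7 := by rw [hy', ← MulAut.conj_apply, MulEquiv.orderOf_eq, hy7]
  have hfy' : Commute f' y' := LargeData.commute_conj_iff'.2 hfy
  have hfv : ¬ Commute f' v := fun h => hfJ (by
    have h1 := W.conj_mem_J hgt.inv_left (mem_fourCent.2 ⟨(W.mem_D.1 hfD).2, h⟩ : f' ∈ fourCent t v)
    rwa [hf', show g⁻¹ * (g * f * g⁻¹) * g⁻¹⁻¹ = f by group] at h1)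
  clear_value f' y'
  obtain ⟨hfz, hft'⟩ := W.mem_D.1 hfD
  set J := fourCent t v with hJ
  set V := (fourGrp t v).subgroupOf J with hV
  set π := QuotientGroup.mk' V with hπ
  set M := ((Subgroup.centralizer ({f'} : Set G)).subgroupOf J).map π with hM
  set Z : J := ⟨z, W.z_mem_J⟩ with hZ
  have hZM : π Z ∈ M := ⟨Z, Subgroup.mem_subgroupOf.2 (mem_centralizer_singleton_iff'.2 hfz.symm), rfl⟩
  have hYM : π ⟨y', hyJ⟩ ∈ M := ⟨⟨y', hyJ⟩, Subgroup.mem_subgroupOf.2 (mem_centralizer_singleton_iff'.2 hfy'.symm), rfl⟩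
  -- lifts of the involutions
  have hlift : ∀ b ∈ M, orderOf b = 2 → ∃ d : J, π d = b ∧ IsConj z (d : G) ∧ Commute f' (d : G) := by
    rintro _ ⟨d, hd, rfl⟩ hord
    have hd1 : (d : G) ∉ fourGrp t v := fun h => by
      rw [show π d = 1 from (QuotientGroup.eq_one_iff d).2 (Subgroup.mem_subgroupOf.2 h), orderOf_one] at hord
      norm_num at hord
    have hd2 : (d : G) * d ∈ fourGrp t v := Subgroup.mem_subgroupOf.1 ((QuotientGroup.eq_one_iff (d * d)).1 (by
      show π (d * d) = 1
      rw [map_mul, ← pow_two, ← hord, pow_orderOf_eq_one]))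
    obtain ⟨-, w, hw, hz'⟩ := W.exists_lift_z d.2 hd1 hd2
    have hfd : Commute f' (d : G) := (mem_centralizer_singleton_iff'.1 (Subgroup.mem_subgroupOf.1 hd)).symm
    refine ⟨d * ⟨w, W.four_le hw⟩, ?_, hz', ?_⟩
    · rw [map_mul, show π ⟨w, W.four_le hw⟩ = 1 from (QuotientGroup.eq_one_iff _).2 (Subgroup.mem_subgroupOf.2 hw),
        mul_one]
    · -- `f'` fixes the conjugate of `z` in the coset
      have hw' : f' * w * f'⁻¹ ∈ fourGrp t v := by
        rcases W.mem_four.1 hw with rfl | rfl | rfl | rfl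
        · simp
        · rw [hft'.eq, mul_inv_cancel_right]; exact hw
        · rcases W.v_conj hft' with e | e <;> rw [e]
          · exact hw
          · exact W.mem_four.2 (Or.inr (Or.inr (Or.inr rfl)))
        · rw [show f' * (t * v) * f'⁻¹ = f' * t * f'⁻¹ * (f' * v * f'⁻¹) by group, hft'.eq, mul_inv_cancel_right]
          rcases W.v_conj hft' with e | e <;> rw [e]
          · exact hw
          · rw [← mul_assoc, W.sq_t, one_mul]; exact W.mem_four.2 (Or.inr (Or.inr (Or.inl rfl)))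
      have e : f' * ((d : G) * w) * f'⁻¹ = (d : G) * w * (w⁻¹ * (f' * w * f'⁻¹)) := by
        rw [show f' * ((d : G) * w) * f'⁻¹ = f' * (d : G) * f'⁻¹ * (f' * w * f'⁻¹) by group, hfd.eq,
          mul_inv_cancel_right]
        group
      have h1 := W.eq_one_of_conj hz' (mul_mem d.2 (W.four_le hw)) (mul_mem (inv_mem hw) hw')
        (e ▸ hz'.trans (isConj_iff.2 ⟨f', rfl⟩))
      rw [h1, mul_one] at e
      exact mul_inv_eq_iff_eq_mul.1 e
  have hfJ2 : ∀ (a b : J), IsConj z (a : G) → IsConj z (b : G) → Commute f' (a : G) → Commute f' (b : G) →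
      Commute (π a) (π b) → π a = π b := by
    intro a b ha hb hfa hfb hab
    have hab' : Commute (a : G) (b : G) := by
      have h1 : π (a⁻¹ * (b * a * b⁻¹)) = 1 := by
        rw [map_mul, map_mul, map_mul, map_inv, map_inv, hab.symm.eq, mul_inv_cancel_right, inv_mul_cancel]
      have h2 : (a : G)⁻¹ * ((b : G) * a * (b : G)⁻¹) ∈ fourGrp t v :=
        Subgroup.mem_subgroupOf.1 ((QuotientGroup.eq_one_iff _).1 h1)
      have h3 := W.eq_one_of_conj ha a.2 h2
        (by rw [mul_inv_cancel_left]; exact ha.trans (isConj_iff.2 ⟨b, rfl⟩))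
      rw [inv_mul_eq_one] at h3
      exact (mul_inv_eq_iff_eq_mul.1 h3.symm : (b : G) * a = a * b).symm
    have haa : ((a : G)) * a = 1 := by
      obtain ⟨c, hc⟩ := isConj_iff.1 ha
      rw [← hc]; exact conj_sq_one W.frame.sys.large.mul_self_z c
    have hbb : ((b : G)) * b = 1 := by
      obtain ⟨c, hc⟩ := isConj_iff.1 hb
      rw [← hc]; exact conj_sq_one W.frame.sys.large.mul_self_z c
    set H := Subgroup.closure ({f', (a : G), (b : G)} : Set G) with hH
    obtain ⟨j0, hj0⟩ := hzp ⟨f, Subgroup.mem_zpowers f⟩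
    have hf'2 : f' ^ 2 ^ j0 = 1 := by
      have hh : f ^ 2 ^ j0 = 1 := congrArg Subtype.val hj0
      rw [hf', conj_pow, hh, mul_one, mul_inv_cancel]
    have hcomm : ∀ p ∈ ({f', (a : G), (b : G)} : Set G), ∀ q ∈ ({f', (a : G), (b : G)} : Set G), p * q = q * p := by
      intro p hp q hq
      simp only [Set.mem_insert_iff, Set.mem_singleton_iff] at hp hq
      rcases hp with rfl | rfl | rfl <;> rcases hq with rfl | rfl | rfl <;>
        first | rfl | exact hfa.eq | exact hfa.eq.symm | exact hfb.eq | exact hfb.eq.symm | exact hab'.eq |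
          exact hab'.eq.symm
    haveI := Subgroup.isMulCommutative_closure hcomm
    have hH2 : IsPGroup 2 H := by
      intro x
      obtain ⟨x, hx⟩ := x
      suffices h : ∀ x ∈ H, ∃ j, x ^ 2 ^ j = 1 by
        obtain ⟨j, hj⟩ := h x hx
        exact ⟨j, Subtype.ext hj⟩
      intro x hx
      induction hx using Subgroup.closure_induction with
      | mem w hw =>
        simp only [Set.mem_insert_iff, Set.mem_singleton_iff] at hw
        rcases hw with rfl | rfl | rfl
        exacts [⟨j0, hf'2⟩, ⟨1, by rw [pow_one, pow_two, haa]⟩, ⟨1, by rw [pow_one, pow_two, hbb]⟩]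
      | one => exact ⟨0, one_pow _⟩
      | mul x y hx hy h1 h2 =>
        obtain ⟨j1, hj1⟩ := h1
        obtain ⟨j2, hj2⟩ := h2
        have hxy : Commute x y := congrArg Subtype.val (mul_comm' (⟨x, hx⟩ : H) ⟨y, hy⟩)
        refine ⟨j1 + j2, ?_⟩
        rw [hxy.mul_pow, pow_add, pow_mul, hj1, one_pow, one_mul, mul_comm, pow_mul, hj2, one_pow]
      | inv x _ h1 =>
        obtain ⟨j1, hj1⟩ := h1
        exact ⟨j1, by rw [inv_pow, hj1, inv_one]⟩
    have hHK : H ≤ K := by
      rw [hH, Subgroup.closure_le]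
      intro w hw
      simp only [Set.mem_insert_iff, Set.mem_singleton_iff] at hw
      rcases hw with rfl | rfl | rfl
      exacts [mem_centralizer_singleton_iff'.2 hft', mem_centralizer_singleton_iff'.2 (mem_fourCent.1 a.2).1,
        mem_centralizer_singleton_iff'.2 (mem_fourCent.1 b.2).1]
    obtain ⟨S', hS', hHS⟩ := CfsgLib.CIT.exists_isSyl hHK hH2
    obtain ⟨g', hg', hgS'⟩ := hS'.exists_conj W.syl_D
    have hg't : Commute g' t := mem_centralizer_singleton_iff'.1 hg'
    have hin : ∀ w ∈ ({f', (a : G), (b : G)} : Set G), g' * w * g'⁻¹ ∈ Dz := fun w hw =>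
      hgS' ▸ CfsgLib.CIT.mem_cj.2 (by simpa [mul_assoc] using hHS (Subgroup.subset_closure hw))
    have hfv' : ¬ Commute (g' * f' * g'⁻¹) v := fun h => hfv (by
      have h1 := W.conj_mem_J hg't.inv_left
        (mem_fourCent.2 ⟨(W.mem_D.1 (hin _ (by simp))).2, h⟩ : g' * f' * g'⁻¹ ∈ fourCent t v)
      rw [show g'⁻¹ * (g' * f' * g'⁻¹) * g'⁻¹⁻¹ = f' by group] at h1
      exact (mem_fourCent.1 h1).2)
    have huniq : ∀ d : J, IsConj z (d : G) → Commute f' (d : G) → (d : G) ∈ ({f', (a : G), (b : G)} : Set G) →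
        g' * (d : G) * g'⁻¹ = z := fun d hd hfd hmem => by
      obtain ⟨hd1, hd2⟩ := W.mem_D.1 (hin _ hmem)
      exact W.outer_unique (hin f' (by simp)) hfv'
        (W.mem_T.2 ⟨hd1, hd2, (mem_fourCent.1 (W.conj_mem_J hg't d.2)).2⟩) (hd.trans (isConj_iff.2 ⟨g', rfl⟩))
        (LargeData.commute_conj_iff'.2 hfd)
    have e := (huniq a ha hfa (by simp)).trans (huniq b hb hfb (by simp)).symm
    exact congrArg π (Subtype.ext (mul_left_cancel (mul_right_cancel e)))
  have hMcit : CIT M := (LFour.cit W.quotient_psl).subgroup M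
  have hZ2 : orderOf (π Z) = 2 := by
    refine orderOf_eq_prime ?_ fun e => W.not_mem_four (IsConj.refl z)
      (Subgroup.mem_subgroupOf.1 ((QuotientGroup.eq_one_iff Z).1 e))
    rw [pow_two, ← map_mul, show Z * Z = 1 from Subtype.ext W.frame.sys.large.mul_self_z, map_one]
  set u : M := ⟨π Z, hZM⟩ with hu
  have hu2 : orderOf u = 2 := by rw [hu, Subgroup.orderOf_mk, hZ2]
  have hiso : Cfsg.IsIsolatedInvolution u := by
    refine ⟨hu2, fun g hg => ?_⟩
    have ho : orderOf ((g * u * g⁻¹ : M) : J ⧸ V) = 2 := by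
      rw [Subgroup.orderOf_coe, ← MulAut.conj_apply, MulEquiv.orderOf_eq, hu2]
    obtain ⟨d, hd, hdz, hdf⟩ := hlift _ (g * u * g⁻¹).2 ho
    refine Subtype.ext ?_
    rw [← hd]
    refine (hfJ2 Z d (IsConj.refl z) hdz hfz hdf ?_).symm
    rw [hd]
    exact congrArg Subtype.val hg.eq
  have hy7Q : orderOf (π ⟨y', hyJ⟩) = 7 := by
    refine (Nat.dvd_prime (by norm_num)).1 ?_ |>.resolve_left fun e => ?_
    · have := orderOf_map_dvd π (⟨y', hyJ⟩ : J)
      rwa [Subgroup.orderOf_mk, hy7'] at this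
    · have h1 : y' ∈ fourGrp t v :=
        Subgroup.mem_subgroupOf.1 ((QuotientGroup.eq_one_iff _).1 (orderOf_eq_one_iff.1 e))
      rcases W.mem_four.1 h1 with e' | e' | e' | e' <;> rw [e'] at hy7'
      · rw [orderOf_one] at hy7'; norm_num at hy7'
      · rw [orderOf_eq_prime (by rw [pow_two, W.sq_t]) W.isT_t.2.1] at hy7'; norm_num at hy7'
      · rw [orderOf_eq_prime (by rw [pow_two, W.sq_v]) W.isT_v.2.1] at hy7'; norm_num at hy7'
      · rw [orderOf_eq_prime (by rw [pow_two, W.sq_tv]) W.isT_tv.2.1] at hy7'; norm_num at hy7'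
  set Y : M := ⟨π ⟨y', hyJ⟩, hYM⟩ with hY
  set N := Cfsg.oddCore M with hN
  haveI : N.Normal := by rw [hN]; infer_instance
  set L := (Subgroup.zpowers (QuotientGroup.mk' N Y)).comap (QuotientGroup.mk' N) with hL
  have hLodd : Odd (Nat.card L) := by
    have h1 : N ≤ L := fun w hw => Subgroup.mem_comap.2 (by
      rw [show QuotientGroup.mk' N w = 1 from (QuotientGroup.eq_one_iff w).2 hw]; exact one_mem _)
    have h2 : Nat.card L ∣ Nat.card N * 7 := by
      rw [← (N.subgroupOf L).card_mul_index, Nat.card_congr (Subgroup.subgroupOfEquivOfLe h1).toEquiv]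
      refine Nat.mul_dvd_mul_left _ ?_
      change N.relIndex L ∣ 7
      have h3 := Subgroup.relIndex_comap (⊥ : Subgroup (M ⧸ N)) (QuotientGroup.mk' N) L
      rw [MonoidHom.comap_bot, QuotientGroup.ker_mk', Subgroup.relIndex_bot_left,
        Subgroup.map_comap_eq_self_of_surjective (QuotientGroup.mk'_surjective N), Nat.card_zpowers] at h3
      rw [h3]
      refine (orderOf_map_dvd (QuotientGroup.mk' N) Y).trans ?_
      rw [hY, Subgroup.orderOf_mk, hy7Q]
    exact Odd.of_dvd_nat ((CfsgLib.ZStar.odd_card_oddCore M).mul (by decide)) h2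
  have hLu : ∀ a ∈ L, u * a * u⁻¹ ∈ L := by
    intro a ha
    have h1 := CfsgLib.ZStar.mem_oddCore_of_isolated hiso a
    have h2 : u * a * u⁻¹ * a⁻¹ ∈ L := Subgroup.mem_comap.2 (by
      rw [show QuotientGroup.mk' N (u * a * u⁻¹ * a⁻¹) = 1 from (QuotientGroup.eq_one_iff _).2 h1]; exact one_mem _)
    simpa using L.mul_mem h2 ha
  have hinv := (hMcit.inverted_odd hLodd hu2 hLu).1 Y (Subgroup.mem_comap.2 (Subgroup.mem_zpowers _))
  exact LFour.not_inverted_seven W.quotient_psl hy7Q (π Z) (congrArg Subtype.val hinv)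

end Four

end CfsgLib.LocalEvenB.SuzType
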