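import Cfsg.Agent.Lib.LocalEvenB.SuzType.Locals.Tools

/-!
The far involutions form one class of the centralizer of `z`; the two types of involutions among Siegel
elements (owner: helper8).
-/

set_option autoImplicit false
set_option linter.unusedSectionVars false
set_option linter.unusedVariables false
set_option maxRecDepth 100000
set_option quotPrecheck false
set_option Elab.async false

namespace CfsgLib.LocalEvenB.SuzType

open CfsgLib.ThreeTrans

theorem siegel_levi : sect.all (fun v => v == 0 || levList.any fun e =>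
    comp e.1 (rho v) == comp (rho (bif qb v then 16 else 4)) e.1) = true := by decide +kernel

theorem fusers_ok : fusers.all (fun e => app (wmap e.2) 1 == 1 &&
    comp (wmap e.2) (rho 16) == comp (rho 16) (wmap e.2)) = true := by decide +kernel

theorem fusers_orbit : (List.range 64).all (fun n => bb n 1 || !(invB 16 n) ||
    ([] :: fusers.map Prod.snd).any fun w => app (wmap w) 32 &&& 60 == n &&& 60 ||
      (app (wmap w) 32 ^^^ 17) &&& 60 == n &&& 60) = true := by decide +kernel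

theorem far_signs : (List.range 64).all (fun n => bb n 1 || !(invB 16 n) ||
    [(true, false), (false, true), (true, true)].all fun ij => (List.range 64).any fun m => !bb m 1 &&
      (cz 0 m 16 n == ij.1 && cx 0 m 16 n == ij.2)) = true := by decide +kernel

theorem perp_near : (List.range 64).all (fun a => (List.range 64).all fun b =>
    bb a 1 || bb b 1 || !(a &&& 60 == b &&& 60) || a ^^^ b == 0 || a ^^^ b == 1) = true := by decide +kernel

theorem far_partner : app (rho 16) 2 ^^^ 2 = 17 := by decide +kernel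

theorem far_centric : (List.range 64).all (fun a => !(fixB (rho 16) a) || (!(bb a 1) && !(bb a 16))) = true :=
  outer_fix_perp

variable {G : Type*} [Group G] [Finite G] {z : G} {Q : Subgroup G} {p : G → Nat} {k : G}

/-- Involutions not conjugate to `z`. -/
def IsT (z x : G) : Prop := x * x = 1 ∧ x ≠ 1 ∧ ¬ IsConj z x

/-- Being conjugate under the centralizer of `z`. -/
def ConjC (z a b : G) : Prop := ∃ c : G, Commute c z ∧ c * a * c⁻¹ = b

omit [Finite G] in
theorem ConjC.trans {a b c : G} (h : ConjC z a b) (h' : ConjC z b c) : ConjC z a c := by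
  obtain ⟨d, hd, rfl⟩ := h
  obtain ⟨e, he, rfl⟩ := h'
  exact ⟨e * d, he.mul_left hd, by group⟩

omit [Finite G] in
theorem ConjC.symm {a b : G} (h : ConjC z a b) : ConjC z b a := by
  obtain ⟨d, hd, rfl⟩ := h
  exact ⟨d⁻¹, hd.inv_left, by group⟩

omit [Finite G] in
theorem ConjC.isConj {a b : G} (h : ConjC z a b) : IsConj a b := by
  obtain ⟨d, -, e⟩ := h
  exact isConj_iff.2 ⟨d, e⟩

namespace Frame

variable (F : Frame z Q p k)
include F

local notation "X" => k * z * k⁻¹
local notation "P" => Q.map (MulAut.conj k).toMonoidHom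

/-- Multiplication by an element of `Q`. -/
theorem rep_mul_q {c r : G} {v n : Nat} (hc : Rep z Q p k c v n) (hr : r ∈ Q) (hr1 : bb (p r) 1 = false) :
    Rep z Q p k (c * r) v (n ^^^ p r) := by
  obtain ⟨hv, hn, hn1, s, q, hs, hsz, hsA, hq, rfl, rfl⟩ := hc
  exact ⟨hv, Nat.xor_lt_two_pow (n := 6) hn (F.sys.lt r hr), F.perp_xor hn1 hr1, s, q * r, hs, hsz, hsA,
    Q.mul_mem hq hr, F.sys.map_mul q hq r hr, mul_assoc _ _ _⟩

/-- Conjugates by elements fixing `x`. -/
theorem rep_conj {c d : G} {v v' n : Nat} {D : List Nat} (hc : Rep z Q p k c v n) (hD : D.length = 6)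
    (hd : Acts z Q p d D) (hdx : Commute d X) (hv' : v' ∈ sect) (hcomm : comp D (rho v) = comp (rho v') D) :
    Rep z Q p k (d * c * d⁻¹) v' (app D n) := by
  obtain ⟨hv, hn, hn1, s, q, hs, hsz, hsA, hq, rfl, rfl⟩ := hc
  have hq' : d * q * d⁻¹ ∈ Q := F.sys.large.conj_mem hd.1 hq
  have hqx : Commute (d * q * d⁻¹) X := (hdx.mul_left ((F.comm_x hq).2 hn1)).mul_left hdx.inv_left
  exact ⟨hv', hd.2 q hq ▸ F.sys.lt _ hq', hd.2 q hq ▸ (F.comm_x hq').1 hqx, d * s * d⁻¹, d * q * d⁻¹,
    F.sys'.large.conj_mem hdx hs, (hd.1.mul_left hsz).mul_left hd.1.inv_left,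
    F.sys.acts_conj hD (F.rho_len v) (F.rho_len v') hd hsA hcomm, hq', hd.2 q hq, by group⟩

/-- A far involution at the first vector, in coordinates. -/
theorem far_rep {c : G} (hA : Acts z Q p c (rho 16)) (hc : c * c = 1) :
    ∃ n, Rep z Q p k c 16 n ∧ invB 16 n = true := by
  obtain ⟨n, hn⟩ := F.exists_rep (v := 16) (by decide +kernel) hA
    (F.comm_x_of_invol (by decide +kernel) (by norm_num) hA hc)
  exact ⟨n, hn, (F.rep_invol_iff hn).1 hc⟩

/-- A far involution times a member of the four-group of `z` and `x` is a conjugate. -/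
theorem far_pair {c : G} {n : Nat} (hc : Rep z Q p k c 16 n) (hi : invB 16 n = true) (i j : Bool) :
    ConjC z c (sg z i * sg X j * c) := by
  by_cases h0 : (i, j) = (false, false)
  · obtain ⟨rfl, rfl⟩ := Prod.mk.inj h0
    exact ⟨1, Commute.one_left z, by simp [sg]⟩
  have h := List.all_eq_true.1 far_signs n (List.mem_range.2 hc.2.1)
  simp only [hc.2.2.1, hi, Bool.not_true, Bool.false_or, List.all_eq_true] at h
  have hm := h (i, j) (by cases i <;> cases j <;> simp_all)
  simp only [List.any_eq_true, Bool.and_eq_true, Bool.not_eq_true', beq_iff_eq] at hm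
  obtain ⟨m, hm64, hm1, hi', hj'⟩ := hm
  obtain ⟨β, hβ, hpβ⟩ := F.sys.surj m (List.mem_range.1 hm64)
  have hr := F.rep_of_mem hβ (hpβ ▸ hm1)
  rw [hpβ] at hr
  have e := F.rep_comm hr hc
  rw [hi', hj'] at e
  exact ⟨β, F.sys.large.commute_z hβ, mul_inv_eq_iff_eq_mul.1 e⟩

/-- Far involutions are conjugate under the centralizer of `z`. -/
theorem far_conj {t c : G} (ht : Rep z Q p k t 16 32) (htt : t * t = 1) (hA : Acts z Q p c (rho 16))
    (hc : c * c = 1) : ConjC z t c := by
  obtain ⟨n, hn, hi⟩ := F.far_rep hA hc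
  have h := List.all_eq_true.1 fusers_orbit n (List.mem_range.2 hn.2.1)
  simp only [hn.2.2.1, hi, Bool.not_true, Bool.false_or, List.any_eq_true, Bool.or_eq_true, beq_iff_eq] at h
  obtain ⟨w, hw, hcase⟩ := h
  obtain ⟨hl, d0, hd0⟩ := F.sys.acts_word w
  have hw1 : app (wmap w) 1 = 1 ∧ comp (wmap w) (rho 16) = comp (rho 16) (wmap w) := by
    rcases List.mem_cons.1 hw with rfl | hw
    · exact ⟨by decide +kernel, by decide +kernel⟩
    · obtain ⟨e, he, rfl⟩ := List.mem_map.1 hw
      simpa using List.all_eq_true.1 fusers_ok e he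
  obtain ⟨d, hd, hdx⟩ := F.exists_fix hd0 hw1.1 hl
  have hr0 := F.rep_conj ht hl hd hdx (by decide +kernel) hw1.2
  -- adjust the vector modulo the first one
  obtain ⟨c1, n1, hc1, hr1, hn1⟩ : ∃ c1 n1, ConjC z t c1 ∧ Rep z Q p k c1 16 n1 ∧ n1 &&& 60 = n &&& 60 := by
    rcases hcase with e | e
    · exact ⟨_, _, ⟨d, hd.1, rfl⟩, hr0, e⟩
    obtain ⟨β, hβ, hpβ⟩ := F.sys.surj 2 (by norm_num)
    set t0 := d * t * d⁻¹ with ht0
    have ht00 : t0 * t0 = 1 := conj_sq_one htt d
    have hA0 := F.rep_acts hr0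
    have hr' : t0 * β * t0⁻¹ * β⁻¹ ∈ Q := Q.mul_mem (F.sys.large.conj_mem hA0.1 hβ) (Q.inv_mem hβ)
    have hpr : p (t0 * β * t0⁻¹ * β⁻¹) = 17 := by
      rw [F.sys.map_mul _ (F.sys.large.conj_mem hA0.1 hβ) _ (Q.inv_mem hβ), F.sys.p_inv hβ, hA0.2 β hβ, hpβ,
        far_partner]
    have hr2 := F.rep_mul_q hr0 hr' (by rw [hpr]; decide +kernel)
    rw [hpr] at hr2
    refine ⟨_, _, ConjC.trans (b := t0) ⟨d, hd.1, rfl⟩ ⟨β, F.sys.large.commute_z hβ, ?_⟩, hr2, e⟩
    conv_lhs => rw [← one_mul (β * t0 * β⁻¹), ← ht00]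
    rw [show t0⁻¹ = t0 from inv_of_sq ht00]
    group
  -- the two differ by a member of the four-group
  have hc1i : c1 * c1 = 1 := by
    obtain ⟨e, -, rfl⟩ := hc1
    exact conj_sq_one htt e
  have hcc : ∃ i j, c = sg z i * sg X j * c1 := by
    obtain ⟨hv, hnl, hnp, s, q, hs, hsz, hsA, hq, hpq, rfl⟩ := hn
    obtain ⟨-, hnl', hnp', s', q', hs', hsz', hsA', hq', hpq', rfl⟩ := hr1
    obtain ⟨i, j, e⟩ := F.inter (F.sys.inv_mul_mem hsA' hsA) (Subgroup.mul_mem _ (Subgroup.inv_mem _ hs') hs)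
    have h01 : p (q'⁻¹ * q) = 0 ∨ p (q'⁻¹ * q) = 1 := by
      rw [F.sys.map_mul _ (Q.inv_mem hq') _ hq, F.sys.p_inv hq', hpq, hpq']
      have h := List.all_eq_true.1 (List.all_eq_true.1 perp_near n1 (List.mem_range.2 hnl')) n
        (List.mem_range.2 hnl)
      simpa [hnp, hnp', hn1] using h
    obtain ⟨i', j', e'⟩ : ∃ i' j', q'⁻¹ * q = sg z i' * sg X j' := by
      have hm := Q.mul_mem (Q.inv_mem hq') hq
      rcases h01 with e0 | e0
      · obtain ⟨i', e'⟩ := F.sys.eq_of_p Q.one_mem hm (by rw [F.sys.p_one, e0])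
        exact ⟨i', false, by rw [e', one_mul]; exact (mul_one _).symm⟩
      · obtain ⟨i', e'⟩ := F.sys.eq_of_p F.memQ hm (by rw [F.px, e0])
        exact ⟨i', true, by rw [e', (F.sys.sg_comm F.z_comm_x.symm i').eq]; rfl⟩
    refine ⟨i ^^ i', j ^^ j', ?_⟩
    rw [← F.pair_mul]
    have hx1 := (F.pair_comm (F.sys.large.commute_z hq').inv_left
      (((F.comm_x hq').2 (hpq'.symm ▸ hnp')).inv_left) i j).eq
    have hx2 := (F.pair_comm ((hsz'.mul_left (F.sys.large.commute_z hq')))
      ((F.sys'.large.commute_z hs').mul_left ((F.comm_x hq').2 (hpq'.symm ▸ hnp'))) i j).eq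
    have hx3 := (F.pair_comm ((hsz'.mul_left (F.sys.large.commute_z hq')))
      ((F.sys'.large.commute_z hs').mul_left ((F.comm_x hq').2 (hpq'.symm ▸ hnp'))) i' j').eq
    calc s * q = s' * q' * (q'⁻¹ * (s'⁻¹ * s) * q') * (q'⁻¹ * q) := by group
      _ = _ := by
        rw [e, e', show q'⁻¹ * (sg z i * sg X j) * q' = sg z i * sg X j by
          rw [hx1, inv_mul_cancel_right]]
        rw [hx2, mul_assoc (sg z i * sg X j), hx3, ← mul_assoc]
  obtain ⟨i, j, rfl⟩ := hcc
  exact hc1.trans (F.far_pair hr1 ((F.rep_invol_iff hr1).1 hc1i) i j)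

/-- A standard far involution. -/
theorem exists_tdata : ∃ t : G, Rep z Q p k t 16 32 ∧ IsT z t ∧
    ∀ x : G, x * x = 1 → x ≠ 1 → IsConj z x ∨ IsConj t x := by
  obtain ⟨s, hs, hsz, hsA⟩ := F.exists_s (v := 16) (by decide +kernel)
  obtain ⟨r, hr, hpr⟩ := F.sys.surj 32 (by norm_num)
  have hR : Rep z Q p k (s * r) 16 32 :=
    ⟨by decide +kernel, by norm_num, by decide +kernel, s, r, hs, hsz, hsA, hr, hpr, rfl⟩
  have htt : s * r * (s * r) = 1 := (F.rep_invol_iff hR).2 (by decide +kernel)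
  have htA := F.rep_acts hR
  have ht1 : s * r ≠ 1 := fun e => by
    rw [e] at htA
    exact absurd (F.sys.acts_unique (F.rho_len 16) rfl htA F.sys.acts_one) (by decide +kernel)
  have hfix : ∀ a ∈ Q, app (rho 16) (p a) = p a → s * r * a * (s * r)⁻¹ = a * sg z (bb 32 (p a)) := by
    intro a ha hf
    have h := List.all_eq_true.1 far_centric _ (List.mem_range.2 (F.sys.lt a ha))
    simp only [fixB, hf, beq_self_eq_true, Bool.not_true, Bool.false_or, Bool.and_eq_true,
      Bool.not_eq_true'] at h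
    have e := F.rep_comm hR (F.rep_of_mem ha h.1)
    rw [show cz 16 32 0 (p a) = bb 32 (p a) by
        unfold cz; rw [bb_comm 16, h.2, bb_zero_left, Bool.false_xor, Bool.false_xor],
      show cx 16 32 0 (p a) = false by
        unfold cx; rw [bb_comm 16 0, bb_zero_left, bb_comm 16 (p a), h.2, bb_zero_left]; rfl,
      show sg X false = 1 from rfl, mul_one, mul_inv_eq_iff_eq_mul] at e
    rw [e, (F.sys.sg_comm (F.sys.large.commute_z ha) _).eq]
  refine ⟨s * r, hR, ⟨htt, ht1, F.far_ne hs hr hpr htA htt hfix⟩, fun x hx hx1 => ?_⟩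
  obtain ⟨T, -, -, hglob, -⟩ := F.sys.exists_inv_reps
  obtain ⟨g, hg⟩ := hglob x hx
  have hc : IsConj x (g * x * g⁻¹) := isConj_iff.2 ⟨g, rfl⟩
  suffices hsuff : IsConj z (g * x * g⁻¹) ∨ IsConj (s * r) (g * x * g⁻¹) from
    hsuff.imp (fun e => e.trans hc.symm) (fun e => e.trans hc.symm)
  have h2 : g * x * g⁻¹ * (g * x * g⁻¹) = 1 := conj_sq_one hx g
  by_cases hQ : g * x * g⁻¹ ∈ Q
  · left
    by_cases he : g * x * g⁻¹ = z
    · rw [he]
    · exact F.inner hQ h2 (fun e => hx1 (conj_eq_one_iff.1 e)) he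
  obtain ⟨c, hcz, hA⟩ := F.sys.cases_invol hg h2 hQ
  have hc2 : IsConj (g * x * g⁻¹) (c * (g * x * g⁻¹) * c⁻¹) := isConj_iff.2 ⟨c, rfl⟩
  rcases hA with hA | hA
  · exact Or.inl ((F.near_class hA (conj_sq_one h2 c)).trans hc2.symm)
  · exact Or.inr ((F.far_conj hR htt hA (conj_sq_one h2 c)).isConj.trans hc2.symm)

/-- The involutions of the centralizer not conjugate to `z` form one class there. -/
theorem conjC_of_isT {t x : G} (ht : Rep z Q p k t 16 32) (htt : t * t = 1) (hx : IsT z x) (hxz : Commute x z) :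
    ConjC z t x := by
  have hxQ : x ∉ Q := fun hm => by
    by_cases he : x = z
    · exact hx.2.2 (he ▸ IsConj.refl z)
    · exact hx.2.2 (F.inner hm hx.1 hx.2.1 he)
  obtain ⟨c, hcz, hA⟩ := F.sys.cases_invol hxz hx.1 hxQ
  rcases hA with hA | hA
  · exact absurd ((F.near_class hA (conj_sq_one hx.1 c)).trans (isConj_iff.2 ⟨c, rfl⟩ : IsConj x _).symm) hx.2.2
  · exact (F.far_conj ht htt hA (conj_sq_one hx.1 c)).trans (ConjC.symm ⟨c, hcz, rfl⟩)

/-- The type of an involution inducing a nontrivial Siegel element. -/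
theorem siegel_type {c : G} {v : Nat} (hv : v ∈ sect) (hv0 : v ≠ 0) (hA : Acts z Q p c (rho v))
    (hc : c * c = 1) : IsConj z c ↔ qb v = false := by
  obtain ⟨t, ht, hT, -⟩ := F.exists_tdata
  have h := List.all_eq_true.1 siegel_levi v hv
  simp only [beq_eq_false_iff_ne.2 hv0, Bool.false_or, List.any_eq_true, beq_iff_eq] at h
  obtain ⟨e, he, hcomm⟩ := h
  have hok := List.all_eq_true.1 levList_ok e he
  simp only [Bool.and_eq_true, beq_iff_eq] at hok
  obtain ⟨hl, d, hd⟩ := F.sys.acts_word e.2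
  rw [← hok.1.1] at hd hl
  have hA' := F.sys.acts_conj hl (F.rho_len v) (F.rho_len _) hd hA hcomm
  have hcd : IsConj c (d * c * d⁻¹) := isConj_iff.2 ⟨d, rfl⟩
  cases hq : qb v
  · rw [hq] at hA'
    exact iff_of_true ((F.near_class hA' (conj_sq_one hc d)).trans hcd.symm) rfl
  · rw [hq] at hA'
    refine iff_of_false (fun h => hT.2.2 ?_) (by simp)
    exact (h.trans hcd).trans (F.far_conj ht hT.1 hA' (conj_sq_one hc d)).isConj.symm

/-- An involution of `Q` is conjugate to `z`. -/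
theorem mem_type {a : G} (ha : a ∈ Q) (haa : a * a = 1) (h1 : a ≠ 1) : IsConj z a := by
  by_cases he : a = z
  · rw [he]
  · exact F.inner ha haa h1 he

end Frame

end CfsgLib.LocalEvenB.SuzType
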