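import Cfsg.Agent.Lib.LocalEvenB.SuzType.Locals.Four

/-!
The centralizer of a far involution in `C(z)`: order 512, normalizing the four-group; central elements and
cosets of the four-group (owner: helper8).
-/

set_option autoImplicit false
set_option linter.unusedSectionVars false
set_option linter.unusedVariables false
set_option linter.style.haveILetI false
set_option maxRecDepth 100000
set_option quotPrecheck false
set_option Elab.async false

namespace CfsgLib.LocalEvenB.SuzType

open CfsgLib.ThreeTrans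

theorem four_coset : sect.all (fun u => [0, 16, 32, 48].any fun w => u ^^^ w == 0 || !qb (u ^^^ w)) = true := by
  decide +kernel

theorem far_vectors : [16, 32, 48].all (fun w => sect.contains w && qb w) = true := by decide +kernel

variable {G : Type*} [Group G] [Finite G] {z : G} {Q : Subgroup G} {p : G → Nat} {k : G}

namespace Four

variable {t v : G} (W : Four z Q p k t v)
include W

local notation "X" => k * z * k⁻¹
local notation "P" => Q.map (MulAut.conj k).toMonoidHom
local notation "Dz" => (Subgroup.centralizer ({z} : Set G) ⊓ Subgroup.centralizer ({t} : Set G) : Subgroup G)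
local notation "Tz" => (Subgroup.centralizer ({z} : Set G) ⊓ Subgroup.centralizer ({t} : Set G) ⊓
  Subgroup.centralizer ({v} : Set G) : Subgroup G)

theorem mem_T {g : G} : g ∈ Tz ↔ Commute g z ∧ Commute g t ∧ Commute g v := by
  rw [Subgroup.mem_inf, Subgroup.mem_inf, mem_centralizer_singleton_iff', mem_centralizer_singleton_iff',
    mem_centralizer_singleton_iff']
  exact ⟨fun h => ⟨h.1.1, h.1.2, h.2⟩, fun h => ⟨⟨h.1, h.2.1⟩, h.2.2⟩⟩

theorem mem_D {g : G} : g ∈ Dz ↔ Commute g z ∧ Commute g t := by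
  rw [Subgroup.mem_inf, mem_centralizer_singleton_iff', mem_centralizer_singleton_iff']
  rfl

/-- The images of the centralizer of the far involution. -/
theorem image_far {d : G} (hz : Commute d z) (ht : Commute d t) :
    (∃ u ∈ sect, Acts z Q p d (rho u)) ∨ ∃ u ∈ sect, Acts z Q p d (comp lamM (rho u)) := by
  have F := W.frame
  obtain ⟨n, m, hn, hm, hf⟩ := W.reps
  obtain ⟨A, hA, hdA⟩ := F.sys.exists_acts hz
  have h1 := F.fix_one hA hdA W.acts_t ht
  have h := List.all_eq_true.1 cand_far A (mem_cand1 hA h1)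
  simp only [F.sys.comm_of_commute hA.1 (F.rho_len 16) hdA W.acts_t ht, beq_self_eq_true, Bool.not_true,
    Bool.false_or, List.all_eq_true, Bool.or_eq_true, Bool.not_eq_true'] at h
  have hmem : n ∈ [32, 33, 48, 49] := by
    have := List.all_eq_true.1 fourList_first _ hf
    rwa [List.contains_iff_mem] at this
  -- the functional is preserved
  have hfun : ∀ a ∈ Q, app (rho 16) (p a) = p a → t * a * t⁻¹ = a * sg z (bb n (p a)) := by
    intro a ha hfix
    have h' := List.all_eq_true.1 (List.all_eq_true.1 far_functional _ hf) _ (List.mem_range.2 (F.sys.lt a ha))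
    simp only [fixB, hfix, beq_self_eq_true, Bool.not_true, Bool.false_or, Bool.and_eq_true, beq_iff_eq,
      Bool.not_eq_true'] at h'
    have e := F.rep_comm hn (F.rep_of_mem ha h'.1.1)
    rw [h'.1.2, h'.2, show sg X false = 1 from rfl, mul_one, mul_inv_eq_iff_eq_mul] at e
    rw [e, (F.sys.sg_comm (F.sys.large.commute_z ha) _).eq]
  have hall : ∀ y ∈ List.range 64, fixB (rho 16) y = false ∨ (bb n (app A y) == bb n y) = true := by
    intro y hy
    by_cases hy' : fixB (rho 16) y = true
    · right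
      obtain ⟨a, ha, rfl⟩ := F.sys.surj y (List.mem_range.1 hy)
      simp only [fixB, beq_iff_eq] at hy'
      have e1 := hfun a ha hy'
      have ha' := F.sys.large.conj_mem hz ha
      have hfix' : app (rho 16) (p (d * a * d⁻¹)) = p (d * a * d⁻¹) := by
        rw [hdA.2 a ha, ← app_comp hA.1, ← F.sys.comm_of_commute hA.1 (F.rho_len 16) hdA W.acts_t ht,
          app_comp (F.rho_len 16), hy']
      have e2 := hfun _ ha' hfix'
      rw [hdA.2 a ha] at e2
      have e3 : t * (d * a * d⁻¹) * t⁻¹ = d * (t * a * t⁻¹) * d⁻¹ := by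
        calc t * (d * a * d⁻¹) * t⁻¹ = t * d * a * (t * d)⁻¹ := by group
          _ = d * t * a * (d * t)⁻¹ := by rw [ht.eq]
          _ = _ := by group
      rw [e3, e1, show d * (a * sg z (bb n (p a))) * d⁻¹ = d * a * d⁻¹ * (d * sg z (bb n (p a)) * d⁻¹) by group,
        (F.sys.sg_comm hz _).eq, mul_inv_cancel_right] at e2
      rw [beq_iff_eq, ← F.sys.sg_inj (mul_left_cancel e2)]
    · exact Or.inl (Bool.not_eq_true _ ▸ hy')
  have hh := (h n hmem).resolve_left (fun hne => by
    rw [List.all_eq_false] at hne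
    obtain ⟨y, hy, hy'⟩ := hne
    rcases hall y hy with e | e <;> simp [e] at hy')
  have hmemA := F.sys.good_of_half hA.1 hdA (fun B hB => by
    rcases List.mem_append.1 hB with hB | hB
    exacts [F.rhoList_acts hB, F.lamList_acts hB]) hh
  rcases List.mem_append.1 hmemA with hm | hm
  · obtain ⟨u, hu, rfl⟩ := List.mem_map.1 hm
    exact Or.inl ⟨u, hu, hdA⟩
  · obtain ⟨u, hu, rfl⟩ := List.mem_map.1 hm
    exact Or.inr ⟨u, hu, hdA⟩

theorem mem_T_of_rho {d : G} {u : Nat} (hz : Commute d z) (ht : Commute d t) (hu : u ∈ sect)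
    (hA : Acts z Q p d (rho u)) : d ∈ Tz :=
  W.mem_T.2 ⟨hz, ht, (W.star hu hA).1 ht⟩

/-- The centralizer of the far involution is the centralizer of the four-group, extended by the swap. -/
theorem mem_or {e d : G} (he : Acts z Q p e lamM) (het : Commute e t) (hd : d ∈ Dz) : d ∈ Tz ∨ e⁻¹ * d ∈ Tz := by
  have F := W.frame
  obtain ⟨hz, ht⟩ := W.mem_D.1 hd
  rcases W.image_far hz ht with ⟨u, hu, hA⟩ | ⟨u, hu, hA⟩
  · exact Or.inl (W.mem_T_of_rho hz ht hu hA)
  · refine Or.inr (W.mem_T_of_rho (he.1.inv_left.mul_left hz) (het.inv_left.mul_left ht) hu ?_)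
    obtain ⟨B, hBl, hB, hBA, -⟩ := F.sys.exists_acts_inv (show lamM.length = 6 from rfl) he
    have := F.sys.acts_mul (B := comp lamM (rho u)) (by rw [length_comp, F.rho_len]) hB hA
    rwa [show comp B (comp lamM (rho u)) = rho u from eq_of_app
      (by rw [length_comp, length_comp, F.rho_len]) (F.rho_len u) fun n hn => by
        have hn64 : n < 64 := by revert n; decide
        obtain ⟨a, ha, rfl⟩ := F.sys.surj n hn64
        obtain ⟨s, -, -, hsA⟩ := F.exists_s hu
        have hlt : app (rho u) (p a) < 64 := by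
          rw [← hsA.2 a ha]; exact F.sys.lt _ (F.sys.large.conj_mem hsA.1 ha)
        rw [app_comp (by rw [length_comp, F.rho_len]), app_comp (F.rho_len u), ← app_comp (show lamM.length = 6 from rfl),
          hBA, app_one _ hlt]] at this

theorem swap_not_mem {e : G} (he : Acts z Q p e lamM) : e ∉ Tz := by
  intro hm
  obtain ⟨hz, ht, hv⟩ := W.mem_T.1 hm
  obtain ⟨u, hu, hA⟩ := W.image_four hz ht hv
  have h := W.frame.sys.acts_unique (show lamM.length = 6 from rfl) (W.frame.rho_len u) he hA
  have h0 := List.all_eq_true.1 (List.all_eq_true.1 lam_not_rho 0 zero_mem_sect) u hu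
  rw [show comp lamM (rho 0) = lamM by decide +kernel, h] at h0
  simp at h0

theorem card_far : Nat.card Dz = 512 := by
  classical
  obtain ⟨e, he, het, -⟩ := W.exists_swap
  let f : Tz × Bool → Dz := fun x => ⟨(bif x.2 then e else 1) * x.1, by
    obtain ⟨h1, h2, -⟩ := W.mem_T.1 x.1.2
    rcases x with ⟨x, _ | _⟩
    · exact W.mem_D.2 ⟨(Commute.one_left z).mul_left h1, (Commute.one_left t).mul_left h2⟩
    · exact W.mem_D.2 ⟨he.1.mul_left h1, het.mul_left h2⟩⟩
  have hf : Function.Bijective f := by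
    constructor
    · rintro ⟨a, i⟩ ⟨b, j⟩ h
      have h' : (bif i then e else 1) * (a : G) = (bif j then e else 1) * (b : G) := congrArg Subtype.val h
      rcases i <;> rcases j <;> simp only [cond_true, cond_false, one_mul] at h'
      · rw [Subtype.ext h']
      · refine absurd ?_ (W.swap_not_mem he)
        rw [eq_mul_inv_of_mul_eq h'.symm]
        exact Subgroup.mul_mem _ a.2 (Subgroup.inv_mem _ b.2)
      · refine absurd ?_ (W.swap_not_mem he)
        rw [eq_mul_inv_of_mul_eq h']
        exact Subgroup.mul_mem _ b.2 (Subgroup.inv_mem _ a.2)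
      · rw [Subtype.ext (mul_left_cancel h')]
    · rintro ⟨d, hd⟩
      rcases W.mem_or he het hd with h | h
      · exact ⟨(⟨d, h⟩, false), Subtype.ext (one_mul d)⟩
      · exact ⟨(⟨_, h⟩, true), Subtype.ext (mul_inv_cancel_left e d)⟩
  rw [← Nat.card_eq_of_bijective f hf, Nat.card_prod, W.card_four]
  simp

/-- The centralizer of the far involution normalizes the four-group. -/
theorem conj_v {d : G} (hd : d ∈ Dz) : d * v * d⁻¹ = v ∨ d * v * d⁻¹ = t * v := by
  obtain ⟨e, he, het, hev⟩ := W.exists_swap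
  rcases W.mem_or he het hd with h | h
  · left
    rw [(W.mem_T.1 h).2.2.eq, mul_inv_cancel_right]
  · right
    calc d * v * d⁻¹ = e * ((e⁻¹ * d) * v * (e⁻¹ * d)⁻¹) * e⁻¹ := by group
      _ = _ := by rw [(W.mem_T.1 h).2.2.eq, mul_inv_cancel_right, hev]

/-- The types of the members of the four-group and of their products with central involutions. -/
theorem isT_of_acts {g : G} {w : Nat} (hw : w ∈ [16, 32, 48]) (hA : Acts z Q p g (rho w)) (hg : g * g = 1) :
    IsT z g := by
  have F := W.frame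
  have h := List.all_eq_true.1 far_vectors w hw
  simp only [Bool.and_eq_true, List.contains_iff_mem] at h
  have hw0 : w ≠ 0 := by
    rintro rfl
    revert hw
    decide
  refine ⟨hg, fun e => ?_, fun hc => ?_⟩
  · rw [e] at hA
    have := F.rho_unique zero_mem_sect h.1 (by rw [F.rho_zero]; exact F.sys.acts_one) hA
    exact hw0 this.symm
  · have := (F.siegel_type h.1 hw0 hA hg).1 hc
    rw [h.2] at this
    exact Bool.noConfusion this

theorem isT_t : IsT z t := W.isT_of_acts (by simp) W.acts_t W.sq_t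

theorem isT_v : IsT z v := W.isT_of_acts (by simp) W.acts_v W.sq_v

theorem sq_tv : t * v * (t * v) = 1 := by
  rw [show t * v * (t * v) = t * (v * t) * v by group, ← W.comm_tv.eq, ← mul_assoc, W.sq_t, one_mul, W.sq_v]

theorem isT_tv : IsT z (t * v) := W.isT_of_acts (by simp) W.acts_tv W.sq_tv

/-- A member of `Q` times a member of the four-group is of the second type. -/
theorem isT_mul {a g : G} (ha : a ∈ Q) (hg : g = t ∨ g = v ∨ g = t * v) (hsq : a * g * (a * g) = 1) :
    IsT z (a * g) := by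
  have F := W.frame
  obtain ⟨w, hw, hA⟩ : ∃ w ∈ [16, 32, 48], Acts z Q p g (rho w) := by
    rcases hg with rfl | rfl | rfl
    exacts [⟨16, by simp, W.acts_t⟩, ⟨32, by simp, W.acts_v⟩, ⟨48, by simp, W.acts_tv⟩]
  refine W.isT_of_acts hw ?_ hsq
  have := F.sys.acts_mul (F.rho_len w) (F.sys.acts_of_mem ha) hA
  rwa [(show ∀ w ∈ [16, 32, 48], comp one (rho w) = rho w by decide +kernel) w hw] at this

/-- A coset of the four-group in its centralizer, squaring into it, consists of involutions, one of them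
conjugate to `z`. -/
theorem exists_coset_z {d : G} (hd : d ∈ Tz) (hd2 : d * d ∈ ({1, t, v, t * v} : Set G))
    (hd1 : d ∉ ({1, t, v, t * v} : Set G)) :
    d * d = 1 ∧ ∃ w ∈ ({1, t, v, t * v} : Set G), IsConj z (d * w) := by
  have F := W.frame
  obtain ⟨hz, ht, hv⟩ := W.mem_T.1 hd
  obtain ⟨u, hu, hA⟩ := W.image_four hz ht hv
  have hA2 : Acts z Q p (d * d) one := by
    have := F.sys.acts_mul (F.rho_len u) hA hA
    rwa [(show ∀ u ∈ sect, comp (rho u) (rho u) = one by decide +kernel) u hu] at this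
  have hdd : d * d = 1 := by
    simp only [Set.mem_insert_iff, Set.mem_singleton_iff] at hd2
    rcases hd2 with e | e | e | e
    · exact e
    all_goals exfalso
    · rw [e] at hA2
      exact absurd (F.sys.acts_unique rfl (F.rho_len 16) hA2 W.acts_t) (by decide +kernel)
    · rw [e] at hA2
      exact absurd (F.sys.acts_unique rfl (F.rho_len 32) hA2 W.acts_v) (by decide +kernel)
    · rw [e] at hA2
      exact absurd (F.sys.acts_unique rfl (F.rho_len 48) hA2 W.acts_tv) (by decide +kernel)
  refine ⟨hdd, ?_⟩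
  have h := List.all_eq_true.1 four_coset u hu
  simp only [List.any_cons, List.any_nil, Bool.or_false, Bool.or_eq_true, beq_iff_eq, Bool.not_eq_true'] at h
  have key : ∀ w : G, w ∈ ({1, t, v, t * v} : Set G) → ∀ l ∈ sect, Acts z Q p w (rho l) → Commute d w → w * w = 1 →
      (u ^^^ l = 0 ∨ qb (u ^^^ l) = false) → ∃ w ∈ ({1, t, v, t * v} : Set G), IsConj z (d * w) := by
    intro w hwm l hl hwA hdw hww hc
    refine ⟨w, hwm, ?_⟩
    have hA' : Acts z Q p (d * w) (rho (u ^^^ l)) := F.rho_mul hu hl hA hwA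
    have hsq : d * w * (d * w) = 1 := by
      rw [show d * w * (d * w) = d * (w * d) * w by group, ← hdw.eq, ← mul_assoc, hdd, one_mul, hww]
    have hne : d * w ≠ 1 := fun e => hd1 (by rw [eq_mul_inv_of_mul_eq e, one_mul, inv_eq_of_mul_eq_one_left hww]; exact hwm)
    by_cases h0 : u ^^^ l = 0
    · rw [h0, F.rho_zero] at hA'
      exact F.mem_type (F.sys.mem_of_acts_one hA') hsq hne
    · exact (F.siegel_type (xor_mem_sect hu hl) h0 hA' hsq).2 (hc.resolve_left h0)
  rcases h with h | h | h | h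
  · exact key 1 (by simp) 0 zero_mem_sect (by rw [F.rho_zero]; exact F.sys.acts_one) (Commute.one_right d)
      (one_mul 1) h
  · exact key t (by simp) 16 (by decide +kernel) W.acts_t ht W.sq_t h
  · exact key v (by simp) 32 (by decide +kernel) W.acts_v hv W.sq_v h
  · exact key (t * v) (by simp) 48 (by decide +kernel) W.acts_tv (ht.mul_right hv) W.sq_tv h

/-- The conjugates of `z` central in the centralizer of the four-group. -/
theorem central_z {c : G} (hc : c ∈ Tz) (hcz : IsConj z c) (hcen : ∀ d ∈ Tz, Commute c d) :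
    c = z ∨ c = X ∨ c = z * X := by
  have F := W.frame
  obtain ⟨n, m, hn, hm, hf⟩ := W.reps
  obtain ⟨a, a', -, haQ, ha'Q, hpa, hpa', -⟩ := W.wit
  obtain ⟨hz, ht, hv⟩ := W.mem_T.1 hc
  obtain ⟨u, hu, hA⟩ := W.image_four hz ht hv
  obtain ⟨l, hR⟩ := F.exists_rep hu hA (W.comm_x_of_comm hu hA (Or.inl ht))
  have hTm : ∀ {b : G}, b ∈ Q → (p b = 4 ∨ p b = 8) → b ∈ Tz := fun {b} hb hpb =>
    W.mem_T.2 ⟨F.sys.large.commute_z hb, (W.comm_lift hb hpb).1.symm, (W.comm_lift hb hpb).2.symm⟩
  have Ra := F.rep_of_mem haQ (by rw [hpa]; decide +kernel)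
  have Ra' := F.rep_of_mem ha'Q (by rw [hpa']; decide +kernel)
  rw [hpa] at Ra
  rw [hpa'] at Ra'
  have hcc : c * c = 1 := by
    obtain ⟨g, rfl⟩ := isConj_iff.1 hcz
    exact conj_sq_one F.sys.large.mul_self_z g
  have hc1 : c ≠ 1 := by
    obtain ⟨g, rfl⟩ := isConj_iff.1 hcz
    exact fun e => F.sys.large.z_ne_one (conj_eq_one_iff.1 e)
  have hmem : (u, l) ∈ pairList n m := by
    refine List.mem_filter.2 ⟨List.mem_flatMap.2 ⟨u, hu, List.mem_map.2 ⟨_, List.mem_filter.2
      ⟨List.mem_range.2 hR.2.1, ?_⟩, rfl⟩⟩, ?_⟩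
    · simp [hR.2.2.1]
    · simp [(F.rep_commute_iff hR hn).1 ht, (F.rep_commute_iff hR hm).1 hv]
  have h := List.all_eq_true.1 (List.all_eq_true.1 fourList_central _ hf) _ hmem
  simp only [(F.rep_commute_iff hR Ra).1 (hcen a (hTm haQ (Or.inl hpa))),
    (F.rep_commute_iff hR Ra').1 (hcen a' (hTm ha'Q (Or.inr hpa'))), (F.rep_invol_iff hR).1 hcc, Bool.not_true,
    Bool.false_or, Bool.or_eq_true, Bool.and_eq_true, beq_iff_eq] at h
  have hu0 : u = 0 ∧ (l = 0 ∨ l = 1) := by
    rcases h with h | h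
    · by_cases hu0 : u = 0
      · subst hu0; exact absurd h (by decide +kernel)
      · exact absurd ((F.siegel_type hu hu0 hA hcc).1 hcz) (by rw [h]; simp)
    · exact h
  obtain ⟨-, -, -, s, q, hs, hsz, hsA, hq, hpq, rfl⟩ := hR
  rw [hu0.1, F.rho_zero] at hsA
  have hsQ : s ∈ Q := F.sys.mem_of_acts_one hsA
  have hp : p (s * q) = 0 ∨ p (s * q) = 1 := by
    rw [F.sys.map_mul s hsQ q hq, hpq]
    rcases F.inter_p hsQ hs with e | e <;> rcases hu0.2 with e' | e' <;> rw [e, e'] <;> simp
  have hmQ := Q.mul_mem hsQ hq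
  rcases hp with e | e
  · rcases F.sys.ker _ hmQ e with e' | e'
    · exact absurd e' hc1
    · exact Or.inl e'
  · obtain ⟨i, ei⟩ := F.sys.eq_of_p F.memQ hmQ (by rw [F.px, e])
    cases i
    · exact Or.inr (Or.inl (by rw [ei, show sg z false = 1 from rfl, mul_one]))
    · exact Or.inr (Or.inr (by rw [ei, F.z_comm_x.eq]; rfl))

/-- No further four-group of far involutions through `t` is centralized by the whole centralizer of `t`. -/
theorem no_central_four {w : G} (hwz : Commute w z) (hwt : Commute w t) (hw : IsT z w) (htw : IsT z (t * w))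
    (hcen : ∀ d ∈ Dz, Commute w d) : False := by
  have F := W.frame
  obtain ⟨n, m, hn, hm, hf⟩ := W.reps
  obtain ⟨e, he, het, -⟩ := W.exists_swap
  have h4 := List.all_eq_true.1 pairList_four _ hf
  simp only [List.any_eq_true, beq_iff_eq] at h4
  obtain ⟨⟨u4, a4⟩, hmem4, rfl⟩ := h4
  rcases W.image_far hwz hwt with ⟨u, hu, hA⟩ | ⟨u, hu, hA⟩
  swap
  · obtain ⟨he1, he2⟩ := List.mem_filter.1 hmem4
    simp only [List.mem_flatMap, List.mem_map, vecs, List.mem_filter, List.mem_range, Bool.not_eq_true',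
      Prod.mk.injEq] at he1
    obtain ⟨u', hu', a', ⟨ha64, ha1⟩, rfl, rfl⟩ := he1
    obtain ⟨hc1, hc2⟩ := Bool.and_eq_true_iff.1 he2
    obtain ⟨q, hq, hpq⟩ := F.sys.surj a' ha64
    obtain ⟨h1, h2, h3⟩ := F.sOf_spec hu'
    have hR : Rep z Q p k (sOf z Q p k 4 * q) 4 a' := ⟨hu', ha64, ha1, _, q, h1, h2, h3, hq, hpq, rfl⟩
    have hd : sOf z Q p k 4 * q ∈ Dz := W.mem_D.2 ⟨(F.rep_acts hR).1, (F.rep_commute_iff hR hn).2 hc1⟩
    have hc := F.sys.comm_of_commute (by rw [length_comp, F.rho_len]) (F.rho_len 4) hA (F.rep_acts hR) (hcen _ hd)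
    have h' := List.all_eq_true.1 lam_not_comm u hu
    simp [hc] at h'
  have hce := F.sys.comm_of_commute (show lamM.length = 6 from rfl) (F.rho_len u) he hA
    (hcen e (W.mem_D.2 ⟨he.1, het⟩)).symm
  have hu0 : u ≠ 0 := by
    rintro rfl
    rw [F.rho_zero] at hA
    exact hw.2.2 (F.mem_type (F.sys.mem_of_acts_one hA) hw.1 hw.2.1)
  have hq : qb u = true := by
    by_contra hne
    exact hw.2.2 ((F.siegel_type hu hu0 hA hw.1).2 (by simpa using hne))
  have htA := F.rho_mul (show 16 ∈ sect by decide +kernel) hu W.acts_t hA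
  have h := List.all_eq_true.1 lam_central u hu
  simp only [hce, beq_self_eq_true, Bool.not_true, Bool.false_or, hq, Bool.or_eq_true, beq_iff_eq,
    Bool.not_eq_true'] at h
  rcases h with h | h
  · subst h
    rw [Nat.xor_self, F.rho_zero] at htA
    exact htw.2.2 (F.mem_type (F.sys.mem_of_acts_one htA) htw.1 htw.2.1)
  · have h0 : 16 ^^^ u ≠ 0 := fun e => by
      rw [Nat.xor_eq_zero_iff] at e
      rw [← e, Nat.xor_self] at h
      rw [← e] at hq
      rw [Nat.xor_comm] at htA
      subst e
      exact htw.2.2 (F.mem_type (F.sys.mem_of_acts_one (by rwa [Nat.xor_self, F.rho_zero] at htA)) htw.1 htw.2.1)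
    rw [Nat.xor_comm] at h
    exact htw.2.2 ((F.siegel_type (xor_mem_sect (by decide +kernel) hu) h0 htA htw.1).2 h)

end Four

end CfsgLib.LocalEvenB.SuzType
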