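import Mathlib

/-!
Generic counting: fibres of a map by cosets, normalizers of groups of prime order, the alternating group of
degree six at the prime five, and a criterion for the product of a cyclic group of order four and `S₃`
(owner: helper8).
-/

set_option autoImplicit false
set_option linter.style.haveILetI false
set_option linter.unusedSectionVars false
set_option maxRecDepth 100000
set_option Elab.async false

namespace CfsgLib.LocalEvenB.SuzType.FiveAux

open Subgroup

variable {G : Type*} [Group G] [Finite G]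

/-- A map whose fibres are the left cosets of a subgroup. -/
theorem card_eq_card_range_mul {K : Type*} [Group K] {β : Type*} (f : K → β) (S : Subgroup K)
    (h : ∀ a b, f a = f b ↔ a⁻¹ * b ∈ S) : Nat.card K = Nat.card (Set.range f) * Nat.card S := by
  let g : K ⧸ S → Set.range f := fun q => Quotient.liftOn' q (fun a => ⟨f a, a, rfl⟩) fun a b hab =>
    Subtype.ext ((h a b).2 (QuotientGroup.leftRel_apply.1 hab))
  have hg : Function.Bijective g := by
    constructor
    · intro x y
      refine Quotient.inductionOn₂' x y fun a b hab => ?_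
      exact QuotientGroup.eq.2 ((h a b).1 (congrArg Subtype.val hab))
    · rintro ⟨_, a, rfl⟩
      exact ⟨QuotientGroup.mk a, rfl⟩
  rw [← Nat.card_eq_of_bijective g hg, ← S.card_eq_card_quotient_mul_card_subgroup]

/-- The orbit formula for conjugation. -/
theorem card_eq_orbit_mul (K : Subgroup G) (a : G) :
    Nat.card K = Nat.card {b : G // ∃ g ∈ K, g * a * g⁻¹ = b} * Nat.card (K ⊓ centralizer ({a} : Set G) : Subgroup G) := by
  have hset : Set.range (fun g : K => (g : G) * a * (g : G)⁻¹) = {b : G | ∃ g ∈ K, g * a * g⁻¹ = b} := by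
    ext b
    simp
  rw [card_eq_card_range_mul (fun g : K => (g : G) * a * (g : G)⁻¹)
    ((centralizer ({a} : Set G)).subgroupOf K) fun g h => ?_, Nat.card_congr (Equiv.setCongr hset)]
  · refine congrArg₂ _ rfl ?_
    rw [← Nat.card_congr (subgroupOfEquivOfLe (inf_le_left : K ⊓ centralizer ({a} : Set G) ≤ K)).toEquiv,
      inf_subgroupOf_left]
  · rw [mem_subgroupOf, mem_centralizer_iff, Subgroup.coe_mul, Subgroup.coe_inv]
    simp only [Set.mem_singleton_iff, forall_eq]
    constructor
    · intro e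
      calc a * ((g : G)⁻¹ * h) = (g : G)⁻¹ * ((g : G) * a * (g : G)⁻¹) * h := by group
        _ = _ := by rw [e]; group
    · intro e
      calc (g : G) * a * (g : G)⁻¹ = (g : G) * (a * ((g : G)⁻¹ * h)) * (h : G)⁻¹ := by group
        _ = _ := by rw [e]; group

omit [Finite G] in
theorem centralizer_zpowers_eq (y : G) :
    centralizer ((zpowers y : Subgroup G) : Set G) = centralizer ({y} : Set G) := by
  rw [zpowers_eq_closure, centralizer_closure]

omit [Finite G] in
theorem conj_mem_of_normalizer {A : Subgroup G} {g a : G} (hg : g ∈ normalizer (A : Set G)) (ha : a ∈ A) :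
    g * a * g⁻¹ ∈ A :=
  (mem_normalizer_iff.1 hg a).1 ha

/-- The nontrivial elements of a subgroup. -/
theorem card_ne_one (A : Subgroup G) : Nat.card {b : G // b ∈ A ∧ b ≠ 1} = Nat.card A - 1 := by
  classical
  haveI := Fintype.ofFinite G
  rw [Nat.card_congr (Equiv.subtypeSubtypeEquivSubtypeInter (fun b => b ∈ A) (fun b => b ≠ 1)).symm,
    Nat.card_congr (Equiv.subtypeEquivRight (q := fun b : A => b ≠ 1) fun b => by simp),
    Nat.card_eq_fintype_card, Fintype.card_subtype_compl, Fintype.card_subtype_eq, Nat.card_eq_fintype_card]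

/-- The index of the centralizer in the normalizer of a group of prime order divides `p - 1`. -/
theorem exists_card_normalizer {p : ℕ} [hp : Fact p.Prime] {y : G} (hy : orderOf y = p) :
    ∃ e, e ∣ p - 1 ∧ Nat.card (normalizer ((zpowers y : Subgroup G) : Set G)) =
      Nat.card (centralizer ({y} : Set G)) * e := by
  set B := zpowers y with hB
  set N := normalizer (B : Set G) with hN
  have hker : B.normalizerMonoidHom.ker = (centralizer ({y} : Set G)).subgroupOf N := by
    rw [normalizerMonoidHom_ker, ← centralizer_zpowers_eq]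
  have hCN : centralizer ({y} : Set G) ≤ N := by
    rw [← centralizer_zpowers_eq]
    exact centralizer_le_normalizer _
  refine ⟨Nat.card B.normalizerMonoidHom.range, ?_, ?_⟩
  · haveI : IsCyclic B := by rw [hB]; infer_instance
    have h1 := card_subgroup_dvd_card B.normalizerMonoidHom.range
    rwa [IsCyclic.card_mulAut, hB, Nat.card_zpowers, hy, Nat.totient_prime hp.out] at h1
  · rw [← Nat.card_congr (QuotientGroup.quotientKerEquivRange B.normalizerMonoidHom).toEquiv, hker,
      ← Nat.card_congr (subgroupOfEquivOfLe hCN).toEquiv]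
    exact ((centralizer ({y} : Set G)).subgroupOf N).card_mul_index.symm

/-- A group normalizing `⟨y⟩` which is large enough realizes every power. -/
theorem exists_conj_eq {p : ℕ} [hp : Fact p.Prime] {y : G} (hy : orderOf y = p) (K : Subgroup G)
    (hK : K ≤ normalizer ((zpowers y : Subgroup G) : Set G))
    (hcard : Nat.card K = (p - 1) * Nat.card (K ⊓ centralizer ({y} : Set G) : Subgroup G))
    {w : G} (hw : w ∈ zpowers y) (hw1 : w ≠ 1) : ∃ g ∈ K, g * y * g⁻¹ = w := by
  classical
  by_contra hcon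
  set S := {b : G | ∃ g ∈ K, g * y * g⁻¹ = b} with hS
  have hy1 : y ≠ 1 := fun e => by rw [e, orderOf_one] at hy; exact hp.out.one_lt.ne hy
  have hsub : S ⊆ {b : G | b ∈ zpowers y ∧ b ≠ 1} \ {w} := by
    rintro _ ⟨g, hg, rfl⟩
    exact ⟨⟨conj_mem_of_normalizer (hK hg) (mem_zpowers y), fun e => hy1 (conj_eq_one_iff.1 e)⟩,
      fun e => hcon ⟨g, hg, e⟩⟩
  have h1 := Set.ncard_le_ncard hsub (Set.toFinite _)
  rw [Set.ncard_sdiff (by simpa using ⟨hw, hw1⟩), Set.ncard_singleton, ← Nat.card_coe_set_eq, ← Nat.card_coe_set_eq,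
    show Nat.card ↥{b : G | b ∈ zpowers y ∧ b ≠ 1} = p - 1 from
      (card_ne_one (zpowers y)).trans (by rw [Nat.card_zpowers, hy])] at h1
  have h2 := (card_eq_orbit_mul K y).symm.trans hcard
  have h3 : Nat.card S = p - 1 := Nat.eq_of_mul_eq_mul_right Nat.card_pos h2
  rw [h3] at h1
  have := hp.out.two_le
  omega

/-- The centralizer of an element of order five in the alternating group of degree six. -/
theorem alt_six_centralizer {y : alternatingGroup (Fin 6)} (hy : orderOf y = 5) :
    centralizer ({y} : Set (alternatingGroup (Fin 6))) = zpowers y := by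
  classical
  haveI : Fact (Nat.Prime 5) := ⟨by norm_num⟩
  have hy' : orderOf (y : Equiv.Perm (Fin 6)) = 5 := by rw [Subgroup.orderOf_coe, hy]
  obtain ⟨n, hn⟩ := Equiv.Perm.cycleType_prime_order (hy'.symm ▸ (by norm_num : Nat.Prime 5))
  rw [hy'] at hn
  have hsum := Equiv.Perm.sum_cycleType_le (y : Equiv.Perm (Fin 6))
  rw [hn] at hsum
  simp at hsum
  obtain rfl : n = 0 := by omega
  have h5 : Nat.card (centralizer ({(y : Equiv.Perm (Fin 6))} : Set (Equiv.Perm (Fin 6)))) = 5 := by
    rw [Equiv.Perm.nat_card_centralizer, hn]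
    decide
  refine (eq_of_le_of_card_ge ?_ ?_).symm
  · rw [zpowers_le, mem_centralizer_iff]; simp
  · rw [Nat.card_zpowers, hy, ← h5]
    refine Nat.card_le_card_of_injective (fun g => ⟨((g : alternatingGroup (Fin 6)) : Equiv.Perm (Fin 6)),
      mem_centralizer_iff.2 fun a ha => ?_⟩) fun a b e => Subtype.ext (Subtype.ext (congrArg (fun u => (u.1 :
        Equiv.Perm (Fin 6))) e))
    rw [Set.mem_singleton_iff] at ha
    subst ha
    exact congrArg Subtype.val (mem_centralizer_iff.1 g.2 y rfl)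

/-- The criterion for `Z₄ × S₃`. -/
theorem nonempty_four_times_sym_three {W : Type*} [Group W] [Finite W] (hW : Nat.card W = 24)
    (φ : W →* Equiv.Perm (Fin 3)) (hcyc : IsCyclic φ.ker) (hcen : ∀ a ∈ φ.ker, ∀ w : W, Commute a w)
    (hK : Nat.card φ.ker ≤ 4) {s : W} (hs : s * s = 1) (hs1 : φ s ≠ 1) :
    Nonempty (W ≃* Multiplicative (ZMod 4) × Equiv.Perm (Fin 3)) := by
  classical
  haveI : Fact (Nat.Prime 3) := ⟨Nat.prime_three⟩
  have hmul : Nat.card φ.ker * Nat.card φ.range = 24 := by
    rw [← Nat.card_congr (QuotientGroup.quotientKerEquivRange φ).toEquiv, ← hW]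
    exact φ.ker.card_mul_index
  have hS : Nat.card (Equiv.Perm (Fin 3)) = 6 := by rw [Nat.card_perm, Nat.card_fin]; rfl
  have hr6 : Nat.card φ.range ≤ 6 := hS ▸ Subgroup.card_le_card_group _
  have hK4 : Nat.card φ.ker = 4 := by nlinarith
  obtain ⟨d, hd⟩ := exists_prime_orderOf_dvd_card' (G := W) 3 (by rw [hW]; norm_num)
  have hker3 : ∀ a ∈ φ.ker, a ^ 3 = 1 → a = 1 := fun a ha h3 => by
    have k1 := orderOf_dvd_of_pow_eq_one h3
    have k2 : orderOf a ∣ 4 := hK4 ▸ Subgroup.orderOf_dvd_natCard _ ha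
    exact orderOf_eq_one_iff.1 (Nat.eq_one_of_dvd_coprimes (by norm_num) k1 k2)
  have hd1 : φ d ≠ 1 := fun e => by
    rw [hker3 d e (by rw [← hd, pow_orderOf_eq_one]), orderOf_one] at hd
    norm_num at hd
  have hP : ∀ a b : Equiv.Perm (Fin 3), a ^ 3 = 1 → a ≠ 1 → b * a * b⁻¹ = a ∨ b * a * b⁻¹ = a * a := by decide +kernel
  have hQ : ∀ a b : Equiv.Perm (Fin 3), a ^ 3 = 1 → b * b = 1 → (a = b ∨ a = b⁻¹) → b = 1 := by decide +kernel
  have hG : ∀ a b : Equiv.Perm (Fin 3), a ^ 3 = 1 → a ≠ 1 → b * b = 1 → b ≠ 1 → ∀ c : Equiv.Perm (Fin 3),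
      c = 1 ∨ c = a ∨ c = a * a ∨ c = b ∨ c = a * b ∨ c = a * a * b := by decide +kernel
  have hd3 : d ^ 3 = 1 := by rw [← hd, pow_orderOf_eq_one]
  have hpd : φ d ^ 3 = 1 := by rw [← map_pow, hd3, map_one]
  haveI : (zpowers d).Normal := ⟨by
    have hgen : ∀ w : W, w * d * w⁻¹ ∈ zpowers d := by
      intro w
      have hfix : ∀ e : W, e ∈ zpowers d → φ (w * d * w⁻¹) = φ e → e ^ 3 = 1 → w * d * w⁻¹ ∈ zpowers d := by
        intro e he h1 h2
        have hk : e⁻¹ * (w * d * w⁻¹) ∈ φ.ker := by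
          rw [MonoidHom.mem_ker, map_mul, map_inv, h1, inv_mul_cancel]
        have hc := hcen _ hk e
        have e1 : w * d * w⁻¹ = e * (e⁻¹ * (w * d * w⁻¹)) := (mul_inv_cancel_left _ _).symm
        have h3 : (e⁻¹ * (w * d * w⁻¹)) ^ 3 = 1 := by
          have := (hc.symm.mul_pow 3)
          rwa [← e1, conj_pow, hd3, mul_one, mul_inv_cancel, h2, one_mul, eq_comm] at this
        rw [e1, hker3 _ hk h3, mul_one]
        exact he
      rcases hP (φ d) (φ w) hpd hd1 with e | e
      · exact hfix d (mem_zpowers d) (by rw [map_mul, map_mul, map_inv, e]) hd3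
      · exact hfix (d * d) (mul_mem (mem_zpowers d) (mem_zpowers d)) (by rw [map_mul, map_mul, map_inv, e, map_mul])
          (by rw [(Commute.refl d).mul_pow, hd3, one_mul])
    rintro n ⟨i, rfl⟩ w
    show w * d ^ i * w⁻¹ ∈ zpowers d
    rw [← conj_zpow]
    exact zpow_mem (hgen w) i⟩
  set H := zpowers d ⊔ zpowers s with hH
  let ψ : φ.ker × H →* W := MonoidHom.noncommCoprod φ.ker.subtype H.subtype fun a b => hcen a a.2 b
  have hinj : Function.Injective (φ.comp H.subtype) := by
    rw [← MonoidHom.ker_eq_bot_iff, eq_bot_iff_forall]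
    rintro ⟨a, ha⟩ hk
    obtain ⟨b, hb, c, hc, rfl⟩ := Subgroup.mem_sup_of_normal_left.1 ha
    have hk' : φ b * φ c = 1 := by rw [← map_mul]; exact hk
    have hb3 : b ^ 3 = 1 := orderOf_dvd_iff_pow_eq_one.1 (hd ▸ orderOf_dvd_of_mem_zpowers hb)
    have hc' : c = 1 ∨ c = s := by
      obtain ⟨j, rfl⟩ := mem_zpowers_iff.1 hc
      rcases Int.even_or_odd j with ⟨m, rfl⟩ | ⟨m, rfl⟩
      · left; rw [zpow_add, ← (Commute.refl s).mul_zpow, hs, one_zpow]
      · right; rw [zpow_add, zpow_one, two_mul, zpow_add, ← (Commute.refl s).mul_zpow, hs, one_zpow, one_mul]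
    rcases hc' with rfl | rfl
    · rw [map_one, mul_one] at hk'
      exact Subtype.ext (show b * 1 = 1 by rw [mul_one, hker3 b hk' hb3])
    · exact absurd (hQ (φ b) (φ c) (by rw [← map_pow, hb3, map_one]) (by rw [← map_mul, hs, map_one])
        (Or.inr (eq_inv_of_mul_eq_one_left hk'))) hs1
  have hsurj : Function.Surjective (φ.comp H.subtype) := by
    intro c
    have md : d ∈ H := mem_sup_left (mem_zpowers d)
    have ms : s ∈ H := mem_sup_right (mem_zpowers s)
    rcases hG (φ d) (φ s) hpd hd1 (by rw [← map_mul, hs, map_one]) hs1 c with rfl | rfl | rfl | rfl | rfl | rfl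
    exacts [⟨1, map_one _⟩, ⟨⟨d, md⟩, rfl⟩, ⟨⟨d * d, mul_mem md md⟩, map_mul φ d d⟩, ⟨⟨s, ms⟩, rfl⟩,
      ⟨⟨d * s, mul_mem md ms⟩, map_mul φ d s⟩,
      ⟨⟨d * d * s, mul_mem (mul_mem md md) ms⟩, by show φ (d * d * s) = _; rw [map_mul, map_mul]⟩]
  let eH : H ≃* Equiv.Perm (Fin 3) := MulEquiv.ofBijective _ ⟨hinj, hsurj⟩
  have hψ : Function.Bijective ψ := by
    refine (Nat.bijective_iff_injective_and_card ψ).2 ⟨?_, by rw [Nat.card_prod, hK4, Nat.card_congr eH.toEquiv, hS, hW]⟩
    rw [← MonoidHom.ker_eq_bot_iff, eq_bot_iff_forall]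
    rintro ⟨a, b⟩ hab
    have hab' : (a : W) * b = 1 := hab
    have hb1 : b = 1 := hinj (by
      rw [map_one, MonoidHom.comp_apply, H.coe_subtype]
      have := congrArg φ hab'
      rwa [map_mul, MonoidHom.mem_ker.1 a.2, one_mul, map_one] at this)
    subst hb1
    exact Prod.ext (Subtype.ext (by simpa using hab')) rfl
  haveI := hcyc
  exact ⟨(MulEquiv.ofBijective ψ hψ).symm.trans (MulEquiv.prodCongr
    (mulEquivOfCyclicCardEq (by rw [hK4, Nat.card_congr Multiplicative.toAdd, Nat.card_zmod])) eH)⟩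

end CfsgLib.LocalEvenB.SuzType.FiveAux
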