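import Cfsg.Agent.Lib.LocalEvenB.SuzType.Locals.Levi
import Cfsg.Agent.Lib.LocalEvenB.SuzType.Locals.FiveAbstract
import Cfsg.Agent.Lib.CIT.Syl

/-!
An element of order five of the Levi group and its centralizer in the centralizer of `z`; the fusion of the
involutions centralizing it (owner: helper8).
-/

set_option autoImplicit false
set_option linter.unusedSectionVars false
set_option linter.unusedVariables false
set_option linter.style.haveILetI false
set_option maxRecDepth 100000
set_option quotPrecheck false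
set_option Elab.async false

namespace CfsgLib.LocalEvenB.SuzType

open CfsgLib.ThreeTrans
open CfsgLib.CIT (IsSyl)

/-- The exchange of the fixed vectors of the element of order five. -/
def swFive : List Nat := [2, 1, 4, 8, 16, 32]

theorem five_facts : cand1.all (fun A => !(comp A rfiveM == comp rfiveM A) || fiveList.contains A) = true ∧
    comp swFive rfiveM = comp rfiveM swFive ∧ rfiveM ∈ levList.map Prod.fst ∧ qb 3 = true ∧ bb 2 1 = true ∧
    (List.range 64).filter (fixB rfiveM) = [0, 1, 2, 3] ∧ rfiveM ≠ one := by decide +kernel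

theorem five_pow : comp rfiveM (comp rfiveM (comp rfiveM (comp rfiveM rfiveM))) = one := by decide +kernel

theorem swFive_iso : (List.range 64).all (fun n => decide (app swFive n < 64) && qb (app swFive n) == qb n) = true := by
  decide +kernel

/-- Multiplication of the triples. -/
def triMul (a c : Bool × Bool × Bool) : Bool × Bool × Bool :=
  (a.1 ^^ (c.1 ^^ (a.2.2 && c.2.1)), a.2.1 ^^ c.2.1, a.2.2 ^^ c.2.2)

/-- The dihedral group as triples: `r 1` is the product of the two involutions. -/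
def triOf : DihedralGroup 4 → Bool × Bool × Bool
  | DihedralGroup.r i => if i = 0 then (false, false, false) else if i = 1 then (false, true, true)
      else if i = 2 then (true, false, false) else (true, true, true)
  | DihedralGroup.sr i => if i = 0 then (false, true, false) else if i = 1 then (false, false, true)
      else if i = 2 then (true, true, false) else (true, false, true)

theorem triOf_mul : ∀ g h : DihedralGroup 4, triMul (triOf g) (triOf h) = triOf (g * h) := by decide +kernel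

theorem triOf_bij : (∀ g h : DihedralGroup 4, triOf g = triOf h → g = h) ∧
    ∀ a : Bool × Bool × Bool, ∃ g, triOf g = a := by decide +kernel

variable {G : Type*} [Group G] [Finite G] {z : G} {Q : Subgroup G} {p : G → Nat} {k : G}

namespace Pair

variable {b β : G} (R : Pair z Q p k b β)
include R

local notation "X" => k * z * k⁻¹
local notation "P" => Q.map (MulAut.conj k).toMonoidHom
local notation "H" => leviGroup z k b β

theorem exists_five : ∃ x, Acts z Q p x rfiveM ∧ x ∈ H ∧ orderOf x = 5 := by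
  obtain ⟨-, -, hmem, -, -, -, hne⟩ := five_facts
  obtain ⟨x, hxH, hxA⟩ := R.exists_levi hmem
  refine ⟨x, hxA, hxH, ?_⟩
  haveI : Fact (Nat.Prime 5) := ⟨by norm_num⟩
  have F := R.frame
  have hl : rfiveM.length = 6 := rfl
  refine orderOf_eq_prime ?_ fun e => ?_
  · refine R.eq_one_of_mem (Subgroup.pow_mem _ hxH 5) (F.sys.mem_of_acts_one ?_)
    have h := F.sys.acts_mul (by rw [length_comp, length_comp, length_comp, hl]) hxA (F.sys.acts_mul
      (by rw [length_comp, length_comp, hl]) hxA (F.sys.acts_mul (by rw [length_comp, hl]) hxA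
        (F.sys.acts_mul hl hxA hxA)))
    rw [five_pow] at h
    rwa [show x ^ 5 = x * (x * (x * (x * x))) by simp only [pow_succ, pow_zero, one_mul, mul_assoc]]
  · exact hne (F.sys.acts_unique hl rfl hxA (e ▸ F.sys.acts_one))

variable {x : G} (hxA : Acts z Q p x rfiveM) (hxH : x ∈ leviGroup z k b β) (hx5 : orderOf x = 5)
include hxA hxH hx5

/-- The value of a triple. -/
theorem tri_mul (a c : Bool × Bool × Bool) :
    sg z a.1 * sg X a.2.1 * sg b a.2.2 * (sg z c.1 * sg X c.2.1 * sg b c.2.2) =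
      sg z (triMul a c).1 * sg X (triMul a c).2.1 * sg b (triMul a c).2.2 := by
  have F := R.frame
  obtain ⟨i, j, l⟩ := a
  obtain ⟨i', j', l'⟩ := c
  have bb' : ∀ u v : Bool, sg b u * sg b v = sg b (u ^^ v) := by
    intro u v; cases u <;> cases v <;> simp [sg, R.b_sq]
  have hbz : ∀ u : Bool, Commute (sg b u) (sg z i') := fun u => by
    cases u
    · exact Commute.one_left _
    · exact F.sys.sg_comm (F.sys.large.commute_z R.b_mem) i'
  have hXz : ∀ u v : Bool, Commute (sg X u) (sg z v) := fun u v => by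
    cases u
    · exact Commute.one_left _
    · exact F.sys.sg_comm F.z_comm_x.symm v
  have hswap : sg b l * sg X j' = sg z (l && j') * sg X j' * sg b l := by
    cases l
    · simp [sg]
    cases j'
    · simp [sg]
    · show b * X = z * X * b
      rw [F.z_comm_x.eq]
      exact mul_inv_eq_iff_eq_mul.1 R.b_x
  calc sg z i * sg X j * sg b l * (sg z i' * sg X j' * sg b l')
      = sg z i * sg X j * (sg b l * sg z i') * (sg X j' * sg b l') := by simp only [mul_assoc]
    _ = sg z i * (sg X j * sg z i') * (sg b l * sg X j') * sg b l' := by rw [(hbz l).eq]; simp only [mul_assoc]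
    _ = sg z i * (sg z i' * sg X j) * (sg z (l && j') * sg X j' * sg b l) * sg b l' := by
        rw [(hXz j i').eq, hswap]
    _ = sg z i * sg z i' * (sg X j * sg z (l && j')) * sg X j' * (sg b l * sg b l') := by simp only [mul_assoc]
    _ = sg z i * sg z i' * sg z (l && j') * (sg X j * sg X j') * (sg b l * sg b l') := by
        rw [(hXz j (l && j')).eq]; simp only [mul_assoc]
    _ = _ := by
        rw [F.sys.sg_mul, F.sys.sg_mul, F.sys'.sg_mul, bb', triMul, Bool.xor_assoc]

theorem tri_mem (a : Bool × Bool × Bool) : sg z a.1 * sg X a.2.1 * sg b a.2.2 ∈ Q ∧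
    Commute (sg z a.1 * sg X a.2.1 * sg b a.2.2) x := by
  have F := R.frame
  obtain ⟨hz, hx, hb, -⟩ := R.mem_levi.1 hxH
  obtain ⟨i, j, l⟩ := a
  refine ⟨Q.mul_mem (F.pair_mem i j).1 ?_, Commute.mul_left (Commute.mul_left ?_ ?_) ?_⟩
  · cases l
    exacts [Q.one_mem, R.b_mem]
  · exact (F.sys.sg_comm hz i).symm
  · cases j
    exacts [Commute.one_left _, hx.symm]
  · cases l
    exacts [Commute.one_left _, hb.symm]

theorem tri_vec (a : Bool × Bool × Bool) : p (sg z a.1 * sg X a.2.1 * sg b a.2.2) =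
    (bif a.2.1 then 1 else 0) ^^^ (bif a.2.2 then 2 else 0) := by
  have F := R.frame
  have hb : sg b a.2.2 ∈ Q ∧ p (sg b a.2.2) = bif a.2.2 then 2 else 0 := by
    cases a.2.2
    exacts [⟨Q.one_mem, F.sys.p_one⟩, ⟨R.b_mem, R.b_vec⟩]
  rw [F.sys.map_mul _ (F.pair_mem a.1 a.2.1).1 _ hb.1, F.p_pair, hb.2]

theorem tri_inj {a c : Bool × Bool × Bool}
    (e : sg z a.1 * sg X a.2.1 * sg b a.2.2 = sg z c.1 * sg X c.2.1 * sg b c.2.2) : a = c := by
  have F := R.frame
  have e' := congrArg p e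
  rw [R.tri_vec hxA hxH hx5, R.tri_vec hxA hxH hx5] at e'
  obtain ⟨i, j, l⟩ := a
  obtain ⟨i', j', l'⟩ := c
  have hd : ∀ j l j' l' : Bool, ((bif j then 1 else 0) ^^^ (bif l then 2 else 0) : Nat) =
      (bif j' then 1 else 0) ^^^ (bif l' then 2 else 0) → j = j' ∧ l = l' := by decide +kernel
  obtain ⟨rfl, rfl⟩ := hd j l j' l' e'
  obtain rfl := F.sys.sg_inj (mul_right_cancel (mul_right_cancel e))
  rfl

/-- The common centralizer in `Q` consists of the triples. -/
theorem exists_tri {q : G} (hq : q ∈ Q) (hqx : Commute q x) :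
    ∃ a : Bool × Bool × Bool, q = sg z a.1 * sg X a.2.1 * sg b a.2.2 := by
  have F := R.frame
  obtain ⟨-, -, -, -, -, hfix, -⟩ := five_facts
  have h1 : p q ∈ [0, 1, 2, 3] := by
    rw [← hfix]
    refine List.mem_filter.2 ⟨List.mem_range.2 (F.sys.lt q hq), ?_⟩
    rw [fixB, beq_iff_eq, ← hxA.2 q hq, hqx.symm.eq, mul_inv_cancel_right]
  have hd : ∀ n ∈ [0, 1, 2, 3], ∃ j l : Bool, n = (bif j then 1 else 0) ^^^ (bif l then 2 else 0) := by decide +kernel
  obtain ⟨j, l, e⟩ := hd _ h1
  obtain ⟨hm, -⟩ := R.tri_mem hxA hxH hx5 (false, j, l)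
  obtain ⟨i, hi⟩ := F.sys.eq_of_p hm hq (by rw [R.tri_vec hxA hxH hx5, e])
  refine ⟨(i, j, l), hi.trans ?_⟩
  rw [← (F.sys.sg_comm (F.sys.large.commute_z hm) i).symm.eq]
  simp [sg, mul_assoc]

/-- The common centralizer in `Q` is dihedral of order eight. -/
theorem five_dihedral : Nonempty (↥(Q ⊓ Subgroup.centralizer ({x} : Set G) : Subgroup G) ≃* DihedralGroup 4) := by
  let f : DihedralGroup 4 →* ↥(Q ⊓ Subgroup.centralizer ({x} : Set G) : Subgroup G) :=
    MonoidHom.mk' (fun g => ⟨sg z (triOf g).1 * sg X (triOf g).2.1 * sg b (triOf g).2.2,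
      Subgroup.mem_inf.2 ⟨(R.tri_mem hxA hxH hx5 _).1, mem_centralizer_singleton_iff'.2
        (R.tri_mem hxA hxH hx5 _).2⟩⟩)
      fun g h => Subtype.ext (by rw [Subgroup.coe_mul, R.tri_mul hxA hxH hx5, triOf_mul])
  refine ⟨(MulEquiv.ofBijective f ⟨fun g h e => triOf_bij.1 g h (R.tri_inj hxA hxH hx5 (congrArg Subtype.val e)),
    fun q => ?_⟩).symm⟩
  obtain ⟨a, ha⟩ := R.exists_tri hxA hxH hx5 (Subgroup.mem_inf.1 q.2).1
    (mem_centralizer_singleton_iff'.1 (Subgroup.mem_inf.1 q.2).2)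
  obtain ⟨g, rfl⟩ := triOf_bij.2 a
  exact ⟨g, Subtype.ext ha.symm⟩

theorem card_five_q : Nat.card (Q ⊓ Subgroup.centralizer ({x} : Set G) : Subgroup G) = 8 := by
  obtain ⟨e⟩ := R.five_dihedral hxA hxH hx5
  rw [Nat.card_congr e.toEquiv, Nat.card_eq_fintype_card]
  rfl

theorem five_acts {B : List Nat} (hB : B ∈ fiveList) : ∃ i : ℕ, Acts z Q p (x ^ i) B := by
  have F := R.frame
  have hl : rfiveM.length = 6 := rfl
  have h2 := F.sys.acts_mul hl hxA hxA
  have h3 := F.sys.acts_mul (by rw [length_comp, hl]) hxA h2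
  have h4 := F.sys.acts_mul (by rw [length_comp, length_comp, hl]) hxA h3
  simp only [fiveList, List.mem_cons, List.not_mem_nil, or_false] at hB
  rcases hB with rfl | rfl | rfl | rfl | rfl
  exacts [⟨0, by rw [pow_zero]; exact F.sys.acts_one⟩, ⟨1, by rwa [pow_one]⟩,
    ⟨2, by rwa [pow_two]⟩, ⟨3, by rwa [pow_succ', pow_two]⟩,
    ⟨4, by rwa [pow_succ', pow_succ', pow_two]⟩]

/-- The centralizer of `x` in the centralizer of `z`. -/
theorem five_cent {c : G} (hcz : Commute c z) (hcx : Commute c x) :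
    ∃ i : ℕ, ∃ q ∈ Q, Commute q x ∧ c = x ^ i * q := by
  have F := R.frame
  obtain ⟨hall, hsw, -, hq3, -, hfix, -⟩ := five_facts
  obtain ⟨A, hA, hcA⟩ := F.sys.exists_acts hcz
  have hl : rfiveM.length = 6 := rfl
  have hcomm := F.sys.comm_of_commute hA.1 hl hcA hxA hcx
  have hfixed : ∀ n, n < 64 → app rfiveM n = n → qb n = false → n ≠ 0 → app A n = 1 ∨ app A n = 2 := by
    intro n hn h1 h2 h3
    have e : app rfiveM (app A n) = app A n := by
      rw [← app_comp hA.1, ← hcomm, app_comp hl, h1]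
    have hm : app A n ∈ (List.range 64).filter (fixB rfiveM) :=
      List.mem_filter.2 ⟨List.mem_range.2 (hA.2 n hn).1, by rw [fixB, beq_iff_eq, e]⟩
    rw [hfix] at hm
    simp only [List.mem_cons, List.not_mem_nil, or_false] at hm
    rcases hm with h | h | h | h
    · rw [← app_zero A] at h
      exact absurd (F.sys.app_inj hcA hn (by norm_num) h) h3
    · exact Or.inl h
    · exact Or.inr h
    · have hq := (hA.2 n hn).2
      rw [h, h2, hq3] at hq
      exact absurd hq (by decide)
  have f1 : app rfiveM 1 = 1 ∧ app rfiveM 2 = 2 ∧ qb 1 = false ∧ qb 2 = false := by decide +kernel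
  obtain ⟨i, hi⟩ : ∃ i : ℕ, Acts z Q p (x ^ i) A := by
    rcases hfixed 1 (by norm_num) f1.1 f1.2.2.1 one_ne_zero with h1 | h1
    · have := List.all_eq_true.1 hall A (mem_cand1 hA h1)
      simp only [hcomm, beq_self_eq_true, Bool.not_true, Bool.false_or, List.contains_iff_mem] at this
      exact R.five_acts hxA hxH hx5 this
    exfalso
    have h2 : app A 2 = 1 := (hfixed 2 (by norm_num) f1.2.1 f1.2.2.2 two_ne_zero).resolve_right fun h =>
      absurd (F.sys.app_inj hcA (by norm_num) (by norm_num) (h.trans h1.symm)) (by norm_num)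
    have hsl : swFive.length = 6 := rfl
    set B := comp A swFive with hB
    have hBiso : Iso B := by
      refine ⟨by rw [hB, length_comp, hsl], fun n hn => ?_⟩
      have := List.all_eq_true.1 swFive_iso n (List.mem_range.2 hn)
      simp only [Bool.and_eq_true, decide_eq_true_eq, beq_iff_eq] at this
      rw [hB, app_comp hsl]
      exact ⟨(hA.2 _ this.1).1, ((hA.2 _ this.1).2).trans this.2⟩
    have hBcomm : comp B rfiveM = comp rfiveM B := by
      refine eq_of_app (by rw [length_comp, hl]) (by rw [length_comp, hBiso.1]) fun n hn => ?_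
      rw [app_comp hl, app_comp hBiso.1, hB, app_comp hsl, app_comp hsl, ← app_comp (A := swFive) hl, hsw,
        app_comp hsl, ← app_comp (A := A) hl, hcomm, app_comp hA.1]
    have hB1 : app B 1 = 1 := by
      rw [hB, app_comp hsl, show app swFive 1 = 2 by decide +kernel, h2]
    have := List.all_eq_true.1 hall B (mem_cand1 hBiso hB1)
    simp only [hBcomm, beq_self_eq_true, Bool.not_true, Bool.false_or, List.contains_iff_mem] at this
    obtain ⟨j, hj⟩ := R.five_acts hxA hxH hx5 this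
    obtain ⟨A', hA', hA'c, hA'A, -⟩ := F.sys.exists_acts_inv hA.1 hcA
    have h := F.sys.acts_mul hBiso.1 hA'c hj
    have e : comp A' B = swFive := by
      refine eq_of_app (by rw [length_comp, hBiso.1]) hsl fun n hn => ?_
      have hn64 : n < 64 := by revert n; decide
      have hlt := List.all_eq_true.1 swFive_iso n (List.mem_range.2 hn64)
      simp only [Bool.and_eq_true, decide_eq_true_eq] at hlt
      rw [app_comp hBiso.1, hB, app_comp hsl, ← app_comp hA.1, hA'A, app_one _ hlt.1]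
    rw [e] at h
    exact F.sys.no_transvection hsl h (by decide +kernel) (by decide +kernel)
  have hq := F.sys.inv_mul_mem hi hcA
  exact ⟨i, _, hq, ((Commute.refl x).pow_left i).inv_left.mul_left hcx, (mul_inv_cancel_left _ _).symm⟩

/-- A two-element centralizing `z` and `x` is in `Q`. -/
theorem five_two {c : G} {n : ℕ} (hcz : Commute c z) (hcx : Commute c x) (hc : c ^ 2 ^ n = 1) : c ∈ Q := by
  have F := R.frame
  obtain ⟨i, q, hq, hqx, rfl⟩ := R.five_cent hxA hxH hx5 hcz hcx
  rw [(hqx.symm.pow_left i).mul_pow] at hc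
  have k1 : orderOf ((x ^ i) ^ 2 ^ n) ∣ 5 := hx5 ▸ orderOf_dvd_of_mem_zpowers (pow_mem (pow_mem (Subgroup.mem_zpowers x) i) _)
  have k2 : orderOf ((x ^ i) ^ 2 ^ n) ∣ 128 := by
    rw [eq_inv_of_mul_eq_one_left hc, orderOf_inv, ← F.sys.card]
    exact Subgroup.orderOf_dvd_natCard _ (pow_mem hq _)
  have h1 := orderOf_dvd_of_pow_eq_one (orderOf_eq_one_iff.1 (Nat.eq_one_of_dvd_coprimes (by norm_num) k1 k2))
  have h2 : orderOf (x ^ i) ∣ 5 := hx5 ▸ orderOf_dvd_of_mem_zpowers (pow_mem (Subgroup.mem_zpowers x) i)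
  rw [orderOf_eq_one_iff.1 (Nat.eq_one_of_dvd_coprimes ((by norm_num : Nat.Coprime 5 2).pow_right n) h2 h1), one_mul]
  exact hq

/-- The Sylow 2-subgroup of the centralizer of `x`. -/
theorem five_syl : IsSyl (Q ⊓ Subgroup.centralizer ({x} : Set G)) (Subgroup.centralizer ({x} : Set G)) := by
  have F := R.frame
  haveI : Fact (Nat.Prime 2) := ⟨Nat.prime_two⟩
  set D := (Q ⊓ Subgroup.centralizer ({x} : Set G) : Subgroup G) with hD
  have hp : IsPGroup 2 D := IsPGroup.of_card (n := 3) (by rw [R.card_five_q hxA hxH hx5]; norm_num)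
  refine ⟨inf_le_right, hp, fun S hDS hSC hS => ?_⟩
  have hmem : ∀ a : Bool × Bool × Bool, sg z a.1 * sg X a.2.1 * sg b a.2.2 ∈ D := fun a =>
    Subgroup.mem_inf.2 ⟨(R.tri_mem hxA hxH hx5 a).1, mem_centralizer_singleton_iff'.2 (R.tri_mem hxA hxH hx5 a).2⟩
  have hzD : z ∈ D := by simpa [sg] using hmem (true, false, false)
  have hXD : X ∈ D := by simpa [sg] using hmem (false, true, false)
  have hbD : b ∈ D := by simpa [sg] using hmem (false, false, true)
  have hQ2 : ∀ s ∈ S, Commute s z → s ∈ D := fun s hs hsz => by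
    obtain ⟨n, hn⟩ := hS ⟨s, hs⟩
    exact Subgroup.mem_inf.2 ⟨R.five_two hxA hxH hx5 hsz (mem_centralizer_singleton_iff'.1 (hSC hs))
      (congrArg Subtype.val hn), hSC hs⟩
  haveI : Nontrivial S := ⟨⟨⟨z, hDS hzD⟩, 1, fun e => F.sys.large.z_ne_one (congrArg Subtype.val e)⟩⟩
  haveI := hS.center_nontrivial
  obtain ⟨⟨⟨c, hcS⟩, hc⟩, hc1⟩ := exists_ne (1 : Subgroup.center S)
  have hcs : ∀ s ∈ S, Commute s c := fun s hs => congrArg Subtype.val (Subgroup.mem_center_iff.1 hc ⟨s, hs⟩)
  have hcD : c ∈ D := hQ2 c hcS (hcs z (hDS hzD)).symm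
  obtain ⟨⟨i, j, l⟩, hce⟩ := R.exists_tri hxA hxH hx5 (Subgroup.mem_inf.1 hcD).1
    (mem_centralizer_singleton_iff'.1 (Subgroup.mem_inf.1 hcD).2)
  have hkey : ∀ a : Bool × Bool × Bool, sg z a.1 * sg X a.2.1 * sg b a.2.2 ∈ S →
      triMul a (i, j, l) = triMul (i, j, l) a := fun a ha => R.tri_inj hxA hxH hx5 (by
    rw [← R.tri_mul hxA hxH hx5, ← R.tri_mul hxA hxH hx5, ← hce]
    exact (hcs _ ha).eq)
  have h1 := hkey (false, true, false) (hDS (hmem _))
  have h2 := hkey (false, false, true) (hDS (hmem _))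
  have hl : l = false := by revert h1; cases i <;> cases j <;> cases l <;> simp [triMul]
  have hj : j = false := by revert h2; cases i <;> cases j <;> cases l <;> simp [triMul]
  subst hl; subst hj
  cases i
  · exact absurd (Subtype.ext (Subtype.ext (by simpa [sg] using hce)) : (⟨⟨c, hcS⟩, hc⟩ : Subgroup.center S) = 1) hc1
  have hcz : c = z := by simpa [sg] using hce
  exact le_antisymm (fun s hs => hQ2 s hs (hcz ▸ hcs s hs)) hDS

/-- An element centralizing `x` which moves `z` to `z * b`. -/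
theorem five_move : ∃ g, Commute g x ∧ g * z * g⁻¹ = z * b := by
  classical
  have F := R.frame
  obtain ⟨d, hd, hdX⟩ := R.swap
  obtain ⟨hxz, hxx, hxb, -⟩ := R.mem_levi.1 hxH
  set y := d⁻¹ * x * d with hy
  have hdz : d * z * d⁻¹ = z := by rw [hd.1.eq, mul_inv_cancel_right]
  have hyz : Commute y z := (hd.1.inv_left.mul_left hxz).mul_left hd.1
  have hyX : Commute y X := by
    refine (LargeData.commute_conj_iff' (g := d)).1 ?_
    rwa [hdX, hy, show d * (d⁻¹ * x * d) * d⁻¹ = x by group]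
  have hy5 : y ^ 5 = 1 := by
    rw [hy, show d⁻¹ * x * d = MulAut.conj d⁻¹ x by simp, ← map_pow, ← hx5, pow_orderOf_eq_one, map_one]
  set S := {s : G // s ∈ P ∧ ¬ Commute s z} with hS
  let σ : Equiv.Perm S :=
    { toFun := fun s => ⟨y * s.1 * y⁻¹, F.sys'.large.conj_mem hyX s.2.1, fun h => s.2.2 (by
        have e : y * z * y⁻¹ = z := by rw [hyz.eq, mul_inv_cancel_right]
        exact (LargeData.commute_conj_iff' (g := y)).1 (by rwa [e]))⟩
      invFun := fun s => ⟨y⁻¹ * s.1 * y, by simpa using F.sys'.large.conj_mem hyX.inv_left s.2.1, fun h => s.2.2 (by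
        have e : y⁻¹ * z * y⁻¹⁻¹ = z := by rw [hyz.inv_left.eq, mul_inv_cancel_right]
        exact (LargeData.commute_conj_iff' (g := y⁻¹)).1 (by rwa [e, inv_inv]))⟩
      left_inv := fun s => Subtype.ext (by group)
      right_inv := fun s => Subtype.ext (by group) }
  have hσ : ∀ n : ℕ, ∀ s : S, ((σ ^ n) s).1 = y ^ n * s.1 * (y ^ n)⁻¹ := by
    intro n
    induction n with
    | zero => intro s; simp
    | succ n ih =>
      intro s
      rw [pow_succ', Equiv.Perm.mul_apply]
      show y * ((σ ^ n) s).1 * y⁻¹ = _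
      rw [ih, pow_succ']
      group
  have hK : Nat.card (P ⊓ Subgroup.centralizer ({z} : Set G) : Subgroup G) = 64 := by
    have h128 : Nat.card P = 128 := by
      rw [Subgroup.card_map_of_injective (MulAut.conj k).injective, F.sys.card]
    have h1 := FiveAux.card_eq_orbit_mul P z
    rw [h128] at h1
    have h2 : Nat.card {c : G // ∃ g ∈ P, g * z * g⁻¹ = c} ≤ 2 := by
      refine (Nat.card_le_card_of_surjective (fun i : Bool => (⟨z * sg X i, ?_⟩ : {c : G // ∃ g ∈ P, g * z * g⁻¹ = c}))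
        ?_).trans (by simp)
      · cases i
        · exact ⟨1, Subgroup.one_mem _, by simp [sg]⟩
        · exact ⟨β, R.β_mem, R.β_z⟩
      · rintro ⟨c, g, hg, rfl⟩
        exact ⟨_, Subtype.ext (F.sys'.conj_eq F.z_memP hg).symm⟩
    have h3 : Nat.card (P ⊓ Subgroup.centralizer ({z} : Set G) : Subgroup G) ∣ 128 :=
      h128 ▸ Subgroup.card_dvd_of_le inf_le_left
    have h4 : Nat.card (P ⊓ Subgroup.centralizer ({z} : Set G) : Subgroup G) ≠ 128 := fun e => by
      have h5 : (P ⊓ Subgroup.centralizer ({z} : Set G) : Subgroup G) = P :=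
        Subgroup.eq_of_le_of_card_ge inf_le_left (by rw [h128, e])
      have h6 := (Subgroup.mem_inf.1 (h5.ge R.β_mem)).2
      have h7 := R.β_z
      rw [(mem_centralizer_singleton_iff'.1 h6), mul_inv_cancel_right] at h7
      exact F.sys'.large.z_ne_one (left_eq_mul.1 h7)
    obtain ⟨m, hm, hm'⟩ := (Nat.dvd_prime_pow Nat.prime_two).1 (show _ ∣ 2 ^ 7 from h3)
    rw [hm'] at h1 h4 ⊢
    interval_cases m <;> omega
  have hcard : Nat.card S = 64 := by
    haveI := Fintype.ofFinite G
    have e1 : Nat.card {s : G // s ∈ P ∧ Commute s z} = 64 := by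
      rw [← hK]
      exact Nat.card_congr (Equiv.subtypeEquivRight fun s => by
        rw [Subgroup.mem_inf, mem_centralizer_singleton_iff']; rfl)
    have e2 : Nat.card P = Nat.card {s : G // s ∈ P ∧ Commute s z} + Nat.card S := by
      rw [← Nat.card_sum]
      exact Nat.card_congr ((Equiv.sumCompl fun s : P => Commute (s : G) z).symm.trans
        (Equiv.sumCongr (Equiv.subtypeSubtypeEquivSubtypeInter (fun s => s ∈ P) (fun s => Commute s z))
          (Equiv.subtypeSubtypeEquivSubtypeInter (fun s => s ∈ P) (fun s => ¬ Commute s z))))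
    rw [Subgroup.card_map_of_injective (MulAut.conj k).injective, F.sys.card, e1] at e2
    omega
  haveI : Fact (Nat.Prime 5) := ⟨by norm_num⟩
  haveI := Fintype.ofFinite S
  obtain ⟨s, hs⟩ := Equiv.Perm.exists_fixed_point_of_prime (p := 5) (n := 1)
    (by rw [← Nat.card_eq_fintype_card, hcard]; norm_num) (σ := σ) (Equiv.ext fun s => Subtype.ext (by
      rw [pow_one, hσ, hy5]; simp))
  have hsy : y * s.1 * y⁻¹ = s.1 := congrArg Subtype.val hs
  have hsyc : Commute s.1 y := (mul_inv_eq_iff_eq_mul.1 hsy).symm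
  have hsz : s.1 * z * s.1⁻¹ = z * X := by
    have e := F.sys'.conj_eq F.z_memP s.2.1
    revert e
    generalize bb (p (k⁻¹ * s.1 * k)) (p (k⁻¹ * z * k)) = i
    intro e
    cases i
    · rw [show sg X false = 1 from rfl, mul_one] at e
      exact absurd (mul_inv_eq_iff_eq_mul.1 e : s.1 * z = z * s.1) s.2.2
    · exact e
  refine ⟨d * s.1 * d⁻¹, ?_, ?_⟩
  · have := (LargeData.commute_conj_iff' (g := d)).2 hsyc
    rwa [show d * y * d⁻¹ = x by rw [hy]; group] at this
  · calc d * s.1 * d⁻¹ * z * (d * s.1 * d⁻¹)⁻¹ = d * (s.1 * (d⁻¹ * z * d) * s.1⁻¹) * d⁻¹ := by group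
      _ = _ := by
        rw [show d⁻¹ * z * d = z by rw [hd.1.inv_left.eq, mul_assoc, inv_mul_cancel, mul_one], hsz,
          show d * (z * X) * d⁻¹ = (d * z * d⁻¹) * (d * X * d⁻¹) by group, hdz, hdX]

/-- The involutions centralizing `x` are conjugate to `z` in its centralizer. -/
theorem five_fused {i : G} (hii : i * i = 1) (hi1 : i ≠ 1) (hix : Commute i x) :
    ∃ g, Commute g x ∧ g * z * g⁻¹ = i := by
  have F := R.frame
  haveI : Fact (Nat.Prime 2) := ⟨Nat.prime_two⟩
  obtain ⟨hxz, hxx, hxb, hxβ⟩ := R.mem_levi.1 hxH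
  set C := Subgroup.centralizer ({x} : Set G) with hC
  obtain ⟨S, hS, hiS⟩ := CfsgLib.CIT.exists_isSyl ((Subgroup.zpowers_le).2 (mem_centralizer_singleton_iff'.2 hix :
    i ∈ C)) (IsPGroup.of_card (n := 1) (by rw [Nat.card_zpowers, orderOf_eq_prime (by rw [pow_two, hii]) hi1, pow_one]))
  obtain ⟨g, hg, hgS⟩ := hS.exists_conj (R.five_syl hxA hxH hx5)
  have hgx : Commute g x := mem_centralizer_singleton_iff'.1 hg
  have hgi : g * i * g⁻¹ ∈ (Q ⊓ C : Subgroup G) := hgS ▸ CfsgLib.CIT.mem_cj.2 (by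
    simpa [mul_assoc] using hiS (Subgroup.mem_zpowers i))
  suffices h : ∃ c, Commute c x ∧ c * z * c⁻¹ = g * i * g⁻¹ by
    obtain ⟨c, hc, e⟩ := h
    refine ⟨g⁻¹ * c, hgx.inv_left.mul_left hc, ?_⟩
    calc g⁻¹ * c * z * (g⁻¹ * c)⁻¹ = g⁻¹ * (c * z * c⁻¹) * g := by group
      _ = i := by rw [e]; group
  obtain ⟨a, ha⟩ := R.exists_tri hxA hxH hx5 (Subgroup.mem_inf.1 hgi).1
    (mem_centralizer_singleton_iff'.1 (Subgroup.mem_inf.1 hgi).2)
  have hsq := conj_sq_one hii g
  have hne : g * i * g⁻¹ ≠ 1 := fun e => hi1 (conj_eq_one_iff.1 e)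
  rw [ha] at hsq hne ⊢
  rw [R.tri_mul hxA hxH hx5] at hsq
  have htri := R.tri_inj hxA hxH hx5 (c := (false, false, false)) (hsq.trans (by simp [sg]))
  obtain ⟨i', j, l⟩ := a
  obtain ⟨m, hm, hmz⟩ := R.five_move hxA hxH hx5
  have hbX : b * (z * X) * b⁻¹ = X := by
    rw [show b * (z * X) * b⁻¹ = (b * z * b⁻¹) * (b * X * b⁻¹) by group, R.b_z, R.b_x, ← F.z_comm_x.eq, ← mul_assoc,
      F.sys.large.mul_self_z, one_mul]
  have hXb : X * (z * b) * X⁻¹ = b := by
    have e1 : X * b = z * (b * X) := by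
      rw [(mul_inv_eq_iff_eq_mul.1 R.b_x : b * X = X * z * b), ← mul_assoc, ← mul_assoc, F.z_comm_x.eq, mul_assoc X z z,
        F.sys.large.mul_self_z, mul_one]
    rw [mul_inv_eq_iff_eq_mul, ← mul_assoc, ← F.z_comm_x.eq, mul_assoc, e1, ← mul_assoc, F.sys.large.mul_self_z, one_mul]
  cases i' <;> cases j <;> cases l <;> simp [triMul] at htri <;> simp only [sg, cond_true, cond_false, one_mul, mul_one] at hne ⊢
  · exact absurd rfl hne
  · -- `b`
    exact ⟨X * m, hxx.symm.mul_left hm, by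
      rw [show X * m * z * (X * m)⁻¹ = X * (m * z * m⁻¹) * X⁻¹ by group, hmz, hXb]⟩
  · -- `X`
    exact ⟨b * β, hxb.symm.mul_left hxβ.symm, by
      rw [show b * β * z * (b * β)⁻¹ = b * (β * z * β⁻¹) * b⁻¹ by group, R.β_z, hbX]⟩
  · exact ⟨1, Commute.one_left _, by group⟩
  · exact ⟨m, hm, hmz⟩
  · exact ⟨β, hxβ.symm, R.β_z⟩

end Pair

end CfsgLib.LocalEvenB.SuzType
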