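import Cfsg.Agent.Lib.LocalEvenB.SuzType.Locals.CentK
import Cfsg.Agent.Lib.Signalizer.OrderFormula

/-!
The pairs of a conjugate of `z` and a far involution whose product has `t` among its powers (owner: helper8).
-/

set_option autoImplicit false
set_option linter.unusedSectionVars false
set_option linter.unusedVariables false
set_option linter.style.haveILetI false
set_option maxRecDepth 100000
set_option quotPrecheck false
set_option Elab.async false

namespace CfsgLib.LocalEvenB.SuzType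

open CfsgLib.ThreeTrans
open CfsgLib.CIT (CIT IsSyl IsPSLThreeFour)

variable {G : Type*} [Group G] [Finite G] {z : G} {Q : Subgroup G} {p : G → Nat} {k : G}

/-- An element inverted by an involution conjugates it to the product. -/
theorem isConj_mul_of_inverted {z g : G} (hzz : z * z = 1) (hg : Odd (orderOf g)) (hinv : z * g * z⁻¹ = g⁻¹) :
    ∃ r ∈ Subgroup.zpowers g, r⁻¹ * z * r = z * g := by
  obtain ⟨m, hm⟩ := exists_pow_eq_self_of_coprime (Nat.coprime_two_left.2 hg)
  refine ⟨g ^ m, pow_mem (Subgroup.mem_zpowers g) m, ?_⟩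
  have h1 : z * g ^ m * z⁻¹ = (g ^ m)⁻¹ := by rw [← conj_pow, hinv, inv_pow]
  calc (g ^ m)⁻¹ * z * g ^ m = z * g ^ m * z⁻¹ * z * g ^ m := by rw [h1]
    _ = z * (g ^ m * g ^ m) := by group
    _ = z * g := by rw [← pow_add, ← two_mul, pow_mul, hm]

namespace Four

variable {t v : G} (W : Four z Q p k t v)
include W

theorem isConj_t {x : G} (hx : IsT z x) : IsConj t x := by
  obtain ⟨t0, -, -, hall⟩ := W.frame.exists_tdata
  exact ((hall t W.sq_t W.isT_t.2.1).resolve_left W.isT_t.2.2).symm.trans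
    ((hall x hx.1 hx.2.1).resolve_left hx.2.2)

theorem orderOf_z : orderOf z = 2 :=
  orderOf_eq_prime (by rw [pow_two, W.frame.sys.large.mul_self_z]) W.frame.sys.large.z_ne_one

theorem orderOf_t : orderOf t = 2 := orderOf_eq_prime (by rw [pow_two, W.sq_t]) W.isT_t.2.1

/-- A product with `t` among its powers, of a conjugate of `z` and an involution, gives commuting factors. -/
theorem commute_of_pair {u x : G} (huu : u * u = 1) (hxx : x * x = 1) (h : t ∈ Subgroup.zpowers (u * x)) :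
    Commute u t ∧ Commute x t := by
  obtain ⟨n, hn⟩ := Subgroup.mem_zpowers_iff.1 h
  have ht : t⁻¹ = t := inv_of_sq W.sq_t
  have h1 : u * (u * x) * u⁻¹ = (u * x)⁻¹ := by
    rw [mul_inv_rev, inv_of_sq huu, inv_of_sq hxx, ← mul_assoc, huu, one_mul]
  have h2 : x * (u * x) * x⁻¹ = (u * x)⁻¹ := by
    rw [mul_inv_rev, inv_of_sq huu, inv_of_sq hxx, mul_assoc x, mul_assoc u x, hxx, mul_one]
  refine ⟨mul_inv_eq_iff_eq_mul.1 ?_, mul_inv_eq_iff_eq_mul.1 ?_⟩
  · rw [← hn, ← conj_zpow, h1, inv_zpow, hn, ht]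
  · rw [← hn, ← conj_zpow, h2, inv_zpow, hn, ht]

/-- The number of conjugates of `z` commuting with `t`. -/
theorem card_class_K : Nat.card {f : G // IsConj z f ∧ Commute f t} = 315 := by
  classical
  haveI := Fintype.ofFinite {f : G // IsConj z f ∧ Commute f t}
  let φ : Subgroup.centralizer ({t} : Set G) → {f : G // IsConj z f ∧ Commute f t} := fun c =>
    ⟨(c : G) * z * (c : G)⁻¹, isConj_iff.2 ⟨c, rfl⟩, by
      have hc : Commute (c : G) t := mem_centralizer_singleton_iff'.1 c.2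
      exact (hc.mul_left W.acts_t.1.symm).mul_left hc.inv_left⟩
  have hfib : ∀ f, Nat.card {c // φ c = f} = 512 := by
    rintro ⟨f, hf, hft⟩
    obtain ⟨h, h1, h2⟩ := W.exists_move hf W.isT_t hft
    have hht : Commute h t := mul_inv_eq_iff_eq_mul.1 h2
    refine (Nat.card_congr ?_).trans W.card_far
    refine
      { toFun := fun c => ⟨h * (c.1 : G), W.mem_D.2 ⟨mul_inv_eq_iff_eq_mul.1 ?_,
          hht.mul_left (mem_centralizer_singleton_iff'.1 c.1.2)⟩⟩
        invFun := fun d => ⟨⟨h⁻¹ * (d : G), mem_centralizer_singleton_iff'.2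
          (hht.inv_left.mul_left (W.mem_D.1 d.2).2)⟩, Subtype.ext ?_⟩
        left_inv := fun c => Subtype.ext (Subtype.ext (inv_mul_cancel_left h _))
        right_inv := fun d => Subtype.ext (mul_inv_cancel_left h _) }
    · have e : (c.1 : G) * z * (c.1 : G)⁻¹ = f := congrArg Subtype.val c.2
      rw [show h * (c.1 : G) * z * (h * (c.1 : G))⁻¹ = h * ((c.1 : G) * z * (c.1 : G)⁻¹) * h⁻¹ by group, e, h1]
    · show h⁻¹ * (d : G) * z * (h⁻¹ * (d : G))⁻¹ = f
      rw [show h⁻¹ * (d : G) * z * (h⁻¹ * (d : G))⁻¹ = h⁻¹ * ((d : G) * z * (d : G)⁻¹) * h by group,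
        (W.mem_D.1 d.2).1.eq, mul_inv_cancel_right, ← h1]
      group
  have h := Nat.card_congr (Equiv.sigmaFiberEquiv φ)
  rw [Nat.card_sigma, Finset.sum_congr rfl fun f _ => hfib f, Finset.sum_const, smul_eq_mul, Finset.card_univ,
    ← Nat.card_eq_fintype_card, W.card_K] at h
  omega

/-- The partners of `z`. -/
theorem card_partners : Nat.card {x : G // IsConj t x ∧ t ∈ Subgroup.zpowers (z * x)} = 193 := by
  classical
  have F := W.frame
  have zz : z * z = 1 := F.sys.large.mul_self_z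
  have zi : z⁻¹ = z := inv_of_sq zz
  haveI := W.normal_four
  set J := fourCent t v with hJ
  set V := (fourGrp t v).subgroupOf J with hV
  set π := QuotientGroup.mk' V with hπ
  set Z : J := ⟨z, W.z_mem_J⟩ with hZ
  have hsame : ∀ g g' : J, Odd (orderOf g) → Odd (orderOf g') → π g = π g' → g = g' := by
    intro g g' ho ho' e
    rw [QuotientGroup.mk'_eq_mk'] at e
    obtain ⟨w, hw, rfl⟩ := e
    have hgw : Commute g w := Subtype.ext (W.commute_four g.2 (Subgroup.mem_subgroupOf.1 hw)).eq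
    have hw2 : w ^ 2 = 1 := by
      refine Subtype.ext ?_
      rw [Subgroup.coe_pow, pow_two]
      by_cases h1 : (w : G) = 1
      · rw [h1, one_mul]; rfl
      · exact (W.isT_of_mem (Subgroup.mem_subgroupOf.1 hw) h1).1
    have h1 : w ^ (orderOf g * orderOf (g * w)) = 1 := by
      have e1 : (g * w) ^ (orderOf g * orderOf (g * w)) = 1 := by rw [mul_comm, pow_mul, pow_orderOf_eq_one, one_pow]
      rwa [hgw.mul_pow, pow_mul g, pow_orderOf_eq_one, one_pow, one_mul] at e1
    obtain ⟨c, hc⟩ := ho.mul ho'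
    rw [hc, pow_succ, pow_mul, hw2, one_pow, one_mul] at h1
    rw [h1, mul_one]
  have key : Nat.card {g : J // Odd (orderOf g) ∧ Z * g * Z⁻¹ = g⁻¹} = 193 := by
    have hZ2 : orderOf (π Z) = 2 := by
      refine orderOf_eq_prime ?_ fun e => W.not_mem_four (IsConj.refl z)
        (Subgroup.mem_subgroupOf.1 ((QuotientGroup.eq_one_iff Z).1 e))
      rw [pow_two, ← map_mul, show Z * Z = 1 from Subtype.ext zz, map_one]
    rw [← LFour.card_inverted W.quotient_psl hZ2]
    refine Nat.card_eq_of_bijective (fun g => ⟨π g.1, Odd.of_dvd_nat g.2.1 (orderOf_map_dvd π _),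
      by rw [← map_inv, ← map_mul, ← map_mul, g.2.2, map_inv]⟩) ⟨fun g g' e => Subtype.ext
      (hsame _ _ g.2.1 g'.2.1 (congrArg Subtype.val e)), ?_⟩
    rintro ⟨y, hy, hyi⟩
    obtain ⟨c, rfl⟩ := QuotientGroup.mk'_surjective V y
    obtain ⟨g, hg, hgo, -⟩ := exists_odd_over π hy
    refine ⟨⟨g, hgo, hsame _ _ ?_ (by rwa [orderOf_inv]) ?_⟩, Subtype.ext hg⟩
    · rwa [show Z * g * Z⁻¹ = MulAut.conj Z g from rfl, MulEquiv.orderOf_eq]
    · rw [map_mul, map_mul, map_inv, map_inv, hg]; exact hyi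
  rw [← key]
  have hfwd : ∀ g : J, Odd (orderOf g) → Z * g * Z⁻¹ = g⁻¹ →
      IsConj t (z * (g : G) * t) ∧ t ∈ Subgroup.zpowers (z * (z * (g : G) * t)) := by
    intro g ho hi
    have hgt : Commute (g : G) t := (mem_fourCent.1 g.2).1
    have ho' : Odd (orderOf (g : G)) := by rwa [Subgroup.orderOf_coe]
    obtain ⟨r, -, hr⟩ := isConj_mul_of_inverted zz ho' (congrArg Subtype.val hi)
    refine ⟨W.isConj_t (W.isT_conj_mul (isConj_iff.2 ⟨r⁻¹, by rw [inv_inv, hr]⟩) W.isT_t
      (W.acts_t.1.symm.mul_left hgt)), ?_⟩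
    rw [show z * (z * (g : G) * t) = g * t by rw [← mul_assoc, ← mul_assoc, zz, one_mul]]
    refine Subgroup.mem_zpowers_iff.2 ⟨(orderOf (g : G) : ℤ), ?_⟩
    rw [zpow_natCast, hgt.mul_pow, pow_orderOf_eq_one, one_mul]
    obtain ⟨c, hc⟩ := ho'
    rw [hc, pow_succ, pow_mul, pow_two, W.sq_t, one_pow, one_mul]
  refine (Nat.card_eq_of_bijective (fun g => ⟨z * (g.1 : G) * t, hfwd g.1 g.2.1 g.2.2⟩)
    ⟨fun g g' e => ?_, ?_⟩).symm
  · exact Subtype.ext (Subtype.ext (mul_left_cancel (mul_right_cancel (congrArg Subtype.val e))))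
  rintro ⟨x, hx, hxt⟩
  have hxx : x * x = 1 := by
    obtain ⟨c, rfl⟩ := isConj_iff.1 hx
    exact conj_sq_one W.sq_t c
  obtain ⟨hzt, hxt'⟩ := W.commute_of_pair zz hxx hxt
  set y := z * x with hy
  have hyt : Commute y t := hzt.mul_left hxt'
  have hzy : z * y * z⁻¹ = y⁻¹ := by
    rw [hy, mul_inv_rev, zi, inv_of_sq hxx, ← mul_assoc, zz, one_mul]
  obtain ⟨i, l, hl, hil⟩ := Nat.exists_eq_two_pow_mul_odd (orderOf_pos y).ne'
  rcases i with _ | _ | i
  · exfalso
    rw [pow_zero, one_mul] at hil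
    have h1 : orderOf t ∣ orderOf y := orderOf_dvd_of_mem_zpowers hxt
    rw [W.orderOf_t, hil] at h1
    exact hl.not_two_dvd_nat h1
  · rw [pow_one] at hil
    have hyl : y ^ l = t := by
      refine CfsgLib.Signalizer.unique_involution_in_zpowers (pow_mem (Subgroup.mem_zpowers y) l) hxt ?_ W.orderOf_t
      rw [orderOf_pow_of_dvd (by obtain ⟨c, rfl⟩ := hl; omega) (hil ▸ dvd_mul_left _ _), hil,
        Nat.mul_div_cancel _ hl.pos]
    have htl : t ^ l = t := by
      obtain ⟨c, rfl⟩ := hl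
      rw [pow_succ, pow_mul, pow_two, W.sq_t, one_pow, one_mul]
    have hgl : (y * t) ^ l = 1 := by rw [hyt.mul_pow, hyl, htl, W.sq_t]
    have hgo : Odd (orderOf (y * t)) := Odd.of_dvd_nat hl (orderOf_dvd_of_pow_eq_one hgl)
    have hgJ : y * t ∈ J := W.mem_J_of_odd (hyt.mul_left (Commute.refl t)) hgo
    have hgi : z * (y * t) * z⁻¹ = (y * t)⁻¹ := by
      rw [show z * (y * t) * z⁻¹ = (z * y * z⁻¹) * (z * t * z⁻¹) by group, hzy, hzt.eq, mul_inv_cancel_right,
        mul_inv_rev y t, inv_of_sq W.sq_t]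
      exact hyt.inv_left.eq
    refine ⟨⟨⟨y * t, hgJ⟩, by rwa [← Subgroup.orderOf_coe], Subtype.ext hgi⟩, Subtype.ext ?_⟩
    show z * (y * t) * t = x
    rw [hy, mul_assoc z, mul_assoc (z * x) t t, W.sq_t, mul_one, ← mul_assoc, zz, one_mul]
  · exfalso
    -- a square root of `t` inverted by `z`
    set f := y ^ (2 ^ i * l) with hf
    have hf2 : f * f = t := by
      rw [hf, ← pow_add, ← two_mul]
      refine CfsgLib.Signalizer.unique_involution_in_zpowers (pow_mem (Subgroup.mem_zpowers y) _) hxt ?_ W.orderOf_t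
      rw [orderOf_pow_of_dvd (by have := hl.pos; positivity) ⟨2, by rw [hil]; ring⟩, hil,
        show 2 ^ (i + 1 + 1) * l = 2 * (2 * (2 ^ i * l)) by ring,
        Nat.mul_div_cancel _ (by have := hl.pos; positivity)]
    have hzf : z * f * z⁻¹ = f⁻¹ := by rw [hf, ← conj_pow, hzy, inv_pow]
    have hfi : f⁻¹ = f * t := inv_eq_of_mul_eq_one_right (by rw [← mul_assoc, hf2, W.sq_t])
    have h1 : f⁻¹ * z * f = t * z := by
      calc f⁻¹ * z * f = f⁻¹ * (z * f * z⁻¹) * z := by group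
        _ = f⁻¹ * f * t * z := by rw [hzf, hfi]; group
        _ = t * z := by rw [inv_mul_cancel, one_mul]
    refine (W.isT_z_mul W.isT_t W.acts_t.1).2.2 (isConj_iff.2 ⟨f⁻¹, ?_⟩)
    rw [inv_inv, h1, W.acts_t.1.eq]

theorem card_pairs_t : Nat.card (CfsgLib.Signalizer.ClassPairs z t t) = 60795 := by
  classical
  haveI := Fintype.ofFinite {f : G // IsConj z f ∧ Commute f t}
  have hfib : ∀ f : {f : G // IsConj z f ∧ Commute f t},
      Nat.card {x : G // IsConj t x ∧ t ∈ Subgroup.zpowers ((f : G) * x)} = 193 := by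
    rintro ⟨f, hf, hft⟩
    obtain ⟨h, h1, h2⟩ := W.exists_move hf W.isT_t hft
    rw [← W.card_partners]
    refine Nat.card_congr ((MulAut.conj h).toEquiv.subtypeEquiv fun x => ?_)
    show _ ↔ IsConj t (h * x * h⁻¹) ∧ t ∈ Subgroup.zpowers (z * (h * x * h⁻¹))
    refine and_congr ⟨fun e => e.trans (isConj_iff.2 ⟨h, rfl⟩), fun e => e.trans (isConj_iff.2 ⟨h, rfl⟩).symm⟩ ?_
    conv_rhs => rw [← h1, ← h2]
    rw [show h * f * h⁻¹ * (h * x * h⁻¹) = h * (f * x) * h⁻¹ by group, Subgroup.mem_zpowers_iff,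
      Subgroup.mem_zpowers_iff]
    simp only [conj_zpow, mul_left_inj, mul_right_inj]
  let e : CfsgLib.Signalizer.ClassPairs z t t ≃
      Σ f : {f : G // IsConj z f ∧ Commute f t}, {x : G // IsConj t x ∧ t ∈ Subgroup.zpowers ((f : G) * x)} :=
    { toFun := fun q => ⟨⟨q.1.1, q.2.1, (W.commute_of_pair
        (by obtain ⟨c, hc⟩ := isConj_iff.1 q.2.1; rw [← hc]; exact conj_sq_one W.frame.sys.large.mul_self_z c)
        (by obtain ⟨c, hc⟩ := isConj_iff.1 q.2.2.1; rw [← hc]; exact conj_sq_one W.sq_t c) q.2.2.2).1⟩,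
        ⟨q.1.2, q.2.2.1, q.2.2.2⟩⟩
      invFun := fun s => ⟨(s.1.1, s.2.1), s.1.2.1, s.2.2.1, s.2.2.2⟩
      left_inv := fun q => rfl
      right_inv := fun s => rfl }
  rw [Nat.card_congr e, Nat.card_sigma, Finset.sum_congr rfl fun f _ => hfib f, Finset.sum_const, smul_eq_mul,
    Finset.card_univ, ← Nat.card_eq_fintype_card, W.card_class_K]

end Four

end CfsgLib.LocalEvenB.SuzType
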