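import Cfsg.Agent.Lib.LocalEvenB.SuzType.Locals.NearImg
import Cfsg.Agent.Lib.LocalEvenB.SuzType.Locals.PairFar

/-!
The pairs of a conjugate of `z` and a far involution whose product has `z` among its powers (owner: helper8).
-/

set_option autoImplicit false
set_option linter.unusedSectionVars false
set_option linter.unusedVariables false
set_option linter.style.haveILetI false
set_option maxRecDepth 100000
set_option quotPrecheck false
set_option Elab.async false

namespace CfsgLib.LocalEvenB.SuzType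

open CfsgLib.ThreeTrans

theorem r16_facts : comp (rho 16) (rho 16) = one ∧ (rho 16).length = 6 ∧
    (∀ v ∈ [4, 8, 28, 44, 60], comp (rho v) one = rho v ∧ v ∈ sect ∧ v ≠ 0 ∧ (app (rho v) 2 ^^^ 2) &&& 60 = v ∧
      v ^^^ 16 ≠ 0) ∧ ∀ v ∈ sect, comp (rho v) one = rho v := by decide +kernel

variable {G : Type*} [Group G] [Finite G] {z : G} {Q : Subgroup G} {p : G → Nat} {k : G}

/-- Factors of a product with the involution `s` among its powers centralize it. -/
theorem commute_pair_general {u x s : G} (hss : s * s = 1) (huu : u * u = 1) (hxx : x * x = 1)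
    (h : s ∈ Subgroup.zpowers (u * x)) : Commute u s ∧ Commute x s := by
  obtain ⟨n, hn⟩ := Subgroup.mem_zpowers_iff.1 h
  have ht : s⁻¹ = s := inv_of_sq hss
  have h1 : u * (u * x) * u⁻¹ = (u * x)⁻¹ := by
    rw [mul_inv_rev, inv_of_sq huu, inv_of_sq hxx, ← mul_assoc, huu, one_mul]
  have h2 : x * (u * x) * x⁻¹ = (u * x)⁻¹ := by
    rw [mul_inv_rev, inv_of_sq huu, inv_of_sq hxx, mul_assoc x, mul_assoc u x, hxx, mul_one]
  refine ⟨mul_inv_eq_iff_eq_mul.1 ?_, mul_inv_eq_iff_eq_mul.1 ?_⟩
  · rw [← hn, ← conj_zpow, h1, inv_zpow, hn, ht]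
  · rw [← hn, ← conj_zpow, h2, inv_zpow, hn, ht]

namespace Frame

variable (F : Frame z Q p k)
include F

local notation "X" => k * z * k⁻¹
local notation "P" => Q.map (MulAut.conj k).toMonoidHom

/-- The involution of a cyclic group decides whether `z` lies in it. -/
theorem zpow_crit {g q : G} (hq : q ∈ Subgroup.zpowers g) (hq2 : q * q = 1) (hq1 : q ≠ 1) :
    z ∈ Subgroup.zpowers g ↔ q = z := by
  refine ⟨fun h => ?_, fun e => e ▸ hq⟩
  exact CfsgLib.Signalizer.unique_involution_in_zpowers hq h (orderOf_eq_prime (by rw [pow_two, hq2]) hq1)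
    (orderOf_eq_prime (by rw [pow_two, F.sys.large.mul_self_z]) F.sys.large.z_ne_one)

variable {t : G} (hR : Rep z Q p k t 16 32) (htt : t * t = 1)
include hR htt

theorem std_fix {a : G} (ha : a ∈ Q) (hf : app (rho 16) (p a) = p a) :
    t * a * t⁻¹ = a * sg z (bb 32 (p a)) := by
  have h := List.all_eq_true.1 far_centric _ (List.mem_range.2 (F.sys.lt a ha))
  simp only [fixB, hf, beq_self_eq_true, Bool.not_true, Bool.false_or, Bool.and_eq_true, Bool.not_eq_true'] at h
  have e := F.rep_comm hR (F.rep_of_mem ha h.1)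
  rw [show cz 16 32 0 (p a) = bb 32 (p a) by
      unfold cz; rw [bb_comm 16, h.2, bb_zero_left, Bool.false_xor, Bool.false_xor],
    show cx 16 32 0 (p a) = false by
      unfold cx; rw [bb_comm 16 0, bb_zero_left, bb_comm 16 (p a), h.2, bb_zero_left]; rfl,
    show sg X false = 1 from rfl, mul_one, mul_inv_eq_iff_eq_mul] at e
  rw [e, (F.sys.sg_comm (F.sys.large.commute_z ha) _).eq]

/-- The case of a member of `Q`. -/
theorem case_inner {x : G} (hx : x ∈ Q) (hxx : x * x = 1) :
    z ∈ Subgroup.zpowers (x * t) ↔ ((fixB (rho 16) (p x) && bb 32 (p x)) ||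
      (!(fixB (rho 16) (p x)) && qb (p x ^^^ app (rho 16) (p x)))) = true := by
  have htA := F.rep_acts hR
  have hgQ : x * t ∉ Q := fun h => by
    have h1 : t ∈ Q := by simpa using Q.mul_mem (Q.inv_mem hx) h
    exact F.sys.not_mem_of_acts (F.rho_len 16) htA (by decide +kernel) h1
  have e2 : x * t * (x * t) = x * (t * x * t⁻¹) := by rw [inv_of_sq htt]; group
  by_cases hf : app (rho 16) (p x) = p x
  · rw [F.std_fix hR htt hx hf, ← mul_assoc x x, hxx, one_mul] at e2
    simp only [fixB, hf, beq_self_eq_true, Bool.true_and, Bool.not_true, Bool.false_and, Bool.or_false]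
    cases hb : bb 32 (p x)
    · rw [hb, show sg z false = 1 from rfl] at e2
      rw [F.zpow_crit (Subgroup.mem_zpowers _) e2 fun e => hgQ (e ▸ Q.one_mem)]
      simp only [Bool.false_eq_true, iff_false]
      exact fun e => hgQ (e ▸ F.sys.large.z_mem)
    · rw [hb, show sg z true = z from rfl] at e2
      exact iff_of_true (e2 ▸ mul_mem (Subgroup.mem_zpowers _) (Subgroup.mem_zpowers _)) rfl
  · simp only [fixB, beq_eq_false_iff_ne.2 hf, Bool.false_and, Bool.false_or, Bool.not_false, Bool.true_and]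
    have hy : t * x * t⁻¹ ∈ Q := F.sys.large.conj_mem htA.1 hx
    have hqQ : x * (t * x * t⁻¹) ∈ Q := Q.mul_mem hx hy
    have hpq : p (x * (t * x * t⁻¹)) = p x ^^^ app (rho 16) (p x) := by
      rw [F.sys.map_mul _ hx _ hy, htA.2 x hx]
    have hne : x * (t * x * t⁻¹) ≠ 1 ∧ x * (t * x * t⁻¹) ≠ z := by
      refine ⟨fun e => hf ?_, fun e => hf ?_⟩ <;>
      · rw [e] at hpq
        first
        | rw [F.sys.p_one] at hpq
        | rw [F.sys.z0] at hpq
        exact (Nat.xor_eq_zero_iff.1 hpq.symm).symm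
    have hgg : x * t * (x * t) ∈ Subgroup.zpowers (x * t) :=
      mul_mem (Subgroup.mem_zpowers _) (Subgroup.mem_zpowers _)
    rw [e2] at hgg
    have hsq := F.sys.sq _ hqQ
    rw [hpq] at hsq
    cases hb : qb (p x ^^^ app (rho 16) (p x))
    · rw [hb, show sg z false = 1 from rfl] at hsq
      rw [F.zpow_crit hgg hsq hne.1]
      simp only [Bool.false_eq_true, iff_false]
      exact hne.2
    · rw [hb, show sg z true = z from rfl] at hsq
      exact iff_of_true (hsq ▸ mul_mem hgg hgg) rfl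

/-- The case of an image commuting with that of `t`. -/
theorem case_two {x : G} {v n : Nat} (hv : v ∈ [4, 8, 28, 44, 60]) (hxR : Rep z Q p k x v n) (hxx : x * x = 1) :
    z ∈ Subgroup.zpowers (x * t) ↔ (cz v n 16 32 && !(cx v n 16 32)) = true := by
  obtain ⟨-, hvs, hv0, -, hv16⟩ := r16_facts.2.2.1 v hv
  have h16 : (16 : Nat) ∈ sect := by decide +kernel
  have hgA := F.rho_mul hvs h16 (F.rep_acts hxR) (F.rep_acts hR)
  have hgQ : x * t ∉ Q := fun h => hv16 (F.rho_unique (xor_mem_sect hvs h16) zero_mem_sect hgA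
    (by rw [F.rho_zero]; exact F.sys.acts_of_mem h))
  have e2 : x * t * (x * t) = sg z (cz v n 16 32) * sg X (cx v n 16 32) := by
    rw [← F.rep_comm hxR hR, inv_of_sq hxx, inv_of_sq htt]; group
  generalize cz v n 16 32 = a at e2 ⊢
  generalize cx v n 16 32 = b at e2 ⊢
  have hgg : x * t * (x * t) ∈ Subgroup.zpowers (x * t) :=
    mul_mem (Subgroup.mem_zpowers _) (Subgroup.mem_zpowers _)
  rw [e2] at hgg
  cases a <;> cases b
  · rw [show sg z false * sg X false = (1 : G) from one_mul 1] at e2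
    rw [F.zpow_crit (Subgroup.mem_zpowers _) e2 fun e => hgQ (e ▸ Q.one_mem)]
    simp only [Bool.false_and, Bool.false_eq_true, iff_false]
    exact fun e => hgQ (e ▸ F.sys.large.z_mem)
  · rw [show sg z false * sg X true = X from one_mul X] at hgg
    rw [F.zpow_crit hgg F.sys'.large.mul_self_z F.sys'.large.z_ne_one]
    simp only [Bool.false_and, Bool.false_eq_true, iff_false]
    exact F.x_ne_z
  · rw [show sg z true * sg X false = z from mul_one z] at hgg
    exact iff_of_true hgg rfl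
  · rw [show sg z true * sg X true = z * X from rfl] at hgg
    have hzx : z * X * (z * X) = 1 := by
      rw [mul_assoc z X, ← mul_assoc X z, ← F.z_comm_x.eq, mul_assoc z X X, F.sys'.large.mul_self_z, mul_one,
        F.sys.large.mul_self_z]
    rw [F.zpow_crit hgg hzx fun e => F.x_ne_z (by
      rw [eq_inv_of_mul_eq_one_right e, inv_of_sq F.sys.large.mul_self_z])]
    simp only [Bool.not_true, Bool.and_false, Bool.false_eq_true, iff_false]
    exact fun e => F.sys'.large.z_ne_one (mul_eq_left.1 e)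

/-- The case of products of order four in the quotient. -/
theorem case_four {x : G} {e : List Nat × List Nat × Nat × Nat × Nat} (he : e ∈ meetList)
    (hxA : Acts z Q p x e.1) (hxx : x * x = 1) :
    z ∈ Subgroup.zpowers (x * t) ↔ bb 32 e.2.2.2.2 = true := by
  obtain ⟨A, W, v, w, pt⟩ := e
  have hok := List.all_eq_true.1 meet_ok _ he
  simp only [Bool.and_eq_true, beq_iff_eq, Bool.not_eq_true', beq_eq_false_iff_ne, List.contains_iff_mem,
    decide_eq_true_eq] at hok
  obtain ⟨⟨⟨⟨⟨⟨⟨⟨⟨⟨⟨hWA, hWB⟩, hW1⟩, hPf⟩, hvs⟩, hws⟩, hv0⟩, hw0⟩, hP⟩, hfa⟩, hfb⟩, hfc⟩ := hok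
  dsimp only at hxA ⊢
  have htA := F.rep_acts hR
  have hAl : A.length = 6 :=
    (show ∀ e ∈ meetList, e.1.length = 6 by decide +kernel) (A, W, v, w, pt) he
  obtain ⟨hl, c, hc⟩ := F.sys.acts_word W
  set u := t * x * t⁻¹ with hu
  have huA : Acts z Q p u (comp (rho 16) (comp A (rho 16))) := by
    have h1 := F.sys.acts_mul (F.rho_len 16) hxA htA
    have h2 := F.sys.acts_mul (B := comp A (rho 16)) (by rw [length_comp, F.rho_len]) htA h1
    rwa [← mul_assoc, show t * x * t = u by rw [hu, inv_of_sq htt]] at h2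
  have huu : u * u = 1 := conj_sq_one hxx t
  set x1 := c * x * c⁻¹ with hx1
  set u1 := c * u * c⁻¹ with hu1
  have hxA1 : Acts z Q p x1 (rho v) := F.sys.acts_conj hl hAl (F.rho_len v) hc hxA hWA
  have huA1 : Acts z Q p u1 (rho w) :=
    F.sys.acts_conj hl (by rw [length_comp, length_comp, F.rho_len]) (F.rho_len w) hc huA hWB
  have hxx1 : x1 * x1 = 1 := conj_sq_one hxx c
  have huu1 : u1 * u1 = 1 := conj_sq_one huu c
  obtain ⟨n, hxR⟩ := F.exists_rep hvs hxA1 (F.comm_x_of_invol hvs hv0 hxA1 hxx1)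
  obtain ⟨m, huR⟩ := F.exists_rep hws huA1 (F.comm_x_of_invol hws hw0 huA1 huu1)
  have hix := (F.rep_invol_iff hxR).1 hxx1
  have hiu := (F.rep_invol_iff huR).1 huu1
  set t1 := c * t * c⁻¹ with ht1
  have htt1 : t1 * t1 = 1 := conj_sq_one htt c
  have ht1z : Commute t1 z := (hc.1.mul_left htA.1).mul_left hc.1.inv_left
  have hswap : t1 * x1 * t1⁻¹ = u1 := by rw [ht1, hx1, hu1, hu]; group
  have hswap' : t1 * u1 * t1⁻¹ = x1 := by
    calc t1 * u1 * t1⁻¹ = t1 * t1 * x1 * (t1 * t1)⁻¹ := by rw [← hswap]; group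
      _ = x1 := by rw [htt1, one_mul, inv_one, mul_one]
  -- the preimage of `X`
  have hX' : c⁻¹ * X * c ∈ Q := by
    have := F.sys.large.conj_mem hc.1.inv_left F.memQ
    rwa [inv_inv] at this
  have hpX : p (c⁻¹ * X * c) = pt := by
    have e1 := hc.2 _ hX'
    rw [show c * (c⁻¹ * X * c) * c⁻¹ = X by group, F.px] at e1
    exact F.sys.app_inj hc (F.sys.lt _ hX') hP (by rw [← e1, hW1])
  have htX : t1 * X * t1⁻¹ = X * sg z (bb 32 pt) := by
    have e1 := F.std_fix hR htt hX' (by rw [hpX, hPf])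
    rw [hpX] at e1
    calc t1 * X * t1⁻¹ = c * (t * (c⁻¹ * X * c) * t⁻¹) * c⁻¹ := by rw [ht1]; group
      _ = c * (c⁻¹ * X * c) * (sg z (bb 32 pt) * c⁻¹) := by rw [e1]; group
      _ = _ := by rw [← (F.sys.sg_comm hc.1.inv_left _).eq]; group
  -- the fourth power
  set a := cz v n w m with ha
  set b := cx v n w m with hb
  have hq1 : x1 * u1 * (x1 * u1) = sg z a * sg X b := by
    rw [← F.rep_comm hxR huR, inv_of_sq hxx1, inv_of_sq huu1]; group
  have hg4 : (x * t) ^ 4 = c⁻¹ * (sg z a * sg X b) * c := by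
    rw [← hq1, hx1, hu1, hu, inv_of_sq htt, show (4 : ℕ) = 2 * 2 from rfl, pow_mul, pow_two, pow_two]
    group
  have hinv : t1 * (sg z a * sg X b) * t1⁻¹ = sg z a * sg X b := by
    calc t1 * (sg z a * sg X b) * t1⁻¹ = t1 * x1 * t1⁻¹ * (t1 * u1 * t1⁻¹) * (t1 * x1 * t1⁻¹ * (t1 * u1 * t1⁻¹)) := by
          rw [← hq1]; group
      _ = (x1 * u1 * (x1 * u1))⁻¹ := by
          rw [hswap, hswap', mul_inv_rev, mul_inv_rev, inv_of_sq hxx1, inv_of_sq huu1]
      _ = _ := by
          rw [hq1, mul_inv_rev, F.sys.sg_inv, F.sys'.sg_inv]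
          exact (F.sys.sg_comm (F.sys'.sg_comm F.z_comm_x _).symm _).eq
  cases hP32 : bb 32 pt
  · -- the conjugated involution normalizes `P`
    rw [hP32, show sg z false = 1 from rfl, mul_one] at htX
    have ht1x : Commute t1 X := mul_inv_eq_iff_eq_mul.1 htX
    obtain ⟨-, -, hn1, s, q, hs, hsz, hsA, hq, hpq, hxe⟩ := id hxR
    have hs' : t1 * s * t1⁻¹ ∈ P := F.sys'.large.conj_mem ht1x hs
    have hq' : t1 * q * t1⁻¹ ∈ Q := F.sys.large.conj_mem ht1z hq
    have hq0 : c⁻¹ * q * c ∈ Q := by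
      have := F.sys.large.conj_mem hc.1.inv_left hq
      rwa [inv_inv] at this
    set y := p (c⁻¹ * q * c) with hy
    have hny : app (wmap W) y = n := by
      rw [hy, ← hc.2 _ hq0, show c * (c⁻¹ * q * c) * c⁻¹ = q by group, hpq]
    have hpq' : p (t1 * q * t1⁻¹) = app (wmap W) (app (rho 16) y) := by
      rw [show t1 * q * t1⁻¹ = c * (t * (c⁻¹ * q * c) * t⁻¹) * c⁻¹ by rw [ht1]; group,
        hc.2 _ (F.sys.large.conj_mem htA.1 hq0), htA.2 _ hq0]
    have hsplit : u1 = t1 * s * t1⁻¹ * (t1 * q * t1⁻¹) := by rw [← hswap, hxe]; group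
    have hs'A : Acts z Q p (t1 * s * t1⁻¹) (rho w) := by
      have h1 := F.sys.acts_mul (show one.length = 6 from rfl) huA1 (F.sys.acts_of_mem (Q.inv_mem hq'))
      rw [r16_facts.2.2.2 w hws, hsplit, mul_inv_cancel_right] at h1
      exact h1
    have h2 := List.all_eq_true.1 hfb y (List.mem_range.2 (F.sys.lt _ hq0))
    simp only [hny, hn1, Bool.false_or, Bool.and_eq_true, beq_iff_eq, Bool.not_eq_true'] at h2
    obtain ⟨hbw, hm1⟩ := h2
    set m' := app (wmap W) (app (rho 16) y) with hm'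
    have huR' : Rep z Q p k u1 w m' :=
      ⟨hws, hpq' ▸ F.sys.lt _ hq', hm1, _, _, hs', (ht1z.mul_left hsz).mul_left ht1z.inv_left, hs'A, hq', hpq',
        hsplit⟩
    have h3 := List.all_eq_true.1 hfc n (List.mem_range.2 hxR.2.1)
    simp only [hn1, hix, Bool.not_true, Bool.false_or, List.all_eq_true, List.mem_range] at h3
    have h4 := h3 m' huR'.2.1
    simp only [hm1, hbw, beq_self_eq_true, Bool.not_true, Bool.false_or] at h4
    obtain ⟨-, hbe⟩ := F.pair_inj (((F.rep_comm hxR huR).symm.trans (F.rep_comm hxR huR')))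
    rw [← hb, h4] at hbe
    rw [hbe] at hg4
    have hq2 : c⁻¹ * (sg z a * sg X true) * c * (c⁻¹ * (sg z a * sg X true) * c) = 1 := by
      rw [show c⁻¹ * (sg z a * sg X true) * c * (c⁻¹ * (sg z a * sg X true) * c) =
        c⁻¹ * (sg z a * sg X true * (sg z a * sg X true)) * c by group, F.pair_mul, Bool.xor_self, Bool.xor_self,
        show sg z false * sg X false = (1 : G) from one_mul 1, mul_one, inv_mul_cancel]
    rw [F.zpow_crit (hg4 ▸ pow_mem (Subgroup.mem_zpowers _) 4) hq2 fun e => ?_]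
    · simp only [Bool.false_eq_true, iff_false]
      intro e
      have e1 : sg z a * sg X true = sg z true * sg X false := by
        calc sg z a * sg X true = c * (c⁻¹ * (sg z a * sg X true) * c) * c⁻¹ := by group
          _ = z := by rw [e, hc.1.eq, mul_inv_cancel_right]
          _ = _ := (mul_one z).symm
      exact Bool.noConfusion (F.pair_inj e1).2
    · have e1 : sg z a * sg X true = sg z false * sg X false := by
        calc sg z a * sg X true = c * (c⁻¹ * (sg z a * sg X true) * c) * c⁻¹ := by group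
          _ = 1 := by rw [e]; group
          _ = _ := (one_mul 1).symm
      exact Bool.noConfusion (F.pair_inj e1).2
  · refine iff_of_true ?_ rfl
    rw [hP32, show sg z true = z from rfl] at htX
    have hb0 : b = false := by
      by_contra hbt
      rw [Bool.not_eq_false] at hbt
      rw [hbt, show t1 * (sg z a * sg X true) * t1⁻¹ = t1 * sg z a * t1⁻¹ * (t1 * X * t1⁻¹) by
          show t1 * (sg z a * X) * t1⁻¹ = _; group,
        (F.sys.sg_comm ht1z a).eq, mul_inv_cancel_right, htX] at hinv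
      exact F.sys.large.z_ne_one (mul_eq_left.1 (mul_left_cancel (hinv : sg z a * (X * z) = sg z a * X)))
    have h3 := List.all_eq_true.1 hfa n (List.mem_range.2 hxR.2.1)
    simp only [hxR.2.2.1, hix, Bool.not_true, Bool.false_or, List.all_eq_true, List.mem_range] at h3
    have h4 := h3 m huR.2.1
    simp only [huR.2.2.1, hiu, ← hb, ← ha, hb0, Bool.not_true, Bool.false_or] at h4
    rw [h4, hb0, show sg z true * sg X false = z from mul_one z, hc.1.inv_left.eq, inv_mul_cancel_right] at hg4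
    exact hg4 ▸ pow_mem (Subgroup.mem_zpowers _) 4

/-- The case of products of order six in the quotient. -/
theorem case_six {x : G} {A : List Nat} (hA : A ∈ nearList.map Prod.fst) (hxA : Acts z Q p x A) (hxx : x * x = 1)
    (h2 : (comp (prodT A) (prodT A) == one) = false)
    (h4 : (comp (comp (prodT A) (prodT A)) (comp (prodT A) (prodT A)) == one) = false) :
    z ∈ Subgroup.zpowers (x * t) := by
  have h := List.all_eq_true.1 r_cases A hA
  simp only [h2, h4, Bool.false_eq_true, if_false, Bool.and_eq_true, List.any_eq_true, beq_iff_eq] at h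
  obtain ⟨⟨h6, v, hv, hy0, hcomb⟩, hfix⟩ := h
  obtain ⟨-, hvs, hv0, -, -⟩ := r16_facts.2.2.1 v hv
  have htA := F.rep_acts hR
  have hAl := length_near hA
  set g := x * t with hg
  have hgA : Acts z Q p g (prodT A) := F.sys.acts_mul (F.rho_len 16) hxA htA
  have hPl : (prodT A).length = 6 := by rw [prodT, length_comp, F.rho_len]
  have hg3 : Acts z Q p (g * (g * g)) (comp (prodT A) (comp (prodT A) (prodT A))) :=
    F.sys.acts_mul (by rw [length_comp, hPl]) hgA (F.sys.acts_mul hPl hgA hgA)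
  set q := g * (g * g) * (g * (g * g)) with hq
  have hqQ : q ∈ Q := by
    refine F.sys.mem_of_acts_one ?_
    have := F.sys.acts_mul (by rw [length_comp, length_comp, hPl]) hg3 hg3
    rwa [h6] at this
  have hqg : q ∈ Subgroup.zpowers g := by
    have h := Subgroup.mem_zpowers g
    exact mul_mem (mul_mem h (mul_mem h h)) (mul_mem h (mul_mem h h))
  have hconj : ∀ {b : G}, b * g * b⁻¹ = g⁻¹ → b * q * b⁻¹ = q⁻¹ := by
    intro b hb
    calc b * q * b⁻¹ = b * g * b⁻¹ * (b * g * b⁻¹ * (b * g * b⁻¹)) *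
          (b * g * b⁻¹ * (b * g * b⁻¹ * (b * g * b⁻¹))) := by rw [hq]; group
      _ = q⁻¹ := by rw [hb, hq]; group
  have htg : t * g * t⁻¹ = g⁻¹ := by
    rw [hg, mul_inv_rev, inv_of_sq htt, inv_of_sq hxx, mul_assoc t, mul_assoc x t t, htt, mul_one]
  have hxg : x * g * x⁻¹ = g⁻¹ := by
    rw [hg, mul_inv_rev, inv_of_sq htt, inv_of_sq hxx, ← mul_assoc, hxx, one_mul]
  have hmt : app (rho 16) (p q) = p q := by rw [← htA.2 q hqQ, hconj htg, F.sys.p_inv hqQ]
  have hmx : app A (p q) = p q := by rw [← hxA.2 q hqQ, hconj hxg, F.sys.p_inv hqQ]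
  have hbq : bb 32 (p q) = qb (p q) := by
    have e1 := F.std_fix hR htt hqQ hmt
    rw [hconj htg, F.sys.inv_eq hqQ] at e1
    exact (F.sys.sg_inj (mul_left_cancel e1)).symm
  have hm := List.all_eq_true.1 hfix _ (List.mem_range.2 (F.sys.lt q hqQ))
  simp only [fixB, hmt, hmx, hbq, beq_self_eq_true, Bool.not_true, Bool.false_or, Bool.or_eq_true, or_self,
    beq_iff_eq] at hm
  rcases hm with hm | hm
  · have e1 := F.sys.sq q hqQ
    rw [hm, show sg z true = z from rfl] at e1
    exact e1 ▸ mul_mem hqg hqg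
  rcases F.sys.ker q hqQ hm with e | e
  swap
  · exact e ▸ hqg
  exfalso
  set y := x * (t * x * t⁻¹ * x) with hy
  have hyy : y * y = 1 := by
    rw [show y = x * (t * x * t⁻¹) * x⁻¹ by rw [hy, inv_of_sq hxx]; group]
    exact conj_sq_one (conj_sq_one hxx t) x
  have hyA : Acts z Q p y (rho v) := by
    have h1 := F.sys.acts_mul (F.rho_len 16) hxA htA
    have h2 := F.sys.acts_mul (B := comp A (rho 16)) (by rw [length_comp, F.rho_len]) htA h1
    have h3 := F.sys.acts_mul hAl h2 hxA
    have h4 := F.sys.acts_mul (B := comp (comp (rho 16) (comp A (rho 16))) A) (by rw [length_comp, hAl]) hxA h3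
    rw [hy0] at h4
    rwa [hy, inv_of_sq htt, ← mul_assoc t x t] at *
  have hgy : g * (g * g) = y * t := by rw [hg, hy, inv_of_sq htt]; group
  have hyt : Commute y t := by
    rw [hq, hgy] at e
    have e1 : y * t = (y * t)⁻¹ := (inv_eq_of_mul_eq_one_right e).symm
    rw [mul_inv_rev, inv_of_sq hyy, inv_of_sq htt] at e1
    exact e1
  obtain ⟨n, hyR⟩ := F.exists_rep hvs hyA (F.comm_x_of_invol hvs hv0 hyA hyy)
  have h5 := List.all_eq_true.1 hcomb n (List.mem_range.2 hyR.2.1)
  simp [hyR.2.2.1, (F.rep_invol_iff hyR).1 hyy, (F.rep_commute_iff hyR hR).1 hyt] at h5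

/-- A Siegel involution in the coordinates of the chosen lifts. -/
theorem rep_sOf {x : G} {v : Nat} (hv : v ∈ sect) (hA : Acts z Q p x (rho v)) (hX : Commute x X) :
    Rep z Q p k x v (p ((sOf z Q p k v)⁻¹ * x)) := by
  obtain ⟨h1, h2, h3⟩ := F.sOf_spec hv
  have hq : (sOf z Q p k v)⁻¹ * x ∈ Q := F.sys.inv_mul_mem h3 hA
  exact ⟨hv, F.sys.lt _ hq, (F.comm_x hq).1 ((F.sys'.large.commute_z h1).inv_left.mul_left hX), _, _, h1, h2, h3,
    hq, rfl, (mul_inv_cancel_left _ _).symm⟩

/-- The good lifts of a near image. -/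
theorem card_good {A : List Nat} (hA : A ∈ nearList.map Prod.fst) :
    Nat.card {x : G // x * x = 1 ∧ Acts z Q p x A ∧ z ∈ Subgroup.zpowers (x * t)} = nearVal A := by
  classical
  have hr := List.all_eq_true.1 r_cases A hA
  unfold nearVal
  by_cases h2 : (comp (prodT A) (prodT A) == one) = true
  · rw [if_pos h2] at hr ⊢
    rw [List.contains_iff_mem, List.mem_map] at hr
    obtain ⟨v, hv, rfl⟩ := hr
    obtain ⟨-, hvs, hv0, hvv, -⟩ := r16_facts.2.2.1 v hv
    rw [hvv]
    set L := vecs fun n => !bb n 1 && invB v n && cz v n 16 32 && !cx v n 16 32 with hL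
    have hLm : ∀ {n : Nat}, n ∈ L → n < 64 ∧ bb n 1 = false ∧ invB v n = true ∧
        (cz v n 16 32 && !(cx v n 16 32)) = true := fun {n} hn => by
      have := List.mem_filter.1 hn
      simp only [List.mem_range, Bool.and_eq_true, Bool.not_eq_true'] at this ⊢
      exact ⟨this.1, this.2.1.1.1, this.2.1.1.2, this.2.1.2, this.2.2⟩
    obtain ⟨h1, hz', h3⟩ := F.sOf_spec hvs
    have hR' : ∀ {n : Nat}, n < 64 → bb n 1 = false → ∀ i, Rep z Q p k (sOf z Q p k v * (aOf Q p n * sg z i)) v n := by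
      intro n hn hn1 i
      obtain ⟨g1, g2⟩ := F.aOf_spec hn
      exact ⟨hvs, hn, hn1, _, _, h1, hz', h3, Q.mul_mem g1 (F.sys.sg_mem i),
        by rw [F.sys.map_mul _ g1 _ (F.sys.sg_mem i), g2, F.sys.p_sg, Nat.xor_zero], rfl⟩
    let f : ↥L.toFinset × Bool →
        {x : G // x * x = 1 ∧ Acts z Q p x (rho v) ∧ z ∈ Subgroup.zpowers (x * t)} := fun d =>
      ⟨sOf z Q p k v * (aOf Q p d.1 * sg z d.2), by
        obtain ⟨g1, g2, g3, g4⟩ := hLm (List.mem_toFinset.1 d.1.2)
        have hr := hR' g1 g2 d.2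
        have hxx := (F.rep_invol_iff hr).2 g3
        exact ⟨hxx, F.rep_acts hr, (F.case_two hR htt hv hr hxx).2 g4⟩⟩
    have hf : Function.Bijective f := by
      constructor
      · rintro ⟨⟨n, hn⟩, i⟩ ⟨⟨m, hm⟩, j⟩ heq
        have e1 : aOf Q p n * sg z i = aOf Q p m * sg z j := mul_left_cancel (congrArg Subtype.val heq)
        obtain ⟨g1, g2⟩ := F.aOf_spec (hLm (List.mem_toFinset.1 hn)).1
        obtain ⟨g3, g4⟩ := F.aOf_spec (hLm (List.mem_toFinset.1 hm)).1
        have e2 := congrArg p e1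
        rw [F.sys.map_mul _ g1 _ (F.sys.sg_mem _), F.sys.map_mul _ g3 _ (F.sys.sg_mem _), g2, g4, F.sys.p_sg,
          F.sys.p_sg, Nat.xor_zero, Nat.xor_zero] at e2
        subst e2
        exact Prod.ext rfl (F.sys.sg_inj (mul_left_cancel e1))
      · rintro ⟨x, hxx, hxA, hgood⟩
        have hr := F.rep_sOf hR htt hvs hxA (F.comm_x_of_invol hvs hv0 hxA hxx)
        set n := p ((sOf z Q p k v)⁻¹ * x) with hn
        have hc := (F.case_two hR htt hv hr hxx).1 hgood
        have hi := (F.rep_invol_iff hr).1 hxx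
        rw [Bool.and_eq_true, Bool.not_eq_true'] at hc
        obtain ⟨g1, g2⟩ := F.aOf_spec hr.2.1
        obtain ⟨i, ei⟩ := F.sys.eq_of_p g1 (F.sys.inv_mul_mem h3 hxA) g2
        exact ⟨(⟨n, List.mem_toFinset.2 (List.mem_filter.2 ⟨List.mem_range.2 hr.2.1,
          by simp [hr.2.2.1, hi, hc.1, hc.2]⟩)⟩, i), Subtype.ext (by
            show sOf z Q p k v * (aOf Q p n * sg z i) = x
            rw [← ei, mul_inv_cancel_left])⟩
    rw [← Nat.card_eq_of_bijective f hf, Nat.card_prod, Nat.card_eq_fintype_card, Fintype.card_coe,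
      List.toFinset_card_of_nodup (show L.Nodup from List.nodup_range.filter _)]
    simp [mul_comm]
  · rw [if_neg h2] at hr ⊢
    rw [Bool.not_eq_true] at h2
    by_cases h4 : (comp (comp (prodT A) (prodT A)) (comp (prodT A) (prodT A)) == one) = true
    · rw [if_pos h4] at hr ⊢
      rw [List.contains_iff_mem, List.mem_map] at hr
      obtain ⟨e, he, rfl⟩ := hr
      have hcrit : ∀ x : G, x * x = 1 → Acts z Q p x e.1 →
          (z ∈ Subgroup.zpowers (x * t) ↔ bb 32 e.2.2.2.2 = true) := fun x hxx hxA => F.case_four hR htt he hxA hxx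
      have hany : (meetList.any fun f => f.1 == e.1 && bb 32 f.2.2.2.2) = bb 32 e.2.2.2.2 := by
        rw [Bool.eq_iff_iff, List.any_eq_true]
        constructor
        · rintro ⟨f, hf, h⟩
          simp only [Bool.and_eq_true, beq_iff_eq] at h
          have hu := List.all_eq_true.1 (List.all_eq_true.1 meet_unique f hf) e he
          simp only [h.1, beq_self_eq_true, Bool.not_true, Bool.false_or, beq_iff_eq] at hu
          rw [← hu]; exact h.2
        · exact fun h => ⟨e, he, by simp [h]⟩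
      rw [hany]
      cases hb : bb 32 e.2.2.2.2
      · rw [if_neg (by simp)]
        haveI : IsEmpty {x : G // x * x = 1 ∧ Acts z Q p x e.1 ∧ z ∈ Subgroup.zpowers (x * t)} :=
          ⟨fun x => by
            have := (hcrit x.1 x.2.1 x.2.2.1).1 x.2.2.2
            rw [hb] at this
            exact Bool.noConfusion this⟩
        exact Nat.card_of_isEmpty
      · rw [if_pos rfl, ← F.card_lifts hA]
        exact Nat.card_congr (Equiv.subtypeEquivRight fun x =>
          ⟨fun h => ⟨h.1, h.2.1⟩, fun h => ⟨h.1, h.2, (hcrit x h.1 h.2).2 hb⟩⟩)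
    · rw [if_neg h4] at hr ⊢
      rw [Bool.not_eq_true] at h4
      rw [← F.card_lifts hA]
      exact Nat.card_congr (Equiv.subtypeEquivRight fun x =>
        ⟨fun h => ⟨h.1, h.2.1⟩, fun h => ⟨h.1, h.2, F.case_six hR htt hA h.2 h.1 h2 h4⟩⟩)

/-- The partners of the standard far involution. -/
theorem card_partners_z :
    Nat.card {x : G // IsConj z x ∧ z ∈ Subgroup.zpowers (x * t)} = 236 := by
  classical
  haveI := Fintype.ofFinite G
  have htA := F.rep_acts hR
  have hsq : ∀ {x : G}, IsConj z x → x * x = 1 ∧ x ≠ 1 := by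
    intro x hx
    obtain ⟨c, rfl⟩ := isConj_iff.1 hx
    exact ⟨conj_sq_one F.sys.large.mul_self_z c, fun e => F.sys.large.z_ne_one (conj_eq_one_iff.1 e)⟩
  set S := (Finset.univ : Finset G).filter fun x => IsConj z x ∧ z ∈ Subgroup.zpowers (x * t) with hS
  set L := vecs fun n => !qb n && ((fixB (rho 16) n && bb 32 n) ||
    (!(fixB (rho 16) n) && qb (n ^^^ app (rho 16) n))) with hL
  have hin : (S.filter fun x => x ∈ Q).card = 36 := by
    have hLm : ∀ {n : Nat}, n ∈ L → n < 64 ∧ qb n = false ∧ n ≠ 0 ∧ ((fixB (rho 16) n && bb 32 n) ||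
        (!(fixB (rho 16) n) && qb (n ^^^ app (rho 16) n))) = true := fun {n} hn => by
      have := List.mem_filter.1 hn
      rw [List.mem_range, Bool.and_eq_true, Bool.not_eq_true'] at this
      refine ⟨this.1, this.2.1, fun e => ?_, this.2.2⟩
      subst e
      exact absurd this.2.2 (by decide +kernel)
    let f : ↥L.toFinset × Bool → G := fun d => aOf Q p d.1 * sg z d.2
    have hinj : Function.Injective f := by
      rintro ⟨⟨n, hn⟩, i⟩ ⟨⟨m, hm⟩, j⟩ e1
      change aOf Q p n * sg z i = aOf Q p m * sg z j at e1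
      obtain ⟨g1, g2⟩ := F.aOf_spec (hLm (List.mem_toFinset.1 hn)).1
      obtain ⟨g3, g4⟩ := F.aOf_spec (hLm (List.mem_toFinset.1 hm)).1
      have e2 := congrArg p e1
      rw [F.sys.map_mul _ g1 _ (F.sys.sg_mem _), F.sys.map_mul _ g3 _ (F.sys.sg_mem _), g2, g4, F.sys.p_sg,
        F.sys.p_sg, Nat.xor_zero, Nat.xor_zero] at e2
      subst e2
      exact Prod.ext rfl (F.sys.sg_inj (mul_left_cancel e1))
    have himg : (Finset.univ : Finset (↥L.toFinset × Bool)).image f = S.filter fun x => x ∈ Q := by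
      ext x
      simp only [hS, Finset.mem_image, Finset.mem_univ, true_and, Finset.mem_filter]
      constructor
      · rintro ⟨⟨⟨n, hn⟩, i⟩, rfl⟩
        obtain ⟨h1, h2, h3, h4⟩ := hLm (List.mem_toFinset.1 hn)
        obtain ⟨g1, g2⟩ := F.aOf_spec h1
        have hmQ := Q.mul_mem g1 (F.sys.sg_mem i)
        have hp : p (f (⟨n, hn⟩, i)) = n := by
          show p (aOf Q p n * sg z i) = n
          rw [F.sys.map_mul _ g1 _ (F.sys.sg_mem _), g2, F.sys.p_sg, Nat.xor_zero]
        have hxx : f (⟨n, hn⟩, i) * f (⟨n, hn⟩, i) = 1 := by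
          show aOf Q p n * sg z i * (aOf Q p n * sg z i) = 1
          rw [F.sys.sq _ hmQ, show p (aOf Q p n * sg z i) = n from hp, h2]
          rfl
        exact ⟨⟨F.mem_type hmQ hxx fun e => h3 (by rw [← hp, show f (⟨n, hn⟩, i) = 1 from e, F.sys.p_one]),
          (F.case_inner hR htt hmQ hxx).2 (by rw [show p (aOf Q p n * sg z i) = n from hp]; exact h4)⟩, hmQ⟩
      · rintro ⟨⟨hz', hgood⟩, hxQ⟩
        obtain ⟨hxx, -⟩ := hsq hz'
        have hc := (F.case_inner hR htt hxQ hxx).1 hgood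
        have hq : qb (p x) = false := F.sys.sg_inj ((F.sys.sq x hxQ).symm.trans hxx)
        obtain ⟨g1, g2⟩ := F.aOf_spec (F.sys.lt x hxQ)
        obtain ⟨i, ei⟩ := F.sys.eq_of_p g1 hxQ g2
        refine ⟨(⟨p x, List.mem_toFinset.2 (List.mem_filter.2 ⟨List.mem_range.2 (F.sys.lt x hxQ), ?_⟩)⟩, i), ei.symm⟩
        rw [Bool.and_eq_true, Bool.not_eq_true']
        exact ⟨hq, hc⟩
    rw [← himg, Finset.card_image_of_injective _ hinj, Finset.card_univ, Fintype.card_prod, Fintype.card_coe,
      List.toFinset_card_of_nodup (show L.Nodup from List.nodup_range.filter _), qcase]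
    rfl
  have hout : S.filter (fun x => x ∉ Q) = (nearList.map Prod.fst).toFinset.biUnion fun A =>
      (Finset.univ : Finset G).filter fun x => x * x = 1 ∧ Acts z Q p x A ∧ z ∈ Subgroup.zpowers (x * t) := by
    ext x
    simp only [hS, Finset.mem_biUnion, Finset.mem_filter, Finset.mem_univ, true_and, List.mem_toFinset]
    constructor
    · rintro ⟨⟨hz', hgood⟩, hxQ⟩
      obtain ⟨hxx, -⟩ := hsq hz'
      have hxz := (commute_pair_general F.sys.large.mul_self_z hxx htt hgood).1
      obtain ⟨A, hA, hxA⟩ := F.sys.exists_acts hxz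
      exact ⟨A, (F.near_iff hxx hxQ hA.1 hxA).1 hz', hxx, hxA, hgood⟩
    · rintro ⟨A, hA, hxx, hxA, hgood⟩
      exact ⟨⟨F.isConj_of_near hA hxA hxx, hgood⟩, F.sys.not_mem_of_acts (length_near hA) hxA
        ((show ∀ B ∈ nearList.map Prod.fst, B ≠ one by decide +kernel) A hA)⟩
  have hdisj : (↑(nearList.map Prod.fst).toFinset : Set (List Nat)).PairwiseDisjoint fun A =>
      (Finset.univ : Finset G).filter fun x => x * x = 1 ∧ Acts z Q p x A ∧ z ∈ Subgroup.zpowers (x * t) := by
    intro A hA B hB hne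
    simp only [Finset.mem_coe, List.mem_toFinset] at hA hB
    refine Finset.disjoint_left.2 fun x h1 h2 => hne ?_
    exact F.sys.acts_unique (length_near hA) (length_near hB) (Finset.mem_filter.1 h1).2.2.1
      (Finset.mem_filter.1 h2).2.2.1
  rw [Nat.card_eq_fintype_card, Fintype.card_subtype]
  change S.card = 236
  rw [← Finset.card_filter_add_card_filter_not (s := S) fun x => x ∈ Q, hin, hout, Finset.card_biUnion hdisj,
    Finset.sum_congr rfl (g := nearVal) fun A hA => ?_, List.sum_toFinset _ nearList_len.1, near_sum]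
  rw [← F.card_good hR htt (List.mem_toFinset.1 hA), Nat.card_eq_fintype_card, Fintype.card_subtype]

end Frame

namespace Four

variable {t v : G} (W : Four z Q p k t v)
include W

theorem card_pairs_z : Nat.card (CfsgLib.Signalizer.ClassPairs z t z) = 6480 * 236 := by
  classical
  have F := W.frame
  obtain ⟨t0, hR, hT, -⟩ := F.exists_tdata
  haveI := Fintype.ofFinite {y : G // IsT z y ∧ Commute y z}
  -- the far involutions of the centralizer of `z`
  have hcount : Nat.card {y : G // IsT z y ∧ Commute y z} = 6480 := by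
    let φ : Subgroup.centralizer ({z} : Set G) → {y : G // IsT z y ∧ Commute y z} := fun c =>
      ⟨(c : G) * t * (c : G)⁻¹, W.isT_t.conj c, by
        have hc : Commute (c : G) z := mem_centralizer_singleton_iff'.1 c.2
        exact (hc.mul_left W.acts_t.1).mul_left hc.inv_left⟩
    have hfib : ∀ y, Nat.card {c // φ c = y} = 512 := by
      rintro ⟨y, hy, hyz⟩
      obtain ⟨h, h1, h2⟩ := W.exists_move (IsConj.refl z) hy hyz.symm
      have hhz : Commute h z := mul_inv_eq_iff_eq_mul.1 h1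
      refine (Nat.card_congr ?_).trans W.card_far
      refine
        { toFun := fun c => ⟨h * (c.1 : G), W.mem_D.2 ⟨hhz.mul_left (mem_centralizer_singleton_iff'.1 c.1.2),
            mul_inv_eq_iff_eq_mul.1 ?_⟩⟩
          invFun := fun d => ⟨⟨h⁻¹ * (d : G), mem_centralizer_singleton_iff'.2
            (hhz.inv_left.mul_left (W.mem_D.1 d.2).1)⟩, Subtype.ext ?_⟩
          left_inv := fun c => Subtype.ext (Subtype.ext (inv_mul_cancel_left h _))
          right_inv := fun d => Subtype.ext (mul_inv_cancel_left h _) }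
      · have e : (c.1 : G) * t * (c.1 : G)⁻¹ = y := congrArg Subtype.val c.2
        rw [show h * (c.1 : G) * t * (h * (c.1 : G))⁻¹ = h * ((c.1 : G) * t * (c.1 : G)⁻¹) * h⁻¹ by group, e, h2]
      · show h⁻¹ * (d : G) * t * (h⁻¹ * (d : G))⁻¹ = y
        rw [show h⁻¹ * (d : G) * t * (h⁻¹ * (d : G))⁻¹ = h⁻¹ * ((d : G) * t * (d : G)⁻¹) * h by group,
          (W.mem_D.1 d.2).2.eq, mul_inv_cancel_right, ← h2]
        group
    have h := Nat.card_congr (Equiv.sigmaFiberEquiv φ)
    rw [Nat.card_sigma, Finset.sum_congr rfl fun y _ => hfib y, Finset.sum_const, smul_eq_mul, Finset.card_univ,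
      ← Nat.card_eq_fintype_card, F.sys.cardC] at h
    omega
  have hfib : ∀ y : {y : G // IsT z y ∧ Commute y z},
      Nat.card {u : G // IsConj z u ∧ z ∈ Subgroup.zpowers (u * y)} = 236 := by
    rintro ⟨y, hy, hyz⟩
    obtain ⟨c, hcz, hcy⟩ := F.conjC_of_isT hR hT.1 hy hyz
    rw [← F.card_partners_z hR hT.1]
    refine Nat.card_congr ((MulAut.conj c).toEquiv.subtypeEquiv fun u => ?_).symm
    show _ ↔ IsConj z (c * u * c⁻¹) ∧ z ∈ Subgroup.zpowers (c * u * c⁻¹ * y)
    refine and_congr ⟨fun e => e.trans (isConj_iff.2 ⟨c, rfl⟩), fun e => e.trans (isConj_iff.2 ⟨c, rfl⟩).symm⟩ ?_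
    rw [← hcy, show c * u * c⁻¹ * (c * t0 * c⁻¹) = c * (u * t0) * c⁻¹ by group]
    conv_rhs => rw [show z = c * z * c⁻¹ by rw [hcz.eq, mul_inv_cancel_right]]
    rw [Subgroup.mem_zpowers_iff, Subgroup.mem_zpowers_iff]
    simp only [conj_zpow, mul_left_inj, mul_right_inj]
  have hsq : ∀ {g y : G}, g * g = 1 → IsConj g y → y * y = 1 := fun {g y} hg hy => by
    obtain ⟨c, rfl⟩ := isConj_iff.1 hy
    exact conj_sq_one hg c
  let e : CfsgLib.Signalizer.ClassPairs z t z ≃
      Σ y : {y : G // IsT z y ∧ Commute y z}, {u : G // IsConj z u ∧ z ∈ Subgroup.zpowers (u * (y : G))} :=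
    { toFun := fun q => ⟨⟨q.1.2,
        (by obtain ⟨c, hc⟩ := isConj_iff.1 q.2.2.1; rw [← hc]; exact W.isT_t.conj c),
        (commute_pair_general F.sys.large.mul_self_z (hsq F.sys.large.mul_self_z q.2.1) (hsq W.sq_t q.2.2.1)
          q.2.2.2).2⟩, ⟨q.1.1, q.2.1, q.2.2.2⟩⟩
      invFun := fun s => ⟨(s.2.1, s.1.1), s.2.2.1, W.isConj_t s.1.2.1, s.2.2.2⟩
      left_inv := fun q => rfl
      right_inv := fun s => rfl }
  rw [Nat.card_congr e, Nat.card_sigma, Finset.sum_congr rfl fun y _ => hfib y, Finset.sum_const, smul_eq_mul,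
    Finset.card_univ, ← Nat.card_eq_fintype_card, hcount]

/-- The order of the group. -/
theorem card_group : Nat.card G = 448345497600 := by
  have hall : ∀ x : G, orderOf x = 2 → IsConj z x ∨ IsConj t x := fun x hx => by
    by_cases h : IsConj z x
    · exact Or.inl h
    · exact Or.inr (W.isConj_t ⟨by rw [← pow_two, ← hx, pow_orderOf_eq_one],
        fun e => by rw [e, orderOf_one] at hx; norm_num at hx, h⟩)
  rw [CfsgLib.Signalizer.thompson_order_formula z t W.orderOf_z W.orderOf_t W.isT_t.2.2 hall,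
    W.card_K, W.card_pairs_z, W.frame.sys.cardC, W.card_pairs_t]
  norm_num

end Four

end CfsgLib.LocalEvenB.SuzType
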