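import Cfsg.Agent.Lib.LocalEvenB.SuzType.Locals.FiveQuot
import Cfsg.Agent.Lib.LocalEvenB.SuzType.Locals.PairNear

/-!
The normalizer of a Sylow 5-subgroup and the classes of subgroups of order five (owner: helper8).
-/

set_option autoImplicit false
set_option linter.unusedSectionVars false
set_option linter.unusedVariables false
set_option linter.style.haveILetI false
set_option maxRecDepth 100000
set_option quotPrecheck false
set_option Elab.async false

namespace CfsgLib.LocalEvenB.SuzType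

open CfsgLib.ThreeTrans
open CfsgLib.CIT (cj mem_cj cj_mul cj_one card_cj mem_normalizer_iff_cj cj_inv_cj cj_cj_inv)

variable {G : Type*} [Group G] [Finite G]

theorem cj_zpowers (g y : G) : cj g (Subgroup.zpowers y) = Subgroup.zpowers (g * y * g⁻¹) := by
  rw [cj, MonoidHom.map_zpowers]
  rfl

theorem zpowers_eq_of_mem {y w : G} {A : Subgroup G} (hA : Nat.card A = 5) (hw : w ∈ A) (hw1 : w ≠ 1) :
    Subgroup.zpowers w = A := by
  haveI : Fact (Nat.Prime 5) := ⟨by norm_num⟩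
  refine Subgroup.eq_of_le_of_card_ge (Subgroup.zpowers_le.2 hw) ?_
  have h : orderOf w ∣ 5 := hA ▸ Subgroup.orderOf_dvd_natCard _ hw
  rw [hA, Nat.card_zpowers, ((Nat.dvd_prime (by norm_num)).1 h).resolve_left (fun e => hw1 (orderOf_eq_one_iff.1 e))]

theorem exists_gen {A : Subgroup G} (hA : Nat.card A = 5) : ∃ a, orderOf a = 5 ∧ Subgroup.zpowers a = A := by
  haveI : Fact (Nat.Prime 5) := ⟨by norm_num⟩
  obtain ⟨a, ha⟩ := exists_prime_orderOf_dvd_card' (G := A) 5 (by rw [hA])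
  refine ⟨a, by rw [Subgroup.orderOf_coe, ha], zpowers_eq_of_mem (y := (a : G)) hA a.2 fun e => ?_⟩
  rw [show a = 1 from Subtype.ext e, orderOf_one] at ha
  norm_num at ha

/-- An element of order three fixing a line centralizes it. -/
theorem commute_of_fix_line {d a : G} {A : Subgroup G} (hA : Nat.card A = 5) (hd : d ^ 3 = 1) (hfix : cj d A = A)
    (ha : a ∈ A) : Commute d a := by
  haveI : Fact (Nat.Prime 5) := ⟨by norm_num⟩
  have hdN : d ∈ Subgroup.normalizer (A : Set G) := mem_normalizer_iff_cj.2 hfix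
  haveI : IsCyclic A := isCyclic_of_prime_card hA
  set m := A.normalizerMonoidHom ⟨d, hdN⟩ with hm
  have h1 : orderOf m ∣ 4 := by
    have := orderOf_dvd_natCard m
    rwa [IsCyclic.card_mulAut, hA, Nat.totient_prime (by norm_num)] at this
  have h2 : orderOf m ∣ 3 := orderOf_dvd_of_pow_eq_one (by
    rw [hm, ← map_pow, show (⟨d, hdN⟩ : Subgroup.normalizer (A : Set G)) ^ 3 = 1 from Subtype.ext hd, map_one])
  have h3 : (⟨d, hdN⟩ : Subgroup.normalizer (A : Set G)) ∈ A.normalizerMonoidHom.ker :=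
    orderOf_eq_one_iff.1 (Nat.eq_one_of_dvd_coprimes (by norm_num) h2 h1)
  rw [Subgroup.normalizerMonoidHom_ker] at h3
  exact (Subgroup.mem_centralizer_iff.1 (Subgroup.mem_subgroupOf.1 h3) a ha).symm

/-- Two lines of an abelian group of order 25. -/
theorem two_lines {P A B : Subgroup G} (hP : Nat.card P = 25) (hAP : A ≤ P) (hBP : B ≤ P) (hA : Nat.card A = 5)
    (hB : Nat.card B = 5) (hne : A ≠ B) : ∀ c ∈ P, ∃ a ∈ A, ∃ b ∈ B, c = a * b := by
  haveI : Fact (Nat.Prime 5) := ⟨by norm_num⟩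
  haveI := IsPGroup.isMulCommutative_of_card_eq_prime_sq (show Nat.card P = 5 ^ 2 from hP)
  let f : A × B →* G := MonoidHom.noncommCoprod A.subtype B.subtype fun a b =>
    (congrArg Subtype.val (mul_comm' (⟨a, hAP a.2⟩ : P) ⟨b, hBP b.2⟩) :)
  have hinj : Function.Injective f := by
    rw [← MonoidHom.ker_eq_bot_iff, Subgroup.eq_bot_iff_forall]
    rintro ⟨a, b⟩ h
    have h' : (a : G) * b = 1 := h
    by_cases ha : (a : G) = 1
    · rw [ha, one_mul] at h'
      exact Prod.ext (Subtype.ext ha) (Subtype.ext h')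
    · exfalso
      refine hne ((zpowers_eq_of_mem (y := (a : G)) hA a.2 ha).symm.trans (zpowers_eq_of_mem (y := (a : G)) hB ?_ ha))
      rw [eq_inv_of_mul_eq_one_left h']
      exact B.inv_mem b.2
  have hle : f.range ≤ P := by
    rintro _ ⟨⟨a, b⟩, rfl⟩
    exact P.mul_mem (hAP a.2) (hBP b.2)
  have heq : f.range = P := Subgroup.eq_of_le_of_card_ge hle (by
    rw [← Nat.card_congr (MonoidHom.ofInjective hinj).toEquiv, Nat.card_prod, hA, hB, hP])
  intro c hc
  obtain ⟨⟨a, b⟩, rfl⟩ := heq.ge hc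
  exact ⟨a, a.2, b, b.2, rfl⟩

/-- An automorphism fixing three lines of a group of order 25 is a power map. -/
theorem exists_scalar {P A B C : Subgroup G} (hP : Nat.card P = 25) (hAP : A ≤ P) (hBP : B ≤ P) (hCP : C ≤ P)
    (hA : Nat.card A = 5) (hB : Nat.card B = 5) (hC : Nat.card C = 5) (hAB : A ≠ B) (hAC : A ≠ C) (hBC : B ≠ C)
    {n : G} (hfA : cj n A = A) (hfB : cj n B = B) (hfC : cj n C = C) : ∃ i : ℤ, ∀ c ∈ P, n * c * n⁻¹ = c ^ i := by
  haveI : Fact (Nat.Prime 5) := ⟨by norm_num⟩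
  haveI := IsPGroup.isMulCommutative_of_card_eq_prime_sq (show Nat.card P = 5 ^ 2 from hP)
  have hcomm : ∀ u ∈ P, ∀ w ∈ P, Commute u w := fun u hu w hw =>
    (congrArg Subtype.val (mul_comm' (⟨u, hu⟩ : P) ⟨w, hw⟩) :)
  obtain ⟨c, hc5, hcC⟩ := exists_gen hC
  have hc1 : c ≠ 1 := fun e => by rw [e, orderOf_one] at hc5; norm_num at hc5
  have hcmem : c ∈ C := hcC ▸ Subgroup.mem_zpowers c
  obtain ⟨a, ha, b, hb, hcab⟩ := two_lines hP hAP hBP hA hB hAB c (hCP hcmem)
  have ha1 : a ≠ 1 := fun e => hBC ((zpowers_eq_of_mem (y := c) hB (by rw [hcab, e, one_mul]; exact hb) hc1).symm.trans hcC)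
  have hb1 : b ≠ 1 := fun e => hAC ((zpowers_eq_of_mem (y := c) hA (by rw [hcab, e, mul_one]; exact ha) hc1).symm.trans hcC)
  have hconj : ∀ {S : Subgroup G} {u : G}, Nat.card S = 5 → cj n S = S → u ∈ S → u ≠ 1 → ∃ i : ℤ, n * u * n⁻¹ = u ^ i :=
    fun {S u} hS hfS hu hu1 => by
      have h : n * u * n⁻¹ ∈ S := hfS ▸ CfsgLib.CIT.conj_mem_cj.2 hu
      rw [← zpowers_eq_of_mem (y := u) hS hu hu1] at h
      obtain ⟨i, hi⟩ := Subgroup.mem_zpowers_iff.1 h
      exact ⟨i, hi.symm⟩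
  obtain ⟨l, hl⟩ := hconj hA hfA ha ha1
  obtain ⟨m, hm⟩ := hconj hB hfB hb hb1
  obtain ⟨i, hi⟩ := hconj hC hfC hcmem hc1
  have e : a ^ l * b ^ m = a ^ i * b ^ i := by
    rw [← (hcomm a (hAP ha) b (hBP hb)).mul_zpow, ← hl, ← hm, ← hcab, ← hi, hcab]
    group
  have hinter : ∀ u, u ∈ A → u ∈ B → u = 1 := fun u h1 h2 => by
    by_contra hu
    exact hAB ((zpowers_eq_of_mem (y := u) hA h1 hu).symm.trans (zpowers_eq_of_mem (y := u) hB h2 hu))
  have e2 : (a ^ i)⁻¹ * a ^ l = b ^ i * (b ^ m)⁻¹ := by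
    rw [eq_mul_inv_iff_mul_eq, mul_assoc, e, inv_mul_cancel_left]
  have h1 : (a ^ i)⁻¹ * a ^ l = 1 := hinter _ (A.mul_mem (A.inv_mem (A.zpow_mem ha i)) (A.zpow_mem ha l))
    (e2 ▸ B.mul_mem (B.zpow_mem hb i) (B.inv_mem (B.zpow_mem hb m)))
  have h2 : b ^ i = b ^ m := mul_inv_eq_one.1 (e2.symm.trans h1)
  rw [inv_mul_eq_one] at h1
  refine ⟨i, fun u hu => ?_⟩
  obtain ⟨a', ha', b', hb', rfl⟩ := two_lines hP hAP hBP hA hB hAB u hu
  have hpow : ∀ {S : Subgroup G} {w w' : G}, Nat.card S = 5 → w ∈ S → w ≠ 1 → w' ∈ S → n * w * n⁻¹ = w ^ i →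
      n * w' * n⁻¹ = w' ^ i := fun {S w w'} hS hw hw1 hw' hwi => by
    rw [← zpowers_eq_of_mem (y := w) hS hw hw1] at hw'
    obtain ⟨j, rfl⟩ := Subgroup.mem_zpowers_iff.1 hw'
    rw [← conj_zpow, hwi, ← zpow_mul, ← zpow_mul, mul_comm]
  rw [(hcomm a' (hAP ha') b' (hBP hb')).mul_zpow, ← hpow hA ha ha1 ha' (hl.trans h1.symm),
    ← hpow hB hb hb1 hb' (hm.trans h2.symm)]
  group

namespace Four

variable {z : G} {Q : Subgroup G} {p : G → Nat} {k t v : G} (W : Four z Q p k t v)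
include W

/-- An element of order five of the first kind. -/
theorem exists_first_five : ∃ x : G, orderOf x = 5 ∧ Commute x z ∧
    (∀ i, i * i = 1 → i ≠ 1 → Commute i x → IsConj z i) ∧
    Nat.card (Subgroup.centralizer ({x} : Set G)) = 1800 ∧
    Nat.card (Subgroup.centralizer ({z} : Set G) ⊓ Subgroup.centralizer ({x} : Set G) : Subgroup G) = 40 ∧
    ∀ P : Subgroup G, Nat.card P = 25 → x ∈ P → (∀ g : G, (∀ a ∈ P, Commute g a) → g ∈ P) ∧
      Nat.card (Subgroup.normalizer (P : Set G) ⊓ Subgroup.centralizer ({x} : Set G) : Subgroup G) = 50 := by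
  obtain ⟨b, β, R⟩ := W.frame.exists_pair
  obtain ⟨x, hA, hH, h5⟩ := R.exists_five
  have F := W.frame
  have hxz : Commute x z := (R.mem_levi.1 hH).1
  refine ⟨x, h5, hxz, fun i hii hi1 hix => ?_, R.card_cent_five hA hH h5 W.card_group, ?_,
    fun P hP hxP => R.five_sylow hA hH h5 W.card_group hP hxP⟩
  · obtain ⟨g, -, hg⟩ := R.five_fused hA hH h5 hii hi1 hix
    exact isConj_iff.2 ⟨g, hg⟩
  set L := Subgroup.zpowers x with hL
  set D := (Q ⊓ Subgroup.centralizer ({x} : Set G) : Subgroup G) with hD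
  let f : L × D →* G := MonoidHom.noncommCoprod L.subtype D.subtype fun a d => by
    obtain ⟨j, hj⟩ := Subgroup.mem_zpowers_iff.1 a.2
    show Commute (a : G) (d : G)
    rw [← hj]
    exact (Commute.zpow_right (mem_centralizer_singleton_iff'.1 (Subgroup.mem_inf.1 d.2).2) j).symm
  have hinj : Function.Injective f := by
    rw [← MonoidHom.ker_eq_bot_iff, Subgroup.eq_bot_iff_forall]
    rintro ⟨a, d⟩ h
    have h' : (a : G) * d = 1 := h
    have k1 : orderOf (a : G) ∣ 5 := h5 ▸ orderOf_dvd_of_mem_zpowers a.2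
    have k2 : orderOf (a : G) ∣ 8 := by
      rw [eq_inv_of_mul_eq_one_left h', orderOf_inv, ← R.card_five_q hA hH h5]
      exact Subgroup.orderOf_dvd_natCard _ d.2
    have ha : (a : G) = 1 := orderOf_eq_one_iff.1 (Nat.eq_one_of_dvd_coprimes (by norm_num) k1 k2)
    rw [ha, one_mul] at h'
    exact Prod.ext (Subtype.ext ha) (Subtype.ext h')
  have hrange : f.range = (Subgroup.centralizer ({z} : Set G) ⊓ Subgroup.centralizer ({x} : Set G) : Subgroup G) := by
    ext c
    rw [Subgroup.mem_inf, mem_centralizer_singleton_iff', mem_centralizer_singleton_iff']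
    constructor
    · rintro ⟨⟨a, d⟩, rfl⟩
      obtain ⟨j, hj⟩ := Subgroup.mem_zpowers_iff.1 a.2
      obtain ⟨hdQ, hdx⟩ := Subgroup.mem_inf.1 d.2
      show Commute ((a : G) * d) z ∧ Commute ((a : G) * d) x
      rw [← hj]
      exact ⟨(hxz.zpow_left j).mul_left (F.sys.large.commute_z hdQ),
        ((Commute.refl x).zpow_left j).mul_left (mem_centralizer_singleton_iff'.1 hdx)⟩
    · rintro ⟨hcz, hcx⟩
      obtain ⟨i, q, hq, hqx, rfl⟩ := R.five_cent hA hH h5 hcz hcx
      exact ⟨(⟨x ^ i, Subgroup.pow_mem _ (Subgroup.mem_zpowers x) i⟩,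
        ⟨q, Subgroup.mem_inf.2 ⟨hq, mem_centralizer_singleton_iff'.2 hqx⟩⟩), rfl⟩
  rw [← hrange, ← Nat.card_congr (MonoidHom.ofInjective hinj).toEquiv, Nat.card_prod, hL, Nat.card_zpowers, h5,
    R.card_five_q hA hH h5]

/-- All powers are realized in the centralizer of `z`. -/
theorem exists_power_conj {x : G} (hx5 : orderOf x = 5) (hxz : Commute x z)
    (h40 : Nat.card (Subgroup.centralizer ({z} : Set G) ⊓ Subgroup.centralizer ({x} : Set G) : Subgroup G) = 40)
    {w : G} (hw : w ∈ Subgroup.zpowers x) (hw1 : w ≠ 1) : ∃ g, g * x * g⁻¹ = w := by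
  classical
  haveI : Fact (Nat.Prime 5) := ⟨by norm_num⟩
  set C := Subgroup.centralizer ({z} : Set G) with hC
  set L := Subgroup.zpowers x with hL
  set x' : C := ⟨x, mem_centralizer_singleton_iff'.2 hxz⟩ with hx'
  have hLC : L ≤ C := Subgroup.zpowers_le.2 (mem_centralizer_singleton_iff'.2 hxz)
  have hx5' : orderOf x' = 5 := by rw [hx', Subgroup.orderOf_mk, hx5]
  have hLx : L.subgroupOf C = Subgroup.zpowers x' := by
    refine Subgroup.map_injective C.subtype_injective ?_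
    rw [Subgroup.map_subgroupOf_eq_of_le hLC, MonoidHom.map_zpowers]
    rfl
  have hc : Nat.card (Subgroup.centralizer ({x'} : Set C)) = 40 := by
    rw [← h40, ← Nat.card_congr (Subgroup.subgroupOfEquivOfLe (inf_le_left : C ⊓ Subgroup.centralizer ({x} : Set G) ≤ C)).toEquiv,
      Subgroup.inf_subgroupOf_left]
    refine Nat.card_congr (Equiv.subtypeEquivRight fun g => ?_)
    rw [Subgroup.mem_subgroupOf, mem_centralizer_singleton_iff', mem_centralizer_singleton_iff', Subtype.ext_iff]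
    rfl
  obtain ⟨m, hm, hm'⟩ := FiveAux.exists_card_normalizer hx5'
  rw [hc] at hm'
  let S : Sylow 5 C := Sylow.ofCard (Subgroup.zpowers x') (by
    rw [Nat.card_zpowers, hx5', W.frame.sys.cardC, show (2 : ℕ) ^ 7 * 25920 = 5 ^ 1 * 663552 from rfl,
      Nat.factorization_mul (by norm_num) (by norm_num), Finsupp.add_apply,
      Nat.Prime.factorization_pow (by norm_num : Nat.Prime 5), Finsupp.single_eq_same,
      Nat.factorization_eq_zero_of_not_dvd (by norm_num)]
    norm_num)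
  have hn := card_sylow_modEq_one 5 C
  rw [S.card_eq_index_normalizer] at hn
  replace hn : (Subgroup.normalizer ((Subgroup.zpowers x' : Subgroup C) : Set C)).index ≡ 1 [MOD 5] := hn
  have hmul := (Subgroup.normalizer ((Subgroup.zpowers x' : Subgroup C) : Set C)).card_mul_index
  rw [W.frame.sys.cardC, hm'] at hmul
  have hm4 : m = 4 := by
    unfold Nat.ModEq at hn
    generalize (Subgroup.normalizer ((Subgroup.zpowers x' : Subgroup C) : Set C)).index = n at hn hmul
    have hd : m ∈ Nat.divisors 4 := Nat.mem_divisors.2 ⟨hm, by norm_num⟩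
    rw [show Nat.divisors 4 = {1, 2, 4} by decide] at hd
    simp only [Finset.mem_insert, Finset.mem_singleton] at hd
    rcases hd with rfl | rfl | rfl <;> omega
  have hxC : x' ∈ Subgroup.centralizer ({x'} : Set C) := mem_centralizer_singleton_iff'.2 rfl
  obtain ⟨g, -, hg⟩ := FiveAux.exists_conj_eq hx5' (Subgroup.normalizer ((Subgroup.zpowers x' : Subgroup C) : Set C))
    le_rfl (by
      rw [hm', hm4, inf_eq_right.2 (show Subgroup.centralizer ({x'} : Set C) ≤
        Subgroup.normalizer ((Subgroup.zpowers x' : Subgroup C) : Set C) by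
          rw [← FiveAux.centralizer_zpowers_eq]
          exact Subgroup.centralizer_le_normalizer _), hc])
    (w := ⟨w, hLC hw⟩) (hLx ▸ Subgroup.mem_subgroupOf.2 hw) (fun e => hw1 (congrArg Subtype.val e))
  exact ⟨g, congrArg Subtype.val hg⟩

/-- An element of order five of the second kind commutes with a far involution. -/
theorem exists_second_five : ∃ y : G, orderOf y = 5 ∧ Commute y t := by
  haveI : Fact (Nat.Prime 5) := ⟨by norm_num⟩
  obtain ⟨y, hy⟩ := exists_prime_orderOf_dvd_card' (G := fourCent t v) 5 (by rw [W.card_J]; norm_num)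
  exact ⟨y, by rw [Subgroup.orderOf_coe, hy], (mem_fourCent.1 y.2).1⟩

/-- The Sylow 5-subgroups and the classes of subgroups of order five. -/
theorem five_main : ∃ (P : Sylow 5 G) (L M : Subgroup G),
    Nat.card L = 5 ∧ Nat.card M = 5 ∧ (∀ g : G, cj g L ≠ M) ∧
    (∀ A : Subgroup G, Nat.card A = 5 → A ≤ P → ∃ g, cj g A = L ∨ cj g A = M) ∧
    Nat.card (P : Subgroup G) = 25 ∧ Nat.card (Subgroup.normalizer ((P : Subgroup G) : Set G)) = 600 ∧
    Nonempty (↥(Subgroup.normalizer ((P : Subgroup G) : Set G)) ⧸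
      (P : Subgroup G).subgroupOf (Subgroup.normalizer ((P : Subgroup G) : Set G)) ≃*
      Multiplicative (ZMod 4) × Equiv.Perm (Fin 3)) := by
  classical
  haveI : Fact (Nat.Prime 5) := ⟨by norm_num⟩
  haveI : Fact (Nat.Prime 3) := ⟨Nat.prime_three⟩
  haveI : Fact (Nat.Prime 2) := ⟨Nat.prime_two⟩
  obtain ⟨x, hx5, hxz, hinv, hC1800, h40, hsyl⟩ := W.exists_first_five
  set L := Subgroup.zpowers x with hL
  have hL5 : Nat.card L = 5 := by rw [hL, Nat.card_zpowers, hx5]
  have hx1 : x ≠ 1 := fun e => by rw [e, orderOf_one] at hx5; norm_num at hx5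
  obtain ⟨P, hxP'⟩ := (IsPGroup.of_card (n := 1) (G := L) (by rw [hL5, pow_one])).exists_le_sylow
  have hxP : x ∈ (P : Subgroup G) := hxP' (Subgroup.mem_zpowers x)
  have hP25 : Nat.card (P : Subgroup G) = 25 := by
    rw [Sylow.card_eq_multiplicity, W.card_group, five_factorization]; norm_num
  obtain ⟨hself, h50⟩ := hsyl P hP25 hxP
  haveI := IsPGroup.isMulCommutative_of_card_eq_prime_sq (show Nat.card (P : Subgroup G) = 5 ^ 2 from hP25)
  have hcomm : ∀ u ∈ (P : Subgroup G), ∀ w ∈ (P : Subgroup G), Commute u w := fun u hu w hw =>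
    (congrArg Subtype.val (mul_comm' (⟨u, hu⟩ : (P : Subgroup G)) ⟨w, hw⟩) :)
  set N := Subgroup.normalizer ((P : Subgroup G) : Set G) with hN
  have hPN : (P : Subgroup G) ≤ N := Subgroup.le_normalizer
  have hPcj : ∀ {n : G}, n ∈ N → ∀ {A : Subgroup G}, A ≤ (P : Subgroup G) → cj n A ≤ (P : Subgroup G) :=
    fun {n} hn {A} hA => (CfsgLib.CIT.cj_mono hA).trans (mem_normalizer_iff_cj.1 hn).le
  -- the second kind
  obtain ⟨y0, hy5, hyt⟩ := W.exists_second_five
  obtain ⟨gy, hgy⟩ : ∃ g : G, g * y0 * g⁻¹ ∈ (P : Subgroup G) := by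
    obtain ⟨S, hS⟩ := (IsPGroup.of_card (n := 1) (G := Subgroup.zpowers y0)
      (by rw [Nat.card_zpowers, hy5, pow_one])).exists_le_sylow
    obtain ⟨g, rfl⟩ := MulAction.exists_smul_eq G S P
    exact ⟨g, y0, hS (Subgroup.mem_zpowers y0), rfl⟩
  set y := gy * y0 * gy⁻¹ with hy
  set M := Subgroup.zpowers y with hM
  have hy' : orderOf y = 5 := by rw [hy, ← MulAut.conj_apply, MulEquiv.orderOf_eq, hy5]
  have hM5 : Nat.card M = 5 := by rw [hM, Nat.card_zpowers, hy']
  have hMP : M ≤ (P : Subgroup G) := Subgroup.zpowers_le.2 hgy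
  have hnotconj : ∀ g : G, cj g L ≠ M := by
    intro g e
    set t' := g⁻¹ * (gy * t * gy⁻¹) * g with ht'
    have h1 : x ∈ Subgroup.zpowers (g⁻¹ * y * g) := by
      have : cj g⁻¹ M = L := by rw [← e, cj_inv_cj]
      rw [hM, cj_zpowers, inv_inv] at this
      rw [this]
      exact Subgroup.mem_zpowers x
    have h2 : Commute t' (g⁻¹ * y * g) := by
      have := (LargeData.commute_conj_iff' (g := g⁻¹ * gy)).2 hyt.symm
      rwa [show g⁻¹ * gy * t * (g⁻¹ * gy)⁻¹ = t' by rw [ht']; group,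
        show g⁻¹ * gy * y0 * (g⁻¹ * gy)⁻¹ = g⁻¹ * y * g by rw [hy]; group] at this
    obtain ⟨j, hj⟩ := Subgroup.mem_zpowers_iff.1 h1
    have h3 : Commute t' x := hj ▸ h2.zpow_right j
    have e' : t' = g⁻¹ * gy * t * (g⁻¹ * gy)⁻¹ := by rw [ht']; group
    have h4 := hinv t' (by rw [e']; exact conj_sq_one W.sq_t _) (by
      rw [e']; exact fun h => W.isT_t.2.1 (conj_eq_one_iff.1 h)) h3
    exact W.isT_t.2.2 (h4.trans (isConj_iff.2 ⟨g⁻¹ * gy, e'.symm⟩).symm)
  have hLM : L ≠ M := fun e => hnotconj 1 (by rw [cj_one, e])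
  -- the exponent and the six lines
  have hexp : ∀ u ∈ (P : Subgroup G), u ^ 5 = 1 := by
    intro u hu
    obtain ⟨a, ha, b, hb, rfl⟩ := two_lines hP25 hxP' hMP hL5 hM5 hLM u hu
    rw [(hcomm a (hxP' ha) b (hMP hb)).mul_pow, orderOf_dvd_iff_pow_eq_one.1 (hL5 ▸ Subgroup.orderOf_dvd_natCard _ ha),
      orderOf_dvd_iff_pow_eq_one.1 (hM5 ▸ Subgroup.orderOf_dvd_natCard _ hb), one_mul]
  set Λ := {A : Subgroup G // A ≤ (P : Subgroup G) ∧ Nat.card A = 5} with hΛ
  haveI : Finite Λ := by rw [hΛ]; infer_instance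
  have hΛ6 : Nat.card Λ = 6 := by
    haveI := Fintype.ofFinite Λ
    have h := Nat.card_congr (Equiv.ofBijective
      (fun a : (A : Λ) × {g : G // g ∈ A.1 ∧ g ≠ 1} =>
        (⟨a.2.1, a.1.2.1 a.2.2.1, a.2.2.2⟩ : {g : G // g ∈ (P : Subgroup G) ∧ g ≠ 1})) ⟨?_, ?_⟩)
    · rw [Nat.card_sigma, Finset.sum_congr rfl (g := fun _ => 4) (fun A _ => by rw [FiveAux.card_ne_one, A.2.2]),
        Finset.sum_const, Finset.card_univ, ← Nat.card_eq_fintype_card, FiveAux.card_ne_one, hP25, smul_eq_mul] at h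
      omega
    · rintro ⟨⟨A, hA⟩, g, hg⟩ ⟨⟨B, hB⟩, g', hg'⟩ e
      obtain rfl : g = g' := congrArg Subtype.val e
      obtain rfl : A = B := (zpowers_eq_of_mem (y := g) hA.2 hg.1 hg.2).symm.trans
        (zpowers_eq_of_mem (y := g) hB.2 hg'.1 hg'.2)
      rfl
    · rintro ⟨g, hg, hg1⟩
      have ho : orderOf g = 5 := ((Nat.dvd_prime (by norm_num)).1 (orderOf_dvd_of_pow_eq_one (hexp g hg))).resolve_left
        fun e => hg1 (orderOf_eq_one_iff.1 e)
      exact ⟨⟨⟨Subgroup.zpowers g, Subgroup.zpowers_le.2 hg, by rw [Nat.card_zpowers, ho]⟩,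
        g, Subgroup.mem_zpowers g, hg1⟩, rfl⟩
  -- the stabilizer of `L`
  set NL := Subgroup.normalizer (L : Set G) with hNL
  have hCxNL : Subgroup.centralizer ({x} : Set G) ≤ NL := by
    rw [← FiveAux.centralizer_zpowers_eq]
    exact Subgroup.centralizer_le_normalizer _
  have hreal : ∀ w ∈ L, w ≠ 1 → ∃ n ∈ N ⊓ NL, n * x * n⁻¹ = w := by
    intro w hw hw1
    obtain ⟨g, hg⟩ := W.exists_power_conj hx5 hxz h40 hw hw1
    have hgL : cj g L = L := by
      rw [hL, cj_zpowers, hg, zpowers_eq_of_mem (y := w) hL5 hw hw1]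
    set C := Subgroup.centralizer ({x} : Set G) with hC
    set P' := cj g (P : Subgroup G) with hP'
    have hP'25 : Nat.card P' = 25 := by rw [hP', card_cj, hP25]
    have hxP'' : x ∈ P' := (hgL.ge.trans (CfsgLib.CIT.cj_mono hxP')) (Subgroup.mem_zpowers x)
    haveI := IsPGroup.isMulCommutative_of_card_eq_prime_sq (show Nat.card P' = 5 ^ 2 from hP'25)
    have hPC : (P : Subgroup G) ≤ C := fun u hu => mem_centralizer_singleton_iff'.2 (hcomm u hu x hxP)
    have hP'C : P' ≤ C := fun u hu => mem_centralizer_singleton_iff'.2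
      (congrArg Subtype.val (mul_comm' (⟨u, hu⟩ : P') ⟨x, hxP''⟩))
    have hfac : (5 : ℕ) ^ (Nat.card C).factorization 5 = 25 := by
      rw [hC1800, show (1800 : ℕ) = 5 ^ 2 * 72 from rfl, Nat.factorization_mul (by norm_num) (by norm_num),
        Finsupp.add_apply, Nat.Prime.factorization_pow (by norm_num : Nat.Prime 5), Finsupp.single_eq_same,
        Nat.factorization_eq_zero_of_not_dvd (by norm_num)]
      norm_num
    let S1 : Sylow 5 C := Sylow.ofCard ((P : Subgroup G).subgroupOf C)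
      (by rw [hfac, Nat.card_congr (Subgroup.subgroupOfEquivOfLe hPC).toEquiv, hP25])
    let S2 : Sylow 5 C := Sylow.ofCard (P'.subgroupOf C)
      (by rw [hfac, Nat.card_congr (Subgroup.subgroupOfEquivOfLe hP'C).toEquiv, hP'25])
    obtain ⟨c, hc⟩ := MulAction.exists_smul_eq C S2 S1
    have hcx : Commute (c : G) x := mem_centralizer_singleton_iff'.1 c.2
    have hle : cj (c : G) P' ≤ (P : Subgroup G) := by
      intro u hu
      rw [mem_cj] at hu
      set u' : C := ⟨(c : G)⁻¹ * u * c, hP'C hu⟩ with hu'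
      have h1 : c * u' * c⁻¹ ∈ (S1 : Subgroup C) := by
        rw [← hc, Sylow.coe_subgroup_smul]
        exact ⟨u', Subgroup.mem_subgroupOf.2 hu, rfl⟩
      have h2 := Subgroup.mem_subgroupOf.1 (show c * u' * c⁻¹ ∈ (P : Subgroup G).subgroupOf C from h1)
      simpa [hu', mul_assoc] using h2
    have hnP : (c : G) * g ∈ N := mem_normalizer_iff_cj.2 (by
      rw [cj_mul]
      exact Subgroup.eq_of_le_of_card_ge hle (by rw [card_cj, hP'25, hP25]))
    refine ⟨c * g, Subgroup.mem_inf.2 ⟨hnP, mem_normalizer_iff_cj.2 ?_⟩, ?_⟩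
    · rw [cj_mul, hgL, hL, cj_zpowers, hcx.eq, mul_inv_cancel_right]
    · obtain ⟨j, hj⟩ := Subgroup.mem_zpowers_iff.1 hw
      calc (c : G) * g * x * ((c : G) * g)⁻¹ = (c : G) * (g * x * g⁻¹) * (c : G)⁻¹ := by group
        _ = w := by rw [hg, ← hj, (hcx.zpow_right j).eq, mul_inv_cancel_right]
  have h200 : Nat.card (N ⊓ NL : Subgroup G) = 200 := by
    rw [FiveAux.card_eq_orbit_mul (N ⊓ NL) x, inf_assoc, inf_eq_right.2 hCxNL, h50,
      Nat.card_congr (Equiv.subtypeEquivRight (q := fun w => w ∈ L ∧ w ≠ 1) fun w => ⟨?_, ?_⟩),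
      FiveAux.card_ne_one, hL5]
    · rintro ⟨n, hn, rfl⟩
      exact ⟨FiveAux.conj_mem_of_normalizer (Subgroup.mem_inf.1 hn).2 (Subgroup.mem_zpowers x),
        fun e => hx1 (conj_eq_one_iff.1 e)⟩
    · rintro ⟨hw, hw1⟩
      exact hreal w hw hw1
  -- the orbit of `L`
  set f : N → Λ := fun n => ⟨cj (n : G) L, hPcj n.2 hxP', by rw [card_cj, hL5]⟩ with hf
  have hfib : ∀ a b : N, f a = f b ↔ a⁻¹ * b ∈ (N ⊓ NL).subgroupOf N := by
    intro a b
    rw [Subgroup.mem_subgroupOf, Subgroup.mem_inf, Subgroup.coe_mul, Subgroup.coe_inv, hf, Subtype.mk.injEq]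
    constructor
    · intro e
      exact ⟨(a⁻¹ * b).2, mem_normalizer_iff_cj.2 (by rw [cj_mul, ← e, cj_inv_cj])⟩
    · rintro ⟨-, e⟩
      have e' := mem_normalizer_iff_cj.1 e
      rw [cj_mul] at e'
      conv_lhs => rw [← e']
      rw [cj_cj_inv]
  have hcardN : Nat.card N = Nat.card (Set.range f) * 200 := by
    rw [FiveAux.card_eq_card_range_mul f _ hfib, Nat.card_congr (Subgroup.subgroupOfEquivOfLe inf_le_left).toEquiv, h200]
  set O := Set.range f with hO
  set mM : Λ := ⟨M, hMP, hM5⟩ with hmM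
  have hMO : mM ∉ O := by
    rintro ⟨n, hn⟩
    exact hnotconj n (congrArg Subtype.val hn)
  have hO5 : O.ncard ≤ 5 := by
    have h1 := Set.ncard_insert_of_notMem hMO
    have h2 := Set.ncard_le_ncard (Set.subset_univ (insert mM O))
    rw [Set.ncard_univ, hΛ6] at h2
    omega
  rw [Nat.card_coe_set_eq] at hcardN
  have hn := card_sylow_modEq_one 5 G
  rw [P.card_eq_index_normalizer] at hn
  replace hn : N.index ≡ 1 [MOD 5] := hn
  have hmul := N.card_mul_index
  rw [W.card_group, hcardN] at hmul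
  have hO3 : O.ncard = 3 := by
    unfold Nat.ModEq at hn
    have hpos : 0 < O.ncard := (Set.ncard_pos (Set.toFinite O)).2 ⟨f 1, ⟨1, rfl⟩⟩
    generalize N.index = i at hn hmul
    generalize O.ncard = c at hO5 hpos hmul ⊢
    interval_cases c <;> omega
  have h600 : Nat.card N = 600 := by rw [hcardN, hO3]
  -- the other three lines
  obtain ⟨d', hd'⟩ := exists_prime_orderOf_dvd_card' (G := N) 3 (by rw [h600]; norm_num)
  set d : G := (d' : G) with hd
  have hd3 : d ^ 3 = 1 := by rw [hd, ← Subgroup.coe_pow, ← hd', pow_orderOf_eq_one, Subgroup.coe_one]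
  have hdP : d ∉ (P : Subgroup G) := fun h => by
    have h1 : orderOf d ∣ 25 := hP25 ▸ Subgroup.orderOf_dvd_natCard _ h
    rw [hd, Subgroup.orderOf_coe, hd'] at h1
    norm_num at h1
  let τ : Λ → Λ := fun A => ⟨cj d A.1, hPcj d'.2 A.2.1, by rw [card_cj, A.2.2]⟩
  have hτ3 : ∀ A, τ (τ (τ A)) = A := fun A => Subtype.ext (by
    show cj d (cj d (cj d A.1)) = A.1
    rw [← cj_mul, ← cj_mul, show d * d * d = d ^ 3 by rw [pow_succ, pow_two], hd3, cj_one])
  have hτO : ∀ A, τ A ∈ O ↔ A ∈ O := by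
    have h1 : ∀ A, A ∈ O → τ A ∈ O := by
      rintro _ ⟨n, rfl⟩
      exact ⟨d' * n, Subtype.ext (cj_mul d n L)⟩
    intro A
    refine ⟨fun h => ?_, h1 A⟩
    rw [← hτ3 A]
    exact h1 _ (h1 _ h)
  have hcompl : Oᶜ.ncard = 3 := by
    rw [Set.ncard_compl O (Set.toFinite O), hΛ6, hO3]
  have hMfix : τ mM ≠ mM := by
    intro e
    have hle : ∀ A ∈ Oᶜ, τ A = A := by
      intro A hA
      by_contra hne
      have hAM : A ≠ mM := fun h => hne (h ▸ e)
      have h2 : τ A ≠ mM := fun h => hne (by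
        have := congrArg (fun B => τ (τ B)) h
        rw [hτ3, e, e] at this
        rw [this, e])
      have h3 : τ (τ A) ≠ A := fun h => hne (by
        have := congrArg τ h
        rwa [hτ3, eq_comm] at this)
      have h4 : τ (τ A) ≠ mM := fun h => hAM (by rw [← hτ3 A, h, e])
      have h5 : τ (τ A) ≠ τ A := fun h => hne (by
        have := congrArg (fun B => τ (τ B)) h
        rwa [hτ3, hτ3] at this)
      have hsub : ((({mM, A, τ A, τ (τ A)} : Finset Λ)) : Set Λ) ⊆ Oᶜ := by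
        intro B hB
        simp only [Finset.coe_insert, Finset.coe_singleton, Set.mem_insert_iff, Set.mem_singleton_iff] at hB
        rcases hB with rfl | rfl | rfl | rfl
        exacts [hMO, hA, fun h => hA ((hτO A).1 h), fun h => hA ((hτO A).1 ((hτO _).1 h))]
      have h6 := Set.ncard_le_ncard hsub
      rw [Set.ncard_coe_finset, hcompl, Finset.card_insert_of_notMem (by simp [hAM.symm, h2.symm, h4.symm]),
        Finset.card_insert_of_notMem (by simp [Ne.symm hne, h3.symm]),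
        Finset.card_insert_of_notMem (by simp [h5.symm]), Finset.card_singleton] at h6
      omega
    obtain ⟨B, hB, hBM⟩ : ∃ B ∈ Oᶜ, B ≠ mM := by
      by_contra h
      push Not at h
      have h2 := Set.ncard_le_ncard (show Oᶜ ⊆ {mM} from fun B hB => h B hB)
      rw [hcompl, Set.ncard_singleton] at h2
      omega
    refine hdP (hself d fun u hu => ?_)
    obtain ⟨a, ha, b, hb, rfl⟩ :=
      two_lines hP25 hMP B.2.1 hM5 B.2.2 (fun h => hBM (Subtype.ext h.symm)) u hu
    exact (commute_of_fix_line hM5 hd3 (congrArg Subtype.val e) ha).mul_right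
      (commute_of_fix_line B.2.2 hd3 (congrArg Subtype.val (hle B hB)) hb)
  have hclasses : ∀ A : Subgroup G, Nat.card A = 5 → A ≤ (P : Subgroup G) → ∃ g, cj g A = L ∨ cj g A = M := by
    intro A hA hAP
    set a : Λ := ⟨A, hAP, hA⟩ with ha
    by_cases h : a ∈ O
    · obtain ⟨n, hn⟩ := h
      exact ⟨(n : G)⁻¹, Or.inl (by rw [← show cj (n : G) L = A from congrArg Subtype.val hn, cj_inv_cj])⟩
    · have h5 : τ (τ mM) ≠ τ mM := fun h => hMfix (by
        have := congrArg (fun B => τ (τ B)) h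
        rwa [hτ3, hτ3] at this)
      have h3 : τ (τ mM) ≠ mM := fun h => hMfix (by
        have := congrArg τ h
        rwa [hτ3, eq_comm] at this)
      have hsub : ((({mM, τ mM, τ (τ mM)} : Finset Λ)) : Set Λ) ⊆ Oᶜ := by
        intro B hB
        simp only [Finset.coe_insert, Finset.coe_singleton, Set.mem_insert_iff, Set.mem_singleton_iff] at hB
        rcases hB with rfl | rfl | rfl
        exacts [hMO, fun h => hMO ((hτO _).1 h), fun h => hMO ((hτO _).1 ((hτO _).1 h))]
      have heq := Set.eq_of_subset_of_ncard_le hsub (by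
        rw [hcompl, Set.ncard_coe_finset, Finset.card_insert_of_notMem (by simp [Ne.symm hMfix, h3.symm]),
          Finset.card_insert_of_notMem (by simp [h5.symm]), Finset.card_singleton]) (Set.toFinite _)
      have hmem : a ∈ ((({mM, τ mM, τ (τ mM)} : Finset Λ)) : Set Λ) := heq ▸ (show a ∈ Oᶜ from h)
      simp only [Finset.coe_insert, Finset.coe_singleton, Set.mem_insert_iff, Set.mem_singleton_iff] at hmem
      rcases hmem with h' | h' | h'
      · exact ⟨1, Or.inr (by rw [cj_one]; exact congrArg Subtype.val h')⟩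
      · exact ⟨d⁻¹, Or.inr (by rw [show A = cj d M from congrArg Subtype.val h', cj_inv_cj])⟩
      · exact ⟨(d * d)⁻¹, Or.inr (by
          rw [show A = cj d (cj d M) from congrArg Subtype.val h', ← cj_mul d d M, cj_inv_cj])⟩
  refine ⟨P, L, M, hL5, hM5, hnotconj, hclasses, hP25, h600, ?_⟩
  -- the structure of the quotient
  obtain ⟨e3⟩ : Nonempty (O ≃ Fin 3) := ⟨Finite.equivFinOfCardEq (by rw [Nat.card_coe_set_eq, hO3])⟩
  let act : N →* Equiv.Perm O := MonoidHom.mk' (fun n =>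
    { toFun := fun A => ⟨⟨cj (n : G) A.1.1, hPcj n.2 A.1.2.1, by rw [card_cj, A.1.2.2]⟩, by
        obtain ⟨m, hm⟩ := A.2
        exact ⟨n * m, Subtype.ext ((cj_mul _ _ _).trans (congrArg (cj _) (congrArg Subtype.val hm)))⟩⟩
      invFun := fun A => ⟨⟨cj (n : G)⁻¹ A.1.1, hPcj (Subgroup.inv_mem _ n.2) A.1.2.1, by rw [card_cj, A.1.2.2]⟩, by
        obtain ⟨m, hm⟩ := A.2
        exact ⟨n⁻¹ * m, Subtype.ext ((cj_mul _ _ _).trans (congrArg (cj _) (congrArg Subtype.val hm)))⟩⟩
      left_inv := fun A => Subtype.ext (Subtype.ext (cj_inv_cj _ _))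
      right_inv := fun A => Subtype.ext (Subtype.ext (cj_cj_inv _ _)) })
    fun a b => Equiv.ext fun A => Subtype.ext (Subtype.ext (cj_mul _ _ _))
  let φ0 : N →* Equiv.Perm (Fin 3) := e3.permCongrHom.toMonoidHom.comp act
  have hφ0 : ∀ {n : N}, φ0 n = 1 → ∀ A ∈ O, cj (n : G) (A : Λ).1 = A.1 := by
    intro n hn A hA
    have h1 : act n = 1 := e3.permCongrHom.injective (by rw [map_one]; exact hn)
    exact congrArg (fun B : O => B.1.1) (Equiv.Perm.ext_iff.1 h1 ⟨A, hA⟩)
  have hPker : (P : Subgroup G).subgroupOf N ≤ φ0.ker := by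
    intro n hn
    have h1 : act n = 1 := Equiv.ext fun A => Subtype.ext (Subtype.ext (by
      show cj (n : G) A.1.1 = A.1.1
      refine Subgroup.eq_of_le_of_card_ge ?_ (by rw [card_cj])
      intro u hu
      rw [mem_cj] at hu
      have hc := hcomm _ (Subgroup.mem_subgroupOf.1 hn) _ (A.1.2.1 hu)
      have : (n : G) * ((n : G)⁻¹ * u * n) * (n : G)⁻¹ = (n : G)⁻¹ * u * n := by rw [hc.eq, mul_inv_cancel_right]
      rw [show u = (n : G) * ((n : G)⁻¹ * u * n) * (n : G)⁻¹ by group, this]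
      exact hu))
    show e3.permCongrHom (act n) = 1
    rw [h1, map_one]
  haveI : ((P : Subgroup G).subgroupOf N).Normal := by rw [hN]; infer_instance
  set π := QuotientGroup.mk' ((P : Subgroup G).subgroupOf N) with hπ
  let φ := QuotientGroup.lift ((P : Subgroup G).subgroupOf N) φ0 hPker
  have hφ : ∀ n : N, φ (π n) = φ0 n := fun n => rfl
  obtain ⟨A1, A2, A3, h12, h13, h23, hOeq⟩ := Set.ncard_eq_three.1 hO3
  have hscal : ∀ n : N, φ0 n = 1 → ∃ i : ℤ, ∀ u ∈ (P : Subgroup G), (n : G) * u * (n : G)⁻¹ = u ^ i := fun n hn =>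
    exists_scalar hP25 A1.2.1 A2.2.1 A3.2.1 A1.2.2 A2.2.2 A3.2.2 (fun e => h12 (Subtype.ext e))
      (fun e => h13 (Subtype.ext e)) (fun e => h23 (Subtype.ext e)) (hφ0 hn A1 (by simp [hOeq]))
      (hφ0 hn A2 (by simp [hOeq])) (hφ0 hn A3 (by simp [hOeq]))
  -- the kernel
  have hLO : (⟨L, hxP', hL5⟩ : Λ) ∈ O := ⟨1, Subtype.ext (cj_one L)⟩
  let ρ : φ0.ker →* MulAut L := L.normalizerMonoidHom.comp
    (MonoidHom.mk' (fun n => ⟨((n : N) : G), mem_normalizer_iff_cj.2 (hφ0 n.2 _ hLO)⟩) fun a b => rfl)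
  let ψ : φ0.ker →* _ := π.comp φ0.ker.subtype
  have hρψ : ρ.ker = ψ.ker := by
    ext n
    rw [MonoidHom.mem_ker, MonoidHom.mem_ker]
    constructor
    · intro h
      refine (QuotientGroup.eq_one_iff _).2 (Subgroup.mem_subgroupOf.2 ?_)
      obtain ⟨i, hi⟩ := hscal n n.2
      have hx' : ((n : N) : G) * x * ((n : N) : G)⁻¹ = x := by
        have := congrArg Subtype.val (MulEquiv.ext_iff.1 h ⟨x, Subgroup.mem_zpowers x⟩)
        exact this
      have hd5 : (5 : ℤ) ∣ i - 1 := by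
        have e1 : x ^ (i - 1) = 1 := by rw [zpow_sub_one, ← hi x hxP, hx', mul_inv_cancel]
        have := orderOf_dvd_iff_zpow_eq_one.2 e1
        rwa [hx5] at this
      refine hself _ fun u hu => mul_inv_eq_iff_eq_mul.1 ?_
      obtain ⟨q, hq⟩ := hd5
      show ((n : N) : G) * u * ((n : N) : G)⁻¹ = u
      rw [hi u hu, show i = ((5 : ℕ) : ℤ) * q + 1 by push_cast; omega, zpow_add_one, zpow_mul, zpow_natCast, hexp u hu,
        one_zpow, one_mul]
    · intro h
      have hnP : ((n : N) : G) ∈ (P : Subgroup G) := Subgroup.mem_subgroupOf.1 ((QuotientGroup.eq_one_iff _).1 h)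
      refine MulEquiv.ext fun a => Subtype.ext ?_
      show ((n : N) : G) * (a : G) * ((n : N) : G)⁻¹ = (a : G)
      rw [(hcomm _ hnP _ (hxP' a.2)).eq, mul_inv_cancel_right]
  have hψrange : ψ.range = φ.ker := by
    ext w
    constructor
    · rintro ⟨n, rfl⟩
      exact n.2
    · intro hw
      obtain ⟨n, rfl⟩ := QuotientGroup.mk'_surjective _ w
      exact ⟨⟨n, hw⟩, rfl⟩
  let eK : φ.ker ≃* ρ.range := ((MulEquiv.subgroupCongr hψrange).symm.trans
    (QuotientGroup.quotientKerEquivRange ψ).symm).trans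
    ((QuotientGroup.quotientMulEquivOfEq hρψ.symm).trans (QuotientGroup.quotientKerEquivRange ρ))
  haveI : IsCyclic L := isCyclic_of_prime_card hL5
  haveI : IsCyclic (MulAut L) := by
    have e5 : MulAut L ≃* (ZMod (Nat.card L))ˣ := IsCyclic.mulAutMulEquiv L
    haveI : IsCyclic (ZMod (Nat.card L))ˣ := by rw [hL5]; infer_instance
    exact isCyclic_of_surjective e5.symm e5.symm.surjective
  have hKcyc : IsCyclic φ.ker := isCyclic_of_surjective eK.symm eK.symm.surjective
  have hK4 : Nat.card φ.ker ≤ 4 := by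
    rw [Nat.card_congr eK.toEquiv]
    refine (Subgroup.card_le_card_group _).trans (le_of_eq ?_)
    rw [IsCyclic.card_mulAut, hL5, Nat.totient_prime (by norm_num)]
  have hcen : ∀ a ∈ φ.ker, ∀ w, Commute a w := by
    intro a ha w
    obtain ⟨n, rfl⟩ := QuotientGroup.mk'_surjective _ a
    obtain ⟨m, rfl⟩ := QuotientGroup.mk'_surjective _ w
    obtain ⟨i, hi⟩ := hscal n ha
    have hmem : n * m * n⁻¹ * m⁻¹ ∈ (P : Subgroup G).subgroupOf N := by
      refine Subgroup.mem_subgroupOf.2 (hself _ fun u hu => mul_inv_eq_iff_eq_mul.1 ?_)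
      simp only [Subgroup.coe_mul, Subgroup.coe_inv]
      set q := (m : G)⁻¹ * u * m with hq
      have hq' : q ∈ (P : Subgroup G) := by
        have := FiveAux.conj_mem_of_normalizer (Subgroup.inv_mem _ m.2) hu
        simpa [hq, mul_assoc] using this
      set r := (n : G)⁻¹ * q * n with hr
      have hr' : r ∈ (P : Subgroup G) := by
        have := FiveAux.conj_mem_of_normalizer (Subgroup.inv_mem _ n.2) hq'
        simpa [hr, mul_assoc] using this
      have hri : r ^ i = q := by rw [← hi r hr', hr]; group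
      calc (n : G) * m * (n : G)⁻¹ * (m : G)⁻¹ * u * ((n : G) * m * (n : G)⁻¹ * (m : G)⁻¹)⁻¹
          = (n : G) * ((m : G) * r * (m : G)⁻¹) * (n : G)⁻¹ := by rw [hr, hq]; group
        _ = ((m : G) * r * (m : G)⁻¹) ^ i := hi _ (FiveAux.conj_mem_of_normalizer m.2 hr')
        _ = u := by rw [conj_zpow, hri, hq]; group
    have h1 : π n * π m * (π n)⁻¹ * (π m)⁻¹ = 1 := by
      rw [← map_inv, ← map_inv, ← map_mul, ← map_mul, ← map_mul]
      exact (QuotientGroup.eq_one_iff _).2 hmem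
    exact mul_inv_eq_iff_eq_mul.1 (mul_inv_eq_one.1 h1)
  obtain ⟨s, hs⟩ := exists_prime_orderOf_dvd_card' (G := (N ⊓ Subgroup.centralizer ({x} : Set G) : Subgroup G)) 2
    (by rw [h50]; norm_num)
  obtain ⟨hsN, hsx⟩ := Subgroup.mem_inf.1 s.2
  set sN : N := ⟨s, hsN⟩ with hsN'
  have hsφ : φ (π sN) ≠ 1 := by
    intro h
    obtain ⟨i, hi⟩ := hscal sN h
    have hsx' : (s : G) * x * (s : G)⁻¹ = x := by
      rw [mem_centralizer_singleton_iff'.1 hsx, mul_inv_cancel_right]
    have e1 : x ^ (i - 1) = 1 := by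
      rw [zpow_sub_one, ← hi x hxP, show ((sN : N) : G) = (s : G) from rfl, hsx', mul_inv_cancel]
    have hd5 := orderOf_dvd_iff_zpow_eq_one.2 e1
    rw [hx5] at hd5
    obtain ⟨q, hq⟩ := hd5
    have hsP : (s : G) ∈ (P : Subgroup G) := hself _ fun u hu => mul_inv_eq_iff_eq_mul.1 (by
      rw [show (s : G) = ((sN : N) : G) from rfl, hi u hu, show i = ((5 : ℕ) : ℤ) * q + 1 by omega, zpow_add_one,
        zpow_mul, zpow_natCast, hexp u hu, one_zpow, one_mul])
    have h1 : orderOf (s : G) ∣ 25 := hP25 ▸ Subgroup.orderOf_dvd_natCard _ hsP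
    rw [Subgroup.orderOf_coe, hs] at h1
    norm_num at h1
  have hW : Nat.card (N ⧸ (P : Subgroup G).subgroupOf N) = 24 := by
    have h1 := Subgroup.card_eq_card_quotient_mul_card_subgroup ((P : Subgroup G).subgroupOf N)
    rw [Nat.card_congr (Subgroup.subgroupOfEquivOfLe hPN).toEquiv, hP25, h600] at h1
    omega
  exact FiveAux.nonempty_four_times_sym_three hW φ hKcyc hcen hK4 (s := π sN) (by
    have : s * s = 1 := by rw [← pow_two, ← hs, pow_orderOf_eq_one]
    rw [← map_mul, show sN * sN = 1 from Subtype.ext (congrArg Subtype.val this :), map_one]) hsφ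

/-- The classes of subgroups of order five and the normalizer of a Sylow 5-subgroup. -/
theorem sylow_five (P : Sylow 5 G) :
    (∃ A B : Subgroup G, Nat.card A = 5 ∧ Nat.card B = 5 ∧ (∀ g : G, A.map (MulAut.conj g).toMonoidHom ≠ B) ∧
      ∀ C : Subgroup G, Nat.card C = 5 → ∃ g : G, C.map (MulAut.conj g).toMonoidHom = A ∨
        C.map (MulAut.conj g).toMonoidHom = B) ∧
    Nat.card (P : Subgroup G) = 25 ∧ Nat.card ↥(Subgroup.normalizer ((P : Subgroup G) : Set G)) = 600 ∧
    Nonempty (↥(Subgroup.normalizer ((P : Subgroup G) : Set G)) ⧸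
      (P : Subgroup G).subgroupOf (Subgroup.normalizer ((P : Subgroup G) : Set G)) ≃*
      Multiplicative (ZMod 4) × Equiv.Perm (Fin 3)) := by
  haveI : Fact (Nat.Prime 5) := ⟨by norm_num⟩
  obtain ⟨P0, L, M, hL, hM, hne, hcl, hP, hN, ⟨eW⟩⟩ := W.five_main
  refine ⟨⟨L, M, hL, hM, hne, fun C hC => ?_⟩, ?_⟩
  · obtain ⟨S, hS⟩ := (IsPGroup.of_card (n := 1) (G := C) (by rw [hC, pow_one])).exists_le_sylow
    obtain ⟨g, hg⟩ := MulAction.exists_smul_eq G S P0
    have hle : cj g C ≤ (P0 : Subgroup G) := by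
      rw [← hg]
      exact CfsgLib.CIT.cj_mono hS
    obtain ⟨g', h⟩ := hcl (cj g C) (by rw [card_cj, hC]) hle
    refine ⟨g' * g, ?_⟩
    rw [← cj_mul] at h
    exact h
  · obtain ⟨g, rfl⟩ := MulAction.exists_smul_eq G P0 P
    have eP : ((g • P0 : Sylow 5 G) : Subgroup G) = cj g (P0 : Subgroup G) := rfl
    rw [eP]
    refine ⟨by rw [card_cj, hP], by rw [CfsgLib.CIT.normalizer_cj, card_cj, hN], ?_⟩
    let e : Subgroup.normalizer ((P0 : Subgroup G) : Set G) ≃*
        Subgroup.normalizer ((cj g (P0 : Subgroup G) : Subgroup G) : Set G) :=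
      ((Subgroup.normalizer ((P0 : Subgroup G) : Set G)).equivMapOfInjective (MulAut.conj g).toMonoidHom
        (MulAut.conj g).injective).trans (MulEquiv.subgroupCongr (CfsgLib.CIT.normalizer_cj g _).symm)
    refine ⟨(QuotientGroup.congr _ _ e ?_).symm.trans eW⟩
    ext a
    constructor
    · rintro ⟨u, hu, rfl⟩
      exact Subgroup.mem_subgroupOf.2 ⟨u, Subgroup.mem_subgroupOf.1 hu, rfl⟩
    · intro ha
      obtain ⟨u, hu, hu'⟩ := Subgroup.mem_subgroupOf.1 ha
      exact ⟨⟨u, Subgroup.le_normalizer hu⟩, Subgroup.mem_subgroupOf.2 hu, Subtype.ext hu'⟩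

end Four

end CfsgLib.LocalEvenB.SuzType
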