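import Cfsg.Agent.Lib.LocalEvenB.SuzType.Locals.FiveCent
import Cfsg.Agent.Lib.LocalEvenB.CentralizerDEight
import Cfsg.Agent.Lib.Recog.JankoTwoType.SmallFacts

/-!
The centralizer of the element of order five of the Levi group: `5 × A₆` (owner: helper8).
-/

set_option autoImplicit false
set_option linter.unusedSectionVars false
set_option linter.unusedVariables false
set_option linter.style.haveILetI false
set_option maxRecDepth 100000
set_option quotPrecheck false
set_option Elab.async false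

namespace CfsgLib.LocalEvenB.SuzType

open CfsgLib.ThreeTrans

theorem sym_five_signs : ∀ a b : Equiv.Perm (Fin 5), IsConj a b → Equiv.Perm.sign a = Equiv.Perm.sign b :=
  fun a b h => by
    obtain ⟨c, rfl⟩ := isConj_iff.1 h
    rw [map_mul, map_mul, map_inv, Int.units_inv_eq_self, mul_comm, ← mul_assoc, Int.units_mul_self, one_mul]

theorem five_factorization : (448345497600 : ℕ).factorization 5 = 2 := by
  rw [show (448345497600 : ℕ) = 5 ^ 2 * 17933819904 from rfl, Nat.factorization_mul (by norm_num) (by norm_num),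
    Finsupp.add_apply, Nat.Prime.factorization_pow (by norm_num : Nat.Prime 5), Finsupp.single_eq_same,
    Nat.factorization_eq_zero_of_not_dvd (by norm_num)]

variable {G : Type*} [Group G] [Finite G] {z : G} {Q : Subgroup G} {p : G → Nat} {k : G}

namespace Pair

variable {b β : G} (R : Pair z Q p k b β)
include R
variable {x : G} (hxA : Acts z Q p x rfiveM) (hxH : x ∈ leviGroup z k b β) (hx5 : orderOf x = 5)
  (hG : Nat.card G = 448345497600)
include hxA hxH hx5 hG

local notation "X" => k * z * k⁻¹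
local notation "Cx" => Subgroup.centralizer ({x} : Set G)

theorem five_le : Subgroup.zpowers x ≤ Cx :=
  Subgroup.zpowers_le.2 (mem_centralizer_singleton_iff'.2 (Commute.refl x))

theorem five_normal : ((Subgroup.zpowers x).subgroupOf Cx).Normal := ⟨fun n hn g => by
  rw [Subgroup.mem_subgroupOf] at hn ⊢
  obtain ⟨i, hi⟩ := Subgroup.mem_zpowers_iff.1 hn
  have hg : Commute (g : G) x := mem_centralizer_singleton_iff'.1 g.2
  simp only [Subgroup.coe_mul, Subgroup.coe_inv]
  rwa [← hi, (hg.zpow_right i).eq, mul_inv_cancel_right, hi]⟩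

theorem card_cent_five_eq [((Subgroup.zpowers x).subgroupOf Cx).Normal] :
    Nat.card Cx = Nat.card (Cx ⧸ (Subgroup.zpowers x).subgroupOf Cx) * 5 := by
  rw [Subgroup.card_eq_card_quotient_mul_card_subgroup ((Subgroup.zpowers x).subgroupOf Cx),
    Nat.card_congr (Subgroup.subgroupOfEquivOfLe (R.five_le hxA hxH hx5 hG)).toEquiv, Nat.card_zpowers, hx5]

theorem five_quotient [((Subgroup.zpowers x).subgroupOf Cx).Normal] :
    Nonempty (Cx ⧸ (Subgroup.zpowers x).subgroupOf Cx ≃* alternatingGroup (Fin 6)) := by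
  classical
  have F := R.frame
  haveI : Fact (Nat.Prime 5) := ⟨by norm_num⟩
  haveI : Fact (Nat.Prime 2) := ⟨Nat.prime_two⟩
  set N0 := (Subgroup.zpowers x).subgroupOf Cx with hN0
  set π := QuotientGroup.mk' N0 with hπ
  set D := (Q ⊓ Cx : Subgroup G) with hD
  obtain ⟨hxz, hxX, hxb, -⟩ := R.mem_levi.1 hxH
  have hker : ∀ a : Cx, π a = 1 → (a : G) ∈ Subgroup.zpowers x := fun a h =>
    Subgroup.mem_subgroupOf.1 ((QuotientGroup.eq_one_iff a).1 h)
  have hsmall : ∀ g : G, g ∈ Subgroup.zpowers x → g * g = 1 → g = 1 := fun g h1 h2 => by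
    have k1 : orderOf g ∣ 5 := hx5 ▸ orderOf_dvd_of_mem_zpowers h1
    exact orderOf_eq_one_iff.1 (Nat.eq_one_of_dvd_coprimes (by norm_num : Nat.Coprime 5 2) k1
      (orderOf_dvd_of_pow_eq_one (by rw [pow_two, h2])))
  have hinj : Function.Injective (π.comp (Subgroup.inclusion (inf_le_right : D ≤ Cx))) := by
    rw [← MonoidHom.ker_eq_bot_iff, Subgroup.eq_bot_iff_forall]
    intro a ha
    have k1 : orderOf (a : G) ∣ 5 := hx5 ▸ orderOf_dvd_of_mem_zpowers (hker _ (MonoidHom.mem_ker.1 ha))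
    have k2 : orderOf (a : G) ∣ 8 := R.card_five_q hxA hxH hx5 ▸ Subgroup.orderOf_dvd_natCard _ a.2
    exact Subtype.ext (orderOf_eq_one_iff.1 (Nat.eq_one_of_dvd_coprimes (by norm_num) k1 k2))
  set Z : Cx := ⟨z, mem_centralizer_singleton_iff'.2 hxz.symm⟩ with hZ
  have hZ2 : orderOf (π Z) = 2 := orderOf_eq_prime
    (by rw [pow_two, ← map_mul, show Z * Z = 1 from Subtype.ext F.sys.large.mul_self_z, map_one])
    fun e => F.sys.large.z_ne_one (hsmall z (hker _ e) F.sys.large.mul_self_z)
  have hrange : (π.comp (Subgroup.inclusion (inf_le_right : D ≤ Cx))).range = Subgroup.centralizer ({π Z} : Set _) := by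
    ext a
    rw [mem_centralizer_singleton_iff']
    constructor
    · rintro ⟨d, rfl⟩
      exact (show Commute (Subgroup.inclusion inf_le_right d : Cx) Z from
        Subtype.ext (F.sys.large.commute_z (Subgroup.mem_inf.1 d.2).1).eq).map π
    · intro ha
      obtain ⟨a, rfl⟩ := QuotientGroup.mk'_surjective N0 a
      have h1 : π (Z⁻¹ * (a * Z * a⁻¹)) = 1 := by
        rw [map_mul, map_mul, map_mul, map_inv, map_inv, ha, mul_inv_cancel_right, inv_mul_cancel]
      have hmem := hker _ h1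
      simp only [Subgroup.coe_mul, Subgroup.coe_inv] at hmem
      set w := (a : G) * z * (a : G)⁻¹ with hw
      have hww : w * w = 1 := conj_sq_one F.sys.large.mul_self_z _
      obtain ⟨j, hj⟩ := Subgroup.mem_zpowers_iff.1 hmem
      have hwe : w = z * x ^ j := by
        rw [hj, show ((Z : Cx) : G) = z from rfl, mul_inv_cancel_left]
      have hxj : x ^ j = 1 := hsmall _ (Subgroup.zpow_mem_zpowers x j) (by
        rw [hwe, mul_assoc, ← mul_assoc (x ^ j), (hxz.zpow_left j).eq, mul_assoc z (x ^ j), ← mul_assoc z,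
          F.sys.large.mul_self_z, one_mul] at hww
        exact hww)
      rw [hxj, mul_one] at hwe
      have haz : Commute (a : G) z := mul_inv_eq_iff_eq_mul.1 hwe
      obtain ⟨i, q, hq, hqx, e⟩ := R.five_cent hxA hxH hx5 haz (mem_centralizer_singleton_iff'.1 a.2)
      refine ⟨⟨q, Subgroup.mem_inf.2 ⟨hq, mem_centralizer_singleton_iff'.2 hqx⟩⟩, ?_⟩
      refine QuotientGroup.eq.2 (Subgroup.mem_subgroupOf.2 ?_)
      show q⁻¹ * (a : G) ∈ Subgroup.zpowers x
      rw [e, (hqx.symm.pow_left i).eq, inv_mul_cancel_left]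
      exact Subgroup.pow_mem _ (Subgroup.mem_zpowers x) i
  obtain ⟨eD⟩ := R.five_dihedral hxA hxH hx5
  have hCz : Nonempty (↥(Subgroup.centralizer ({π Z} : Set (Cx ⧸ N0))) ≃* DihedralGroup 4) :=
    ⟨((MulEquiv.subgroupCongr hrange).symm.trans (MonoidHom.ofInjective hinj).symm).trans eD⟩
  -- the involutions form one class
  have hone : ∀ u : Cx ⧸ N0, u * u = 1 → u ≠ 1 → IsConj (π Z) u := by
    intro u huu hu1
    obtain ⟨a, rfl⟩ := QuotientGroup.mk'_surjective N0 u
    rw [← map_mul] at huu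
    set i := a ^ 5 with hi
    have hπi : π i = π a := by
      rw [hi, map_pow, pow_succ, show 4 = 2 + 2 from rfl, pow_add, pow_two, ← map_mul, huu, one_mul, one_mul]
    have hii : (i : G) * i = 1 := by
      obtain ⟨j, hj⟩ := Subgroup.mem_zpowers_iff.1 (hker _ huu)
      rw [Subgroup.coe_mul] at hj
      rw [hi, Subgroup.coe_pow, ← (Commute.refl (a : G)).mul_pow, ← hj, ← zpow_natCast (x ^ j), ← zpow_mul, mul_comm,
        zpow_mul, zpow_natCast, ← hx5, pow_orderOf_eq_one, one_zpow]
    have hi1 : (i : G) ≠ 1 := fun e => hu1 (by rw [← hπi, show i = 1 from Subtype.ext e, map_one])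
    obtain ⟨g, hgx, hg⟩ := R.five_fused hxA hxH hx5 hii hi1 (mem_centralizer_singleton_iff'.1 i.2)
    refine isConj_iff.2 ⟨π ⟨g, mem_centralizer_singleton_iff'.2 hgx⟩, ?_⟩
    rw [← map_inv, ← map_mul, ← map_mul, ← hπi]
    exact congrArg π (Subtype.ext hg)
  -- five divides the order
  have h5 : 5 ∣ Nat.card (Cx ⧸ N0) := by
    obtain ⟨P, hP⟩ := (IsPGroup.of_card (n := 1) (G := Subgroup.zpowers x)
      (by rw [Nat.card_zpowers, hx5, pow_one])).exists_le_sylow
    have h25 : Nat.card (P : Subgroup G) = 5 ^ 2 := by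
      rw [Sylow.card_eq_multiplicity, hG, five_factorization]
    haveI := IsPGroup.isMulCommutative_of_card_eq_prime_sq h25
    have hPC : (P : Subgroup G) ≤ Cx := fun g hg => mem_centralizer_singleton_iff'.2
      (congrArg Subtype.val (mul_comm' (⟨g, hg⟩ : (P : Subgroup G)) ⟨x, hP (Subgroup.mem_zpowers x)⟩))
    have h := Subgroup.card_dvd_of_le hPC
    rw [h25, R.card_cent_five_eq hxA hxH hx5 hG, ← hN0] at h
    omega
  rcases DEight.main (π Z) hZ2 hCz with h | ⟨⟨e⟩⟩ | ⟨⟨e⟩⟩ | ⟨⟨e⟩⟩ | h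
  · exfalso
    set O := Cfsg.oddCore (Cx ⧸ N0) with hO
    haveI : O.Normal := by rw [hO]; infer_instance
    obtain ⟨hX1, hX2⟩ := R.tri_mem hxA hxH hx5 (false, true, false)
    simp only [sg, cond_false, cond_true, one_mul, mul_one] at hX1 hX2
    set d : D := ⟨X, Subgroup.mem_inf.2 ⟨hX1, mem_centralizer_singleton_iff'.2 hX2⟩⟩ with hd
    set u := π.comp (Subgroup.inclusion (inf_le_right : D ≤ Cx)) d with hu
    have hdd : d * d = 1 := Subtype.ext F.sys'.large.mul_self_z
    have hd1 : d ≠ 1 := fun e => F.sys'.large.z_ne_one (congrArg Subtype.val e)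
    obtain ⟨g, hg⟩ := isConj_iff.1 (hone u (by rw [hu, ← map_mul, hdd, map_one])
      fun e => hd1 (hinj (e.trans (map_one _).symm)))
    obtain ⟨c, hc, o, ho, rfl⟩ := Subgroup.mem_sup_of_normal_right.1 (h ▸ Subgroup.mem_top g :
      g ∈ Subgroup.centralizer ({π Z} : Set (Cx ⧸ N0)) ⊔ O)
    set ρ := QuotientGroup.mk' O with hρ
    have e1 : ρ u = ρ (π Z) := by
      have hc' : c * π Z * c⁻¹ = π Z := by
        rw [mem_centralizer_singleton_iff'.1 hc, mul_inv_cancel_right]
      rw [← hg, map_mul, map_mul, map_inv, map_mul, show ρ o = 1 from (QuotientGroup.eq_one_iff o).2 ho, mul_one,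
        ← map_inv, ← map_mul, ← map_mul, hc']
    have e2 : u⁻¹ * π Z ∈ O := QuotientGroup.eq.1 e1
    have e3 : u⁻¹ * π Z ∈ Subgroup.centralizer ({π Z} : Set (Cx ⧸ N0)) := Subgroup.mul_mem _
      (Subgroup.inv_mem _ (hrange.le ⟨d, rfl⟩)) (mem_centralizer_singleton_iff'.2 rfl)
    obtain ⟨eC⟩ := hCz
    have k1 : orderOf (u⁻¹ * π Z) ∣ 8 := by
      have h8 := Subgroup.orderOf_dvd_natCard _ e3
      rwa [Nat.card_congr eC.toEquiv, Nat.card_eq_fintype_card, DihedralGroup.card] at h8
    have k2 := Subgroup.orderOf_dvd_natCard _ e2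
    have e4 := inv_mul_eq_one.1 (orderOf_eq_one_iff.1 (Nat.eq_one_of_dvd_coprimes
      ((Nat.coprime_two_left.2 (CfsgLib.ZStar.odd_card_oddCore _)).pow_left 3) k1 k2))
    have hzD : z ∈ D := by
      rw [hD, Subgroup.mem_inf]
      simpa [sg] using Subgroup.mem_inf.2 ⟨(R.tri_mem hxA hxH hx5 (true, false, false)).1,
        mem_centralizer_singleton_iff'.2 (R.tri_mem hxA hxH hx5 (true, false, false)).2⟩
    have := hinj (show π.comp (Subgroup.inclusion (inf_le_right : D ≤ Cx)) d =
      π.comp (Subgroup.inclusion (inf_le_right : D ≤ Cx)) ⟨z, hzD⟩ from e4)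
    exact F.x_ne_z (congrArg Subtype.val this)
  · rw [Nat.card_congr e.toEquiv, Nat.card_perm, Nat.card_fin] at h5
    exact absurd h5 (by decide)
  · exfalso
    have hconj : ∀ a : Equiv.Perm (Fin 5), a * a = 1 → a ≠ 1 → IsConj (e (π Z)) a := fun a ha ha1 => by
      have := e.toMonoidHom.map_isConj (hone (e.symm a) (by rw [← map_mul, ha, map_one])
        fun h => ha1 (by simpa using congrArg e h))
      simpa using this
    have h1 := sym_five_signs _ _ (hconj (Equiv.swap 0 1) (Equiv.swap_mul_self _ _) (by decide +kernel))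
    have h2 := sym_five_signs _ _ (hconj (Equiv.swap 0 1 * Equiv.swap 2 3) (by decide +kernel) (by decide +kernel))
    rw [h1] at h2
    exact absurd h2 (by decide +kernel)
  · rw [Nat.card_congr e.toEquiv, CfsgLib.Recog.HJType.card_sl_three] at h5
    exact absurd h5 (by decide)
  · exact h

theorem card_cent_five : Nat.card Cx = 1800 := by
  haveI := R.five_normal hxA hxH hx5 hG
  obtain ⟨e⟩ := R.five_quotient hxA hxH hx5 hG
  rw [R.card_cent_five_eq hxA hxH hx5 hG, Nat.card_congr e.toEquiv, nat_card_alternatingGroup, Nat.card_fin]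
  rfl

/-- A subgroup of order 25 containing `x` is its own centralizer; its normalizer meets that of `x` in order 50. -/
theorem five_sylow {P : Subgroup G} (hP : Nat.card P = 25) (hxP : x ∈ P) :
    (∀ g : G, (∀ a ∈ P, Commute g a) → g ∈ P) ∧
      Nat.card (Subgroup.normalizer (P : Set G) ⊓ Cx : Subgroup G) = 50 := by
  classical
  haveI : Fact (Nat.Prime 5) := ⟨by norm_num⟩
  haveI := R.five_normal hxA hxH hx5 hG
  obtain ⟨e⟩ := R.five_quotient hxA hxH hx5 hG
  set N0 := (Subgroup.zpowers x).subgroupOf Cx with hN0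
  set π := QuotientGroup.mk' N0 with hπ
  haveI := IsPGroup.isMulCommutative_of_card_eq_prime_sq (show Nat.card P = 5 ^ 2 from hP)
  have hPC : P ≤ Cx := fun g hg => mem_centralizer_singleton_iff'.2
    (congrArg Subtype.val (mul_comm' (⟨g, hg⟩ : P) ⟨x, hxP⟩))
  set P' := P.subgroupOf Cx with hP'
  have hNP : N0 ≤ P' := fun a ha => Subgroup.mem_subgroupOf.2 (Subgroup.zpowers_le.2 hxP (Subgroup.mem_subgroupOf.1 ha))
  have hN5 : Nat.card N0 = 5 := by
    rw [hN0, Nat.card_congr (Subgroup.subgroupOfEquivOfLe (R.five_le hxA hxH hx5 hG)).toEquiv, Nat.card_zpowers, hx5]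
  have hcomap : (P'.map π).comap π = P' := by
    rw [Subgroup.comap_map_eq, hπ, QuotientGroup.ker_mk', sup_eq_left.2 hNP]
  have hcardcomap : ∀ A : Subgroup (Cx ⧸ N0), Nat.card (A.comap π) = 5 * Nat.card A := fun A => by
    rw [← hN5, ← Nat.card_prod]
    exact Nat.card_congr (QuotientGroup.preimageMkEquivSubgroupProdSet N0 (A : Set (Cx ⧸ N0)))
  have hPb : Nat.card (P'.map π) = 5 := by
    have h' : Nat.card P' = 25 := (Nat.card_congr (Subgroup.subgroupOfEquivOfLe hPC).toEquiv).trans hP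
    have := hcardcomap (P'.map π)
    rw [hcomap, h'] at this
    omega
  haveI : IsCyclic (P'.map π) := isCyclic_of_prime_card hPb
  obtain ⟨y, hy⟩ := (Subgroup.isCyclic_iff_exists_zpowers_eq_top _).1 (inferInstance : IsCyclic (P'.map π))
  have hy5 : orderOf y = 5 := by rw [← Nat.card_zpowers, hy, hPb]
  have hcent : Subgroup.centralizer ({y} : Set (Cx ⧸ N0)) = Subgroup.zpowers y := by
    ext a
    have := SetLike.ext_iff.1 (FiveAux.alt_six_centralizer (y := e y) (by rw [MulEquiv.orderOf_eq, hy5])) (e a)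
    rw [mem_centralizer_singleton_iff'] at this ⊢
    rw [← map_mul, ← map_mul, e.injective.eq_iff, Subgroup.mem_zpowers_iff] at this
    rw [this, Subgroup.mem_zpowers_iff]
    simp only [← map_zpow, e.injective.eq_iff]
  refine ⟨fun g hg => ?_, ?_⟩
  · have hgC : g ∈ Cx := mem_centralizer_singleton_iff'.2 (hg x hxP)
    obtain ⟨a, ha, hay⟩ : y ∈ P'.map π := hy ▸ Subgroup.mem_zpowers y
    have h1 : π ⟨g, hgC⟩ ∈ P'.map π := by
      rw [← hy, ← hcent, mem_centralizer_singleton_iff', ← hay]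
      exact (show Commute (⟨g, hgC⟩ : Cx) a from Subtype.ext (hg _ (Subgroup.mem_subgroupOf.1 ha)).eq).map π
    exact Subgroup.mem_subgroupOf.1 (hcomap.le (Subgroup.mem_comap.2 h1))
  · have hS : (Subgroup.normalizer (P : Set G) ⊓ Cx : Subgroup G).subgroupOf Cx =
        (Subgroup.normalizer ((P'.map π : Subgroup (Cx ⧸ N0)) : Set (Cx ⧸ N0))).comap π := by
      rw [Subgroup.comap_normalizer_eq_of_surjective _ (QuotientGroup.mk'_surjective N0), hcomap,
        Subgroup.inf_subgroupOf_right, hP']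
      exact Subgroup.subgroupOf_normalizer_eq hPC
    rw [← Nat.card_congr (Subgroup.subgroupOfEquivOfLe
      (inf_le_right : Subgroup.normalizer (P : Set G) ⊓ Cx ≤ Cx)).toEquiv, hS, hcardcomap]
    obtain ⟨m, hm, hm'⟩ := FiveAux.exists_card_normalizer hy5
    rw [hcent, Nat.card_zpowers, hy5] at hm'
    have h360 : Nat.card (Cx ⧸ N0) = 360 := by
      rw [Nat.card_congr e.toEquiv, nat_card_alternatingGroup, Nat.card_fin]
      rfl
    let Py : Sylow 5 (Cx ⧸ N0) := Sylow.ofCard (Subgroup.zpowers y) (by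
      rw [Nat.card_zpowers, hy5, h360, show (360 : ℕ) = 5 ^ 1 * 72 from rfl,
        Nat.factorization_mul (by norm_num) (by norm_num), Finsupp.add_apply,
        Nat.Prime.factorization_pow (by norm_num : Nat.Prime 5), Finsupp.single_eq_same,
        Nat.factorization_eq_zero_of_not_dvd (by norm_num)]
      norm_num)
    have hn := card_sylow_modEq_one 5 (Cx ⧸ N0)
    rw [Py.card_eq_index_normalizer] at hn
    replace hn : (Subgroup.normalizer ((Subgroup.zpowers y : Subgroup (Cx ⧸ N0)) : Set (Cx ⧸ N0))).index ≡ 1 [MOD 5] := hn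
    have hmul := (Subgroup.normalizer ((Subgroup.zpowers y : Subgroup (Cx ⧸ N0)) : Set (Cx ⧸ N0))).card_mul_index
    rw [h360, hm'] at hmul
    rw [← hy, hm']
    unfold Nat.ModEq at hn
    generalize (Subgroup.normalizer ((Subgroup.zpowers y : Subgroup (Cx ⧸ N0)) : Set (Cx ⧸ N0))).index = n at hn hmul
    have hm'' : m ∈ Nat.divisors 4 := Nat.mem_divisors.2 ⟨hm, by norm_num⟩
    rw [show Nat.divisors 4 = {1, 2, 4} by decide] at hm''
    simp only [Finset.mem_insert, Finset.mem_singleton] at hm''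
    rcases hm'' with rfl | rfl | rfl <;> omega

end Pair

end CfsgLib.LocalEvenB.SuzType
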