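import Cfsg.Agent.Lib.LocalEvenB.SuzType.Locals.Levi

/-!
The four-group of far involutions: existence with its rotation and witnesses of nonsolvability of its
centralizer; the centralizers in `C(z)` of it and of one of its involutions (owner: helper8).
-/

set_option autoImplicit false
set_option linter.unusedSectionVars false
set_option linter.unusedVariables false
set_option linter.style.haveILetI false
set_option maxRecDepth 100000
set_option quotPrecheck false
set_option Elab.async false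

namespace CfsgLib.LocalEvenB.SuzType

open CfsgLib.ThreeTrans

/-- The conditions on the vectors of a standard pair of commuting far involutions. -/
def fourB (n m : Nat) : Bool :=
  invB 16 n && invB 32 m && comB 16 n 32 m && comB 16 n 0 4 && comB 16 n 0 8 && comB 32 m 0 4 && comB 32 m 0 8

/-- The standard pairs. -/
def fourList : List (Nat × Nat) :=
  ((vecs fun n => !bb n 1).flatMap fun n => (vecs fun m => !bb m 1).map fun m => (n, m)).filter fun e => fourB e.1 e.2

/-- The coordinates of the members of `C(z)` centralizing a standard pair. -/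
def pairList (n m : Nat) : List (Nat × Nat) :=
  (sect.flatMap fun u => (vecs fun a => !bb a 1).map fun a => (u, a)).filter fun e =>
    comB e.1 e.2 16 n && comB e.1 e.2 32 m

theorem fourList_star : fourList.all (fun e => sect.all fun u => (List.range 64).all fun a => bb a 1 ||
    (comB u a 16 e.1 == comB u a 32 e.2)) = true := by decide +kernel

theorem fourList_first : fourList.all (fun e => [32, 33, 48, 49].contains e.1) = true := by decide +kernel

theorem pairList_len : fourList.all (fun e => (pairList e.1 e.2).length == 128) = true := by decide +kernel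

theorem fourList_comm : fourList.all (fun e => (List.range 64).all fun a => bb a 1 ||
    !(comB 0 a 16 e.1) || !(comB 0 a 0 4) || !(comB 0 a 0 8) || a == 0 || a == 1) = true := by decide +kernel

theorem fourList_central : fourList.all (fun e => (pairList e.1 e.2).all fun ua =>
    !(comB ua.1 ua.2 0 4) || !(comB ua.1 ua.2 0 8) || !(invB ua.1 ua.2) || qb ua.1 ||
      (ua.1 == 0 && (ua.2 == 0 || ua.2 == 1))) = true := by decide +kernel

theorem far_perp : [16, 32].all (fun v => (List.range 64).all fun a =>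
    !(a ^^^ app (rho v) a == 0 || a ^^^ app (rho v) a == 1) || !bb a 1) = true := by decide +kernel

theorem shift_im : fourList.all (fun e => (List.range 64).all fun a => bb a 1 ||
    !(comB 16 (e.1 ^^^ a) 0 4) || !(comB 16 (e.1 ^^^ a) 0 8) || !(invB 16 (e.1 ^^^ a)) ||
      imB (rho 16) a) = true := by decide +kernel

theorem far_functional : fourList.all (fun e => (List.range 64).all fun y => !(fixB (rho 16) y) ||
    (!bb y 1 && cz 16 e.1 0 y == bb e.1 y && cx 16 e.1 0 y == false)) = true := by decide +kernel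

theorem lam_facts : (comp lamM (rho 16) == comp (rho 16) lamM && comp lamM (rho 32) == comp (rho 48) lamM &&
    app lamM 1 == 1 && app lamM 4 == 8 && app lamM 8 == 4 && lamM.length == 6 &&
    comp lamM rthreeM == comp (comp rthreeM rthreeM) lamM && comp rthreeM (comp rthreeM rthreeM) == one &&
    comp (comp rthreeM rthreeM) rthreeM == one && rthreeM.length == 6 && app rthreeM 1 == 1 &&
    comp rthreeM (rho 16) == comp (rho 32) rthreeM && comp rthreeM (rho 32) == comp (rho 48) rthreeM &&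
    comp (rho 16) (rho 32) == rho 48 && app rthreeM 4 == 4 && app rthreeM 8 == 8) = true := by decide +kernel

theorem lam_not_rho : sect.all (fun u => sect.all fun w => !(comp lamM (rho u) == rho w)) = true := by decide +kernel

theorem lam_not_comm : sect.all (fun u => !(comp (comp lamM (rho u)) (rho 4) == comp (rho 4) (comp lamM (rho u)))) =
    true := by decide +kernel

theorem lam_central : sect.all (fun u => !(comp lamM (rho u) == comp (rho u) lamM) || !(qb u) || u == 16 ||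
    !(qb (u ^^^ 16))) = true := by decide +kernel

theorem pairList_four : fourList.all (fun e => (pairList e.1 e.2).any fun ua => ua.1 == 4) = true := by decide +kernel

/-- The images of the rotations in the old coordinates. -/
def oldLevi (A : List Nat) : List Nat := comp czeroM (comp A czeroM)

theorem old_mem : ([rho 16, rho 32, rho 48, rthreeM].all fun A => (levList.map Prod.fst).contains (oldLevi A) &&
    comp czeroM (oldLevi A) == comp A czeroM && (oldLevi A).length == 6) = true := by decide +kernel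

theorem czero_facts : app czeroM 1 = 4 ∧ app czeroM 2 = 8 ∧ czeroM.length = 6 := by decide +kernel

variable {G : Type*} [Group G] [Finite G] {z : G} {Q : Subgroup G} {p : G → Nat} {k : G}

/-- A standard pair of far involutions with a rotation. -/
structure Four (z : G) (Q : Subgroup G) (p : G → Nat) (k t v : G) : Prop where
  frame : Frame z Q p k
  rep : ∃ n m, Rep z Q p k t 16 n ∧ Rep z Q p k v 32 m ∧ fourB n m = true
  rot : ∃ c, Acts z Q p c rthreeM ∧ Commute c (k * z * k⁻¹) ∧ c * t * c⁻¹ = v ∧ c * v * c⁻¹ = t * v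
  wit : ∃ a a' β, a ∈ Q ∧ a' ∈ Q ∧ p a = 4 ∧ p a' = 8 ∧ Commute β t ∧ Commute β v ∧
    β * z * β⁻¹ = z * a

theorem Frame.exists_four (F : Frame z Q p k) : ∃ t v, Four z Q p k t v := by
  obtain ⟨b, β, R⟩ := F.exists_pair
  obtain ⟨hl, c0, hc0⟩ := F.sys.acts_word czeroW
  have hw := data_words
  simp only [Bool.and_eq_true, beq_iff_eq] at hw
  rw [← hw.1.1.1.2] at hc0
  obtain ⟨hcz1, hcz2, hczl⟩ := czero_facts
  have ho := old_mem
  simp only [List.all_cons, List.all_nil, Bool.and_true, Bool.and_eq_true, List.contains_iff_mem, beq_iff_eq] at ho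
  obtain ⟨⟨⟨m16, c16⟩, l16⟩, ⟨⟨m32, c32⟩, l32⟩, ⟨⟨m48, c48⟩, l48⟩, ⟨⟨m3, c3⟩, l3⟩⟩ := ho
  obtain ⟨h16, hh16, ha16⟩ := R.exists_levi m16
  obtain ⟨h32, hh32, ha32⟩ := R.exists_levi m32
  obtain ⟨h3, hh3, ha3⟩ := R.exists_levi m3
  set cc := MulAut.conj c0 with hcc
  have A16 := F.sys.acts_conj hczl l16 (F.rho_len 16) hc0 ha16 c16
  have A32 := F.sys.acts_conj hczl l32 (F.rho_len 32) hc0 ha32 c32
  have A3 := F.sys.acts_conj hczl l3 (show rthreeM.length = 6 from rfl) hc0 ha3 c3
  -- transfer to the new position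
  set H' := (leviGroup z k b β).map cc.toMonoidHom with hH'
  have hmem : ∀ {g : G}, g ∈ leviGroup z k b β → c0 * g * c0⁻¹ ∈ H' := fun {g} hg => ⟨g, hg, rfl⟩
  have huniq : ∀ {g g' : G} {A : List Nat}, A.length = 6 → g ∈ H' → g' ∈ H' → Acts z Q p g A → Acts z Q p g' A →
      g = g' := by
    rintro g g' A hA ⟨h, hh, rfl⟩ ⟨h', hh', rfl⟩ hg hg'
    have key : ∀ {e : G}, e ∈ leviGroup z k b β → Acts z Q p (c0 * e * c0⁻¹) A → ∃ B, B.length = 6 ∧ Acts z Q p e B ∧
        comp czeroM B = comp A czeroM := by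
      intro e he hA'
      obtain ⟨B, -, hBl, hB⟩ := R.levi_image he
      refine ⟨B, hBl, hB, F.sys.acts_unique (by rw [length_comp, hBl]) (by rw [length_comp, hczl])
        (F.sys.acts_mul hBl hc0 hB) ?_⟩
      have := F.sys.acts_mul hczl hA' hc0
      rwa [inv_mul_cancel_right] at this
    obtain ⟨B, hBl, hB, eB⟩ := key hh hg
    obtain ⟨B', hBl', hB', eB'⟩ := key hh' hg'
    have : B = B' := by
      refine eq_of_app hBl hBl' fun n hn => ?_
      have hn64 : n < 64 := by revert n; decide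
      have hlt : app B n < 64 := by
        obtain ⟨a, ha, rfl⟩ := F.sys.surj n hn64
        rw [← hB.2 a ha]
        exact F.sys.lt _ (F.sys.large.conj_mem hB.1 ha)
      have hlt' : app B' n < 64 := by
        obtain ⟨a, ha, rfl⟩ := F.sys.surj n hn64
        rw [← hB'.2 a ha]
        exact F.sys.lt _ (F.sys.large.conj_mem hB'.1 ha)
      refine F.sys.app_inj hc0 hlt hlt' ?_
      rw [← app_comp hBl, ← app_comp hBl', eB, eB']
    subst this
    rw [R.levi_unique hh hh' hB hB']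
  have hprop : ∀ {g : G}, g ∈ H' → Commute g (c0 * (k * z * k⁻¹) * c0⁻¹) ∧ Commute g (c0 * b * c0⁻¹) ∧
      Commute g (c0 * β * c0⁻¹) := by
    rintro _ ⟨h, hh, rfl⟩
    obtain ⟨-, hx, hb, hβ⟩ := R.mem_levi.1 hh
    exact ⟨LargeData.commute_conj_iff'.2 hx, LargeData.commute_conj_iff'.2 hb, LargeData.commute_conj_iff'.2 hβ⟩
  set t := c0 * h16 * c0⁻¹ with htdef
  set v := c0 * h32 * c0⁻¹ with hvdef
  set r := c0 * h3 * c0⁻¹ with hrdef
  have mt : t ∈ H' := hmem hh16
  have mv : v ∈ H' := hmem hh32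
  have mr : r ∈ H' := hmem hh3
  have hlam := lam_facts
  simp only [Bool.and_eq_true, beq_iff_eq] at hlam
  obtain ⟨⟨⟨⟨⟨⟨⟨⟨⟨⟨⟨⟨⟨⟨⟨-, -⟩, -⟩, -⟩, -⟩, -⟩, -⟩, hr3⟩, -⟩, hr6⟩, hr1⟩, hr16⟩, hr32⟩, h1632⟩, -⟩, -⟩ := hlam
  have hrl : ∀ u, (rho u).length = 6 := F.rho_len
  have mul48 : Acts z Q p (t * v) (rho 48) := h1632 ▸ F.sys.acts_mul (hrl 32) A16 A32
  have hinv : ∀ {g : G} {u : Nat}, u ∈ [16, 32] → g ∈ H' → Acts z Q p g (rho u) → g * g = 1 := by
    intro g u hu hg hA
    refine huniq rfl (H'.mul_mem hg hg) H'.one_mem ?_ F.sys.acts_one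
    have := F.sys.acts_mul (hrl u) hA hA
    rwa [(show ∀ u ∈ [16, 32], comp (rho u) (rho u) = one by decide +kernel) u hu] at this
  have htt := hinv (u := 16) (by simp) mt A16
  have hvv := hinv (u := 32) (by simp) mv A32
  have htv : Commute t v := by
    refine huniq (hrl 48) (H'.mul_mem mt mv) (H'.mul_mem mv mt) mul48 ?_
    rw [show rho 48 = comp (rho 32) (rho 16) by decide +kernel]
    exact F.sys.acts_mul (hrl 16) A32 A16
  have hrc : Commute r (k * z * k⁻¹) := by
    have hr0 : r * (r * r) = 1 := by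
      refine huniq rfl (H'.mul_mem mr (H'.mul_mem mr mr)) H'.one_mem ?_ F.sys.acts_one
      have := F.sys.acts_mul (B := comp rthreeM rthreeM) (by rw [length_comp]; rfl) A3
        (F.sys.acts_mul (show rthreeM.length = 6 from rfl) A3 A3)
      rwa [hr3] at this
    obtain ⟨i, e⟩ := F.sys.eq_of_p F.memQ (F.sys.large.conj_mem A3.1 F.memQ) (by rw [A3.2 _ F.memQ, F.px, hr1])
    cases i
    · rw [show sg z false = 1 from rfl, mul_one] at e
      exact mul_inv_eq_iff_eq_mul.1 e
    · exfalso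
      rw [show sg z true = z from rfl] at e
      have hz : r * z * r⁻¹ = z := by rw [A3.1.eq, mul_inv_cancel_right]
      have e3 : r * (r * r) * (k * z * k⁻¹) * (r * (r * r))⁻¹ = k * z * k⁻¹ * z := by
        generalize k * z * k⁻¹ = x at e ⊢
        have e2 : r * r * x * (r * r)⁻¹ = x := by
          calc r * r * x * (r * r)⁻¹ = r * (r * x * r⁻¹) * r⁻¹ := by group
            _ = r * (x * z) * r⁻¹ := by rw [e]
            _ = r * x * r⁻¹ * (r * z * r⁻¹) := by group
            _ = x := by rw [e, hz, mul_assoc x z z, F.sys.large.mul_self_z, mul_one]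
        calc r * (r * r) * x * (r * (r * r))⁻¹ = r * (r * r * x * (r * r)⁻¹) * r⁻¹ := by group
          _ = x * z := by rw [e2, e]
      rw [hr0, one_mul, inv_one, mul_one] at e3
      exact F.sys.large.z_ne_one (left_eq_mul.1 e3)
  obtain ⟨n, hn⟩ := F.exists_rep (v := 16) (by decide +kernel) A16
    (F.comm_x_of_invol (by decide +kernel) (by norm_num) A16 htt)
  obtain ⟨m, hm⟩ := F.exists_rep (v := 32) (by decide +kernel) A32
    (F.comm_x_of_invol (by decide +kernel) (by norm_num) A32 hvv)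
  set a := c0 * (k * z * k⁻¹) * c0⁻¹ with hadef
  set a' := c0 * b * c0⁻¹ with ha'def
  have haQ : a ∈ Q := F.sys.large.conj_mem hc0.1 F.memQ
  have ha'Q : a' ∈ Q := F.sys.large.conj_mem hc0.1 R.b_mem
  have hpa : p a = 4 := by rw [hadef, hc0.2 _ F.memQ, F.px, hcz1]
  have hpa' : p a' = 8 := by rw [ha'def, hc0.2 _ R.b_mem, R.b_vec, hcz2]
  have Ra := F.rep_of_mem haQ (by rw [hpa]; decide +kernel)
  have Ra' := F.rep_of_mem ha'Q (by rw [hpa']; decide +kernel)
  rw [hpa] at Ra
  rw [hpa'] at Ra'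
  refine ⟨t, v, F, ⟨n, m, hn, hm, ?_⟩, ⟨r, A3, hrc, ?_, ?_⟩, a, a', c0 * β * c0⁻¹, haQ, ha'Q, hpa, hpa',
    (hprop mt).2.2.symm, (hprop mv).2.2.symm, ?_⟩
  · simp only [fourB, Bool.and_eq_true]
    exact ⟨⟨⟨⟨⟨⟨(F.rep_invol_iff hn).1 htt, (F.rep_invol_iff hm).1 hvv⟩, (F.rep_commute_iff hn hm).1 htv⟩,
      (F.rep_commute_iff hn Ra).1 (hprop mt).1⟩, (F.rep_commute_iff hn Ra').1 (hprop mt).2.1⟩,
      (F.rep_commute_iff hm Ra).1 (hprop mv).1⟩, (F.rep_commute_iff hm Ra').1 (hprop mv).2.1⟩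
  · exact huniq (hrl 32) (H'.mul_mem (H'.mul_mem mr mt) (H'.inv_mem mr)) mv
      (F.sys.acts_conj rfl (hrl 16) (hrl 32) A3 A16 hr16) A32
  · exact huniq (hrl 48) (H'.mul_mem (H'.mul_mem mr mv) (H'.inv_mem mr)) (H'.mul_mem mt mv)
      (F.sys.acts_conj rfl (hrl 32) (hrl 48) A3 A32 hr32) mul48
  · calc c0 * β * c0⁻¹ * z * (c0 * β * c0⁻¹)⁻¹ = c0 * (β * (c0⁻¹ * z * c0) * β⁻¹) * c0⁻¹ := by group
      _ = c0 * z * c0⁻¹ * (c0 * (k * z * k⁻¹) * c0⁻¹) := by
          rw [hc0.1.inv_left.eq, inv_mul_cancel_right, R.β_z]; group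
      _ = _ := by rw [hc0.1.eq, mul_inv_cancel_right]

namespace Four

variable {t v : G} (W : Four z Q p k t v)
include W

local notation "X" => k * z * k⁻¹
local notation "P" => Q.map (MulAut.conj k).toMonoidHom

theorem reps : ∃ n m, Rep z Q p k t 16 n ∧ Rep z Q p k v 32 m ∧ (n, m) ∈ fourList := by
  obtain ⟨n, m, hn, hm, h⟩ := W.rep
  refine ⟨n, m, hn, hm, List.mem_filter.2 ⟨List.mem_flatMap.2 ⟨n, ?_, List.mem_map.2 ⟨m, ?_, rfl⟩⟩, h⟩⟩ <;>
    simp [vecs, hn.2.1, hn.2.2.1, hm.2.1, hm.2.2.1]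

theorem sq_t : t * t = 1 := by
  obtain ⟨n, m, hn, hm, h⟩ := W.rep
  simp only [fourB, Bool.and_eq_true] at h
  exact (W.frame.rep_invol_iff hn).2 h.1.1.1.1.1.1

theorem sq_v : v * v = 1 := by
  obtain ⟨n, m, hn, hm, h⟩ := W.rep
  simp only [fourB, Bool.and_eq_true] at h
  exact (W.frame.rep_invol_iff hm).2 h.1.1.1.1.1.2

theorem comm_tv : Commute t v := by
  obtain ⟨n, m, hn, hm, h⟩ := W.rep
  simp only [fourB, Bool.and_eq_true] at h
  exact (W.frame.rep_commute_iff hn hm).2 h.1.1.1.1.2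

theorem acts_t : Acts z Q p t (rho 16) := by
  obtain ⟨n, m, hn, -⟩ := W.rep
  exact W.frame.rep_acts hn

theorem acts_v : Acts z Q p v (rho 32) := by
  obtain ⟨n, m, -, hm, -⟩ := W.rep
  exact W.frame.rep_acts hm

theorem acts_tv : Acts z Q p (t * v) (rho 48) := by
  have := W.frame.sys.acts_mul (W.frame.rho_len 32) W.acts_t W.acts_v
  rwa [show comp (rho 16) (rho 32) = rho 48 by decide +kernel] at this

theorem comm_xt : Commute t X := by
  obtain ⟨n, m, hn, -⟩ := W.rep
  exact W.frame.rep_comm_x hn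

theorem comm_xv : Commute v X := by
  obtain ⟨n, m, -, hm, -⟩ := W.rep
  exact W.frame.rep_comm_x hm

/-- The lifts of the vectors `4` and `8` centralize the four-group. -/
theorem comm_lift {a : G} (ha : a ∈ Q) (h : p a = 4 ∨ p a = 8) : Commute t a ∧ Commute v a := by
  obtain ⟨n, m, hn, hm, hf⟩ := W.rep
  simp only [fourB, Bool.and_eq_true] at hf
  have ha1 : bb (p a) 1 = false := by rcases h with e | e <;> rw [e] <;> decide +kernel
  have Ra := W.frame.rep_of_mem ha ha1
  rcases h with e | e <;> rw [e] at Ra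
  · exact ⟨(W.frame.rep_commute_iff hn Ra).2 hf.1.1.1.2, (W.frame.rep_commute_iff hm Ra).2 hf.1.2⟩
  · exact ⟨(W.frame.rep_commute_iff hn Ra).2 hf.1.1.2, (W.frame.rep_commute_iff hm Ra).2 hf.2⟩

/-- An element inducing a Siegel element and commuting with `t` or `v` commutes with `x`. -/
theorem comm_x_of_comm {c : G} {u : Nat} (hu : u ∈ sect) (hA : Acts z Q p c (rho u))
    (h : Commute c t ∨ Commute c v) : Commute c X := by
  have F := W.frame
  obtain ⟨n, m, hn, hm, -⟩ := W.rep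
  obtain ⟨s, hs, hsz, hsA⟩ := F.exists_s hu
  have hq : s⁻¹ * c ∈ Q := F.sys.inv_mul_mem hsA hA
  obtain ⟨q, rfl⟩ : ∃ q, c = s * q := ⟨s⁻¹ * c, (mul_inv_cancel_left s c).symm⟩
  rw [inv_mul_cancel_left] at hq
  have hsR : Rep z Q p k s u 0 :=
    ⟨hu, by norm_num, bb_zero_left 1, s, 1, hs, hsz, hsA, Q.one_mem, F.sys.p_one, (mul_one s).symm⟩
  refine (F.sys'.large.commute_z hs).mul_left ((F.comm_x hq).2 ?_)
  have key : ∀ {w : Nat} {d : G} {l : Nat}, w ∈ [16, 32] → Rep z Q p k d w l → Commute (s * q) d →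
      bb (p q) 1 = false := by
    intro w d l hw hd hc
    have e := F.rep_comm hsR hd
    have hqd : q * d * q⁻¹ * d⁻¹ = sg z (cz u 0 w l) * sg X (cx u 0 w l) := by
      have h1 : q * d * q⁻¹ * d⁻¹ = s⁻¹ * (s * q * d * (s * q)⁻¹ * (s * d * s⁻¹)⁻¹) * s := by group
      rw [h1, hc.eq, mul_inv_cancel_right, show d * (s * d * s⁻¹)⁻¹ = (s * d * s⁻¹ * d⁻¹)⁻¹ by group, e,
        mul_inv_rev, F.sys'.sg_inv, F.sys.sg_inv, (F.sys.sg_comm (F.sys'.sg_comm F.z_comm_x _).symm _).eq,
        mul_assoc s⁻¹, ← (F.pair_comm hsz (F.sys'.large.commute_z hs) _ _).eq, inv_mul_cancel_left]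
    have hdA := F.rep_acts hd
    have hp := congrArg p hqd
    rw [show q * d * q⁻¹ * d⁻¹ = q * (d * q⁻¹ * d⁻¹) by group,
      F.sys.map_mul _ hq _ (F.sys.large.conj_mem hdA.1 (Q.inv_mem hq)), hdA.2 _ (Q.inv_mem hq), F.sys.p_inv hq,
      F.p_pair] at hp
    have hpe := List.all_eq_true.1 (List.all_eq_true.1 far_perp w hw) _ (List.mem_range.2 (F.sys.lt q hq))
    rw [hp] at hpe
    revert hpe
    cases cx u 0 w l <;> simp
  rcases h with h | h
  · exact key (by simp) hn h
  · exact key (by simp) hm h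

/-- Commuting with one of `t`, `v` implies commuting with the other, for Siegel elements. -/
theorem star {c : G} {u : Nat} (hu : u ∈ sect) (hA : Acts z Q p c (rho u)) : Commute c t ↔ Commute c v := by
  have F := W.frame
  obtain ⟨n, m, hn, hm, hf⟩ := W.reps
  have key : Commute c t ∨ Commute c v → (Commute c t ↔ Commute c v) := by
    intro h
    obtain ⟨a, ha⟩ := F.exists_rep hu hA (W.comm_x_of_comm hu hA h)
    have hs := List.all_eq_true.1 (List.all_eq_true.1 (List.all_eq_true.1 fourList_star _ hf) u hu) a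
      (List.mem_range.2 ha.2.1)
    simp only [ha.2.2.1, Bool.false_or, beq_iff_eq] at hs
    rw [F.rep_commute_iff ha hn, F.rep_commute_iff ha hm, hs]
  exact ⟨fun h => (key (Or.inl h)).1 h, fun h => (key (Or.inr h)).2 h⟩

/-- The centralizer in `C(z)` of the four-group induces Siegel elements. -/
theorem image_four {c : G} (hz : Commute c z) (ht : Commute c t) (hv : Commute c v) :
    ∃ u ∈ sect, Acts z Q p c (rho u) := by
  have F := W.frame
  obtain ⟨A, hA, hcA⟩ := F.sys.exists_acts hz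
  have h1 := F.fix_one hA hcA W.acts_t ht
  have h := List.all_eq_true.1 cand_four A (mem_cand1 hA h1)
  simp only [F.sys.comm_of_commute hA.1 (F.rho_len 16) hcA W.acts_t ht,
    F.sys.comm_of_commute hA.1 (F.rho_len 32) hcA W.acts_v hv, beq_self_eq_true, Bool.not_true,
    Bool.false_or] at h
  obtain ⟨u, hu, rfl⟩ := List.mem_map.1 (F.sys.good_of_half hA.1 hcA (fun B hB => F.rhoList_acts hB) h)
  exact ⟨u, hu, hcA⟩

/-- The centralizer of the four-group in `C(z)`. -/
theorem card_four : Nat.card (Subgroup.centralizer ({z} : Set G) ⊓ Subgroup.centralizer ({t} : Set G) ⊓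
    Subgroup.centralizer ({v} : Set G) : Subgroup G) = 256 := by
  classical
  have F := W.frame
  obtain ⟨n, m, hn, hm, hf⟩ := W.reps
  set T := (Subgroup.centralizer ({z} : Set G) ⊓ Subgroup.centralizer ({t} : Set G) ⊓
    Subgroup.centralizer ({v} : Set G) : Subgroup G) with hT
  have hlen := List.all_eq_true.1 pairList_len _ hf
  simp only [beq_iff_eq] at hlen
  have hnd : (pairList n m).Nodup := by
    refine List.Nodup.filter _ ?_
    exact (show (sect.flatMap fun u => (vecs fun a => !bb a 1).map fun a => (u, a)).Nodup by decide +kernel)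
  have hmemT : ∀ {g : G}, g ∈ T ↔ Commute g z ∧ Commute g t ∧ Commute g v := by
    intro g
    rw [hT, Subgroup.mem_inf, Subgroup.mem_inf, mem_centralizer_singleton_iff', mem_centralizer_singleton_iff',
      mem_centralizer_singleton_iff']
    exact ⟨fun h => ⟨h.1.1, h.1.2, h.2⟩, fun h => ⟨⟨h.1, h.2.1⟩, h.2.2⟩⟩
  have hex : ∀ e ∈ pairList n m, ∃ g : G, Rep z Q p k g e.1 e.2 ∧ g ∈ T ∧
      (sOf z Q p k e.1)⁻¹ * g ∈ Q ∧ p ((sOf z Q p k e.1)⁻¹ * g) = e.2 := by
    rintro ⟨u, a⟩ he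
    obtain ⟨he1, he2⟩ := List.mem_filter.1 he
    obtain ⟨u', hu, he1⟩ := List.mem_flatMap.1 he1
    obtain ⟨a', ha, he1⟩ := List.mem_map.1 he1
    obtain ⟨rfl, rfl⟩ := Prod.mk.inj he1
    obtain ⟨ha64, ha1⟩ := List.mem_filter.1 ha
    rw [Bool.not_eq_true'] at ha1
    obtain ⟨hc1, hc2⟩ := Bool.and_eq_true_iff.1 he2
    obtain ⟨q, hq, hpq⟩ := F.sys.surj a' (List.mem_range.1 ha64)
    obtain ⟨h1, h2, h3⟩ := F.sOf_spec hu
    have hR : Rep z Q p k (sOf z Q p k u' * q) u' a' :=
      ⟨hu, List.mem_range.1 ha64, ha1, _, q, h1, h2, h3, hq, hpq, rfl⟩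
    refine ⟨_, hR, hmemT.2 ⟨(F.rep_acts hR).1, (F.rep_commute_iff hR hn).2 hc1, (F.rep_commute_iff hR hm).2 hc2⟩,
      ?_, ?_⟩
    · rwa [inv_mul_cancel_left]
    · rw [inv_mul_cancel_left, hpq]
  choose g hgR hgT hgQ hgp using hex
  have hcard : (pairList n m).toFinset.card = 128 := by rw [List.toFinset_card_of_nodup hnd, hlen]
  let f : ↥((pairList n m).toFinset) × Bool → T := fun x =>
    ⟨g x.1.1 (List.mem_toFinset.1 x.1.2) * sg z x.2, T.mul_mem (hgT _ _) (hmemT.2
      ⟨(F.sys.sg_comm (Commute.refl z) x.2).symm, (F.sys.sg_comm W.acts_t.1 x.2).symm,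
        (F.sys.sg_comm W.acts_v.1 x.2).symm⟩)⟩
  have hf' : Function.Bijective f := by
    constructor
    · rintro ⟨⟨e1, h1⟩, a⟩ ⟨⟨e2, h2⟩, a'⟩ heq
      have e' : g e1 (List.mem_toFinset.1 h1) * sg z a = g e2 (List.mem_toFinset.1 h2) * sg z a' :=
        congrArg Subtype.val heq
      set g1 := g e1 (List.mem_toFinset.1 h1) with hg1
      set g2 := g e2 (List.mem_toFinset.1 h2) with hg2
      have hg : g2 = g1 * (sg z a * (sg z a')⁻¹) := by rw [← mul_assoc, e', mul_inv_cancel_right]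
      have hA2 := F.rep_acts (hgR e2 (List.mem_toFinset.1 h2))
      rw [← hg2] at hA2
      have hm1 : g1⁻¹ * g2 ∈ Q := by
        rw [hg, inv_mul_cancel_left]
        exact Q.mul_mem (F.sys.sg_mem a) (Q.inv_mem (F.sys.sg_mem a'))
      have hA1 : Acts z Q p g2 (rho e1.1) := by
        have := F.sys.acts_mul (show one.length = 6 from rfl) (F.rep_acts (hgR e1 (List.mem_toFinset.1 h1)))
          (F.sys.acts_of_mem hm1)
        rw [← hg1, mul_inv_cancel_left] at this
        rwa [show comp (rho e1.1) one = rho e1.1 by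
          unfold rho; simp [comp, one, app, term, Nat.testBit, Nat.shiftRight_eq_div_pow]] at this
      have hu := F.rho_unique (hgR e1 (List.mem_toFinset.1 h1)).1 (hgR e2 (List.mem_toFinset.1 h2)).1 hA1 hA2
      have hn2 : e1.2 = e2.2 := by
        rw [← hgp e1 (List.mem_toFinset.1 h1), ← hgp e2 (List.mem_toFinset.1 h2), ← hg1, ← hg2, hg, ← hu,
          ← mul_assoc (sOf z Q p k e1.1)⁻¹ g1, F.sys.map_mul _ (hgQ e1 (List.mem_toFinset.1 h1)) _
            (Q.mul_mem (F.sys.sg_mem a) (Q.inv_mem (F.sys.sg_mem a'))),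
          F.sys.map_mul _ (F.sys.sg_mem a) _ (Q.inv_mem (F.sys.sg_mem a')), F.sys.p_inv (F.sys.sg_mem a'),
          F.sys.p_sg, F.sys.p_sg]
        simp [hg1]
      obtain rfl : e1 = e2 := Prod.ext hu hn2
      rw [hg1, hg2] at *
      exact Prod.ext rfl (F.sys.sg_inj (mul_left_cancel e'))
    · rintro ⟨c, hc⟩
      obtain ⟨hcz, hct, hcv⟩ := hmemT.1 hc
      obtain ⟨u, hu, hA⟩ := W.image_four hcz hct hcv
      obtain ⟨h1, h2, h3⟩ := F.sOf_spec hu
      have hq : (sOf z Q p k u)⁻¹ * c ∈ Q := F.sys.inv_mul_mem h3 hA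
      have hx := W.comm_x_of_comm hu hA (Or.inl hct)
      have hq1 := (F.comm_x hq).1 ((F.sys'.large.commute_z h1).inv_left.mul_left hx)
      have hR : Rep z Q p k c u (p ((sOf z Q p k u)⁻¹ * c)) :=
        ⟨hu, F.sys.lt _ hq, hq1, _, _, h1, h2, h3, hq, rfl, (mul_inv_cancel_left _ _).symm⟩
      have hmem : (u, p ((sOf z Q p k u)⁻¹ * c)) ∈ pairList n m := by
        refine List.mem_filter.2 ⟨List.mem_flatMap.2 ⟨u, hu, List.mem_map.2 ⟨_, List.mem_filter.2 ⟨?_, ?_⟩, rfl⟩⟩, ?_⟩
        · exact List.mem_range.2 (F.sys.lt _ hq)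
        · simp [hq1]
        · simp [(F.rep_commute_iff hR hn).1 hct, (F.rep_commute_iff hR hm).1 hcv]
      obtain ⟨j, ej⟩ := F.sys.eq_of_p (hgQ _ hmem) hq (hgp _ hmem)
      refine ⟨(⟨_, List.mem_toFinset.2 hmem⟩, j), Subtype.ext ?_⟩
      rw [mul_assoc] at ej
      exact (mul_left_cancel ej).symm
  rw [← Nat.card_eq_of_bijective f hf', Nat.card_prod, Nat.card_eq_fintype_card, Fintype.card_coe, hcard]
  simp

/-- An element of `C(z) ∩ C(t)` exchanging `v` and `t * v`. -/
theorem exists_swap : ∃ e, Acts z Q p e lamM ∧ Commute e t ∧ e * v * e⁻¹ = t * v := by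
  have F := W.frame
  have hlam := lam_facts
  simp only [Bool.and_eq_true, beq_iff_eq] at hlam
  obtain ⟨⟨⟨⟨⟨⟨⟨⟨⟨⟨⟨⟨⟨⟨⟨hl16, hl32⟩, hl1⟩, hl4⟩, hl8⟩, hll⟩, hlr⟩, -⟩, hr6⟩, -⟩, -⟩, -⟩, -⟩, -⟩, -⟩, -⟩ := hlam
  obtain ⟨hl, c0, hc0⟩ := F.sys.acts_word lamW
  have hw := data_words
  simp only [Bool.and_eq_true, beq_iff_eq] at hw
  rw [← hw.1.1.1.1] at hc0
  obtain ⟨c, hc, hcx⟩ := F.exists_fix hc0 hl1 hll
  obtain ⟨n, m, hn, hm, hf⟩ := W.reps
  obtain ⟨a, a', -, haQ, ha'Q, hpa, hpa', -⟩ := W.wit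
  have hA' := F.sys.acts_conj hll (F.rho_len 16) (F.rho_len 16) hc W.acts_t hl16
  have htt := W.sq_t
  have hcc := conj_sq_one htt c
  obtain ⟨q, hq, eq', hfix, -⟩ := F.sys.coset htt hcc W.acts_t hA'
  have hqfix := List.all_eq_true.1 far_centric _ (List.mem_range.2 (F.sys.lt q hq))
  simp only [fixB, hfix, beq_self_eq_true, Bool.not_true, Bool.false_or, Bool.and_eq_true,
    Bool.not_eq_true'] at hqfix
  have hR' := F.rep_mul_q hn hq hqfix.1
  rw [← eq'] at hR'
  have hcom : ∀ b ∈ Q, p b = 4 ∨ p b = 8 → Commute (c * t * c⁻¹) b := by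
    intro b hb hpb
    have hb' : c⁻¹ * b * c ∈ Q := by
      have := F.sys.large.conj_mem hc.1.inv_left hb
      rwa [inv_inv] at this
    have hp : p (c⁻¹ * b * c) = 4 ∨ p (c⁻¹ * b * c) = 8 := by
      have e := hc.2 _ hb'
      rw [show c * (c⁻¹ * b * c) * c⁻¹ = b by group] at e
      rcases hpb with e1 | e1 <;> rw [e1] at e
      · exact Or.inr (F.sys.app_inj hc (F.sys.lt _ hb') (by norm_num) (by rw [← e, hl8]))
      · exact Or.inl (F.sys.app_inj hc (F.sys.lt _ hb') (by norm_num) (by rw [← e, hl4]))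
    have := (LargeData.commute_conj_iff' (g := c)).2 (W.comm_lift hb' hp).1
    rwa [show c * (c⁻¹ * b * c) * c⁻¹ = b by group] at this
  have Ra := F.rep_of_mem haQ (by rw [hpa]; decide +kernel)
  have Ra' := F.rep_of_mem ha'Q (by rw [hpa']; decide +kernel)
  rw [hpa] at Ra
  rw [hpa'] at Ra'
  have him := List.all_eq_true.1 (List.all_eq_true.1 shift_im _ hf) _ (List.mem_range.2 (F.sys.lt q hq))
  simp only [hqfix.1, (F.rep_commute_iff hR' Ra).1 (hcom a haQ (Or.inl hpa)),
    (F.rep_commute_iff hR' Ra').1 (hcom a' ha'Q (Or.inr hpa')), (F.rep_invol_iff hR').1 hcc, Bool.not_true,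
    Bool.false_or] at him
  obtain ⟨δ, hδ, hδt⟩ := F.sys.conj_of_im htt W.acts_t hq him
  obtain ⟨γ, hγ, hpγ⟩ := F.sys.surj 16 (by norm_num)
  have hγt : γ * t * γ⁻¹ = t * z := by
    have hfun := List.all_eq_true.1 (List.all_eq_true.1 far_functional _ hf) 16 (List.mem_range.2 (by norm_num))
    have h16 : fixB (rho 16) 16 = true := by decide +kernel
    simp only [h16, Bool.not_true, Bool.false_or, Bool.and_eq_true, beq_iff_eq, Bool.not_eq_true'] at hfun
    have e := F.rep_comm hn (F.rep_of_mem hγ (by rw [hpγ]; decide +kernel))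
    have hb16 : bb n 16 = true := by
      have h' := List.all_eq_true.1 fourList_first _ hf
      simp only [List.contains_iff_mem] at h'
      revert h'
      generalize n = n'
      revert n'
      intro n' h'
      fin_cases h' <;> decide +kernel
    rw [hpγ, hfun.1.2, hfun.2, hb16, show sg X false = 1 from rfl, mul_one, inv_of_sq htt] at e
    change t * γ * t * γ⁻¹ = z at e
    calc γ * t * γ⁻¹ = t * (t * γ * t * γ⁻¹) := by
          simp only [← mul_assoc, htt, one_mul]
      _ = t * z := by rw [e]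
  obtain ⟨d, hd, hdt⟩ : ∃ d ∈ Q, d * t * d⁻¹ = c * t * c⁻¹ := by
    rcases hδt with e | e
    · exact ⟨δ, hδ, e.trans eq'.symm⟩
    · refine ⟨γ * δ, Q.mul_mem hγ hδ, ?_⟩
      have hγq : γ * q * γ⁻¹ = q := by
        rw [F.sys.conj_eq hq hγ, hpγ, bb_comm, hqfix.2]
        exact mul_one q
      calc γ * δ * t * (γ * δ)⁻¹ = γ * (δ * t * δ⁻¹) * γ⁻¹ := by group
        _ = γ * t * γ⁻¹ * (γ * q * γ⁻¹) * (γ * z * γ⁻¹) := by rw [e]; group
        _ = t * (z * q) * z := by
          rw [hγt, hγq, (F.sys.large.commute_z hγ).eq, mul_inv_cancel_right, mul_assoc t z q]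
        _ = c * t * c⁻¹ := by
          rw [eq', ← (F.sys.large.commute_z hq).eq, mul_assoc, mul_assoc q, F.sys.large.mul_self_z, mul_one]
  set e := d⁻¹ * c with hedef
  have heA : Acts z Q p e lamM := by
    have := F.sys.acts_mul hll (F.sys.acts_of_mem (Q.inv_mem hd)) hc
    rwa [show comp one lamM = lamM by decide +kernel] at this
  have het : e * t * e⁻¹ = t := by
    calc e * t * e⁻¹ = d⁻¹ * (c * t * c⁻¹) * d := by rw [hedef]; group
      _ = t := by rw [← hdt]; group
  refine ⟨e, heA, mul_inv_eq_iff_eq_mul.1 het, ?_⟩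
  -- the image of `v` differs from `t * v` by a member of the small four-group
  set w := e * v * e⁻¹ with hw'
  have hwA : Acts z Q p w (rho 48) := F.sys.acts_conj hll (F.rho_len 32) (F.rho_len 48) heA W.acts_v hl32
  have hr : (t * v)⁻¹ * w ∈ Q := F.sys.inv_mul_mem W.acts_tv hwA
  have hwt : Commute w t := by
    have := (LargeData.commute_conj_iff' (g := e)).2 W.comm_tv.symm
    rwa [het, ← hw'] at this
  have hrt : Commute ((t * v)⁻¹ * w) t :=
    ((Commute.refl t).mul_left W.comm_tv.symm).inv_left.mul_left hwt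
  have hrb : ∀ b ∈ Q, p b = 4 ∨ p b = 8 → Commute ((t * v)⁻¹ * w) b := by
    intro b hb hpb
    refine ((W.comm_lift hb hpb).1.mul_left (W.comm_lift hb hpb).2).inv_left.mul_left ?_
    have hb' : e⁻¹ * b * e ∈ Q := by
      have := F.sys.large.conj_mem heA.1.inv_left hb
      rwa [inv_inv] at this
    have hp : p (e⁻¹ * b * e) = 4 ∨ p (e⁻¹ * b * e) = 8 := by
      have e1 := heA.2 _ hb'
      rw [show e * (e⁻¹ * b * e) * e⁻¹ = b by group] at e1
      rcases hpb with e2 | e2 <;> rw [e2] at e1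
      · exact Or.inr (F.sys.app_inj heA (F.sys.lt _ hb') (by norm_num) (by rw [← e1, hl8]))
      · exact Or.inl (F.sys.app_inj heA (F.sys.lt _ hb') (by norm_num) (by rw [← e1, hl4]))
    have := (LargeData.commute_conj_iff' (g := e)).2 (W.comm_lift hb' hp).2
    rwa [show e * (e⁻¹ * b * e) * e⁻¹ = b by group] at this
  have hrA : Acts z Q p ((t * v)⁻¹ * w) (rho 0) := by rw [F.rho_zero]; exact F.sys.acts_of_mem hr
  have hr1 := (F.comm_x hr).1 (W.comm_x_of_comm zero_mem_sect hrA (Or.inl hrt))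
  have hRr := F.rep_of_mem hr hr1
  have hsmall := List.all_eq_true.1 (List.all_eq_true.1 fourList_comm _ hf) _ (List.mem_range.2 (F.sys.lt _ hr))
  simp only [hr1, (F.rep_commute_iff hRr hn).1 hrt, (F.rep_commute_iff hRr Ra).1 (hrb a haQ (Or.inl hpa)),
    (F.rep_commute_iff hRr Ra').1 (hrb a' ha'Q (Or.inr hpa')), Bool.not_true, Bool.false_or,
    Bool.or_eq_true, beq_iff_eq] at hsmall
  obtain ⟨i, j, hij⟩ : ∃ i j, (t * v)⁻¹ * w = sg z i * sg X j := by
    rcases hsmall with e0 | e0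
    · obtain ⟨i, ei⟩ := F.sys.eq_of_p Q.one_mem hr (by rw [F.sys.p_one, e0])
      exact ⟨i, false, by rw [ei, one_mul]; exact (mul_one _).symm⟩
    · obtain ⟨i, ei⟩ := F.sys.eq_of_p F.memQ hr (by rw [F.px, e0])
      exact ⟨i, true, by rw [ei, (F.sys.sg_comm F.z_comm_x.symm i).eq]; rfl⟩
  set n0 := sg z i * sg X j with hn0
  have hwe : w = t * v * n0 := by rw [← hij, mul_inv_cancel_left]
  -- compare the two rotations
  obtain ⟨r, hrr, hrx, hrtv, hrvtv⟩ := W.rot
  set r' := e * r * e⁻¹ with hr'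
  have hrn : ∀ g : G, Commute g z → Commute g X → g * n0 * g⁻¹ = n0 := fun g hgz hgx => by
    rw [(F.pair_comm hgz hgx i j).eq, mul_inv_cancel_right]
  have hr'z : Commute r' z := (heA.1.mul_left hrr.1).mul_left heA.1.inv_left
  have hr'x : Commute r' X := by
    obtain ⟨i', ei⟩ := F.sys.eq_of_p (F.sys.large.conj_mem heA.1 F.memQ) F.memQ
      (by rw [heA.2 _ F.memQ, F.px, hl1])
    have h1 : Commute r' (e * X * e⁻¹) := LargeData.commute_conj_iff'.2 hrx
    rw [ei]
    exact h1.mul_right (F.sys.sg_comm hr'z i')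
  have hn0t : Commute n0 t := (F.pair_comm W.acts_t.1 W.comm_xt i j).symm
  have h1 : r' * t * r'⁻¹ = t * v * n0 := by
    rw [← hwe, hw', ← hrtv, hr', show e * r * e⁻¹ * t * (e * r * e⁻¹)⁻¹ = e * (r * (e⁻¹ * t * e) * r⁻¹) * e⁻¹ by
      group, show e⁻¹ * t * e = t by nth_rewrite 1 [← het]; group]
  have h2 : r' * (t * v) * r'⁻¹ = v := by
    have h2' : r' * (t * v * n0) * r'⁻¹ = v * n0 := by
      calc r' * (t * v * n0) * r'⁻¹ = e * (r * v * r⁻¹) * e⁻¹ := by rw [← hwe, hw', hr']; group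
        _ = e * t * e⁻¹ * (e * v * e⁻¹) := by rw [hrvtv]; group
        _ = _ := by rw [het, ← hw', hwe, ← mul_assoc t (t * v) n0, ← mul_assoc t t v, W.sq_t, one_mul]
    calc r' * (t * v) * r'⁻¹ = r' * (t * v * n0) * r'⁻¹ * (r' * n0 * r'⁻¹)⁻¹ := by group
      _ = v := by rw [h2', hrn r' hr'z hr'x, mul_inv_cancel_right]
  have h3 : r' * v * r'⁻¹ = t * n0 := by
    calc r' * v * r'⁻¹ = r' * t * r'⁻¹ * (r' * (t * v) * r'⁻¹) := by
          simp only [← mul_assoc]
          rw [inv_mul_cancel_right, mul_assoc r' t t, W.sq_t, mul_one]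
      _ = t * n0 := by
          rw [h1, h2, mul_assoc (t * v), (F.pair_comm W.acts_v.1 W.comm_xv i j).symm.eq, ← mul_assoc (t * v),
            mul_assoc t v v, W.sq_v, mul_one]
  set g := r' * r with hg
  have hgA : Acts z Q p g (rho 0) := by
    have hr'A : Acts z Q p r' (comp rthreeM rthreeM) :=
      F.sys.acts_conj hll rfl (by rw [length_comp]; rfl) heA hrr hlr
    have := F.sys.acts_mul (show rthreeM.length = 6 from rfl) hr'A hrr
    rwa [hr6, ← F.rho_zero] at this
  have hgv : Commute g v := by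
    refine mul_inv_eq_iff_eq_mul.1 ?_
    rw [hg, show r' * r * v * (r' * r)⁻¹ = r' * (r * v * r⁻¹) * r'⁻¹ by group, hrvtv, h2]
  have hgt : g * t * g⁻¹ = t * n0 := by
    rw [hg, show r' * r * t * (r' * r)⁻¹ = r' * (r * t * r⁻¹) * r'⁻¹ by group, hrtv, h3]
  rw [((W.star zero_mem_sect hgA).2 hgv).eq, mul_inv_cancel_right] at hgt
  rw [hwe, left_eq_mul.1 hgt, mul_one]

end Four

end CfsgLib.LocalEvenB.SuzType
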