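import Cfsg.Agent.Lib.LocalEvenB.SuzType.Locals.Far

/-!
The common centralizer of `z`, `x` and a partner in each of the two extraspecial groups: it has order 60 and maps
bijectively onto the Levi list (owner: helper8).
-/

set_option autoImplicit false
set_option linter.unusedSectionVars false
set_option linter.unusedVariables false
set_option linter.style.haveILetI false
set_option maxRecDepth 100000
set_option quotPrecheck false
set_option Elab.async false

namespace CfsgLib.LocalEvenB.SuzType

open CfsgLib.ThreeTrans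

theorem partner_count : ((List.range 64).filter fun n => !qb n && bb n 1).length = 16 ∧
    ((List.range 64).filter fun n => !qb n && !(n == 0)).length = 27 := by decide +kernel

theorem siegel_two : sect.all (fun v => !(app (rho v) 2 == 2) || v == 0) = true := by decide +kernel

theorem swl_facts : app swlM 1 = 2 ∧ app swlM 2 = 1 ∧ comp swlM swlM = one ∧ swlM.length = 6 := by decide +kernel

variable {G : Type*} [Group G] [Finite G] {z : G} {Q : Subgroup G} {p : G → Nat} {k : G}

/-- A bound by the number of conjugates. -/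
theorem card_le_conjugates (K : Subgroup G) (a : G) (S : Finset G) (h : ∀ g ∈ K, g * a * g⁻¹ ∈ S) :
    Nat.card K ≤ S.card * Nat.card (K ⊓ Subgroup.centralizer ({a} : Set G) : Subgroup G) := by
  classical
  haveI := Fintype.ofFinite K
  set m := Nat.card (K ⊓ Subgroup.centralizer ({a} : Set G) : Subgroup G) with hm
  haveI := Fintype.ofFinite (K ⊓ Subgroup.centralizer ({a} : Set G) : Subgroup G)
  have hfib : ∀ b ∈ (Finset.univ : Finset K).image (fun g : K => (g : G) * a * (g : G)⁻¹),
      ((Finset.univ : Finset K).filter fun g : K => (g : G) * a * (g : G)⁻¹ = b).card ≤ m := by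
    intro b hb
    obtain ⟨g0, -, rfl⟩ := Finset.mem_image.1 hb
    rw [hm, Nat.card_eq_fintype_card, ← Finset.card_univ]
    refine Finset.card_le_card_of_injOn (fun g => if hg : (g : G) * a * (g : G)⁻¹ = (g0 : G) * a * (g0 : G)⁻¹ then
      ⟨(g0 : G)⁻¹ * g, K.mul_mem (K.inv_mem g0.2) g.2, mem_centralizer_singleton_iff'.2 ?_⟩ else 1)
      (fun _ _ => Finset.mem_univ _) ?_
    · calc (g0 : G)⁻¹ * g * a = (g0 : G)⁻¹ * ((g : G) * a * (g : G)⁻¹) * g := by group
        _ = a * ((g0 : G)⁻¹ * g) := by rw [hg]; group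
    · intro g hg g' hg' e
      have e1 := (Finset.mem_filter.1 hg).2
      have e2 := (Finset.mem_filter.1 hg').2
      simp only [dif_pos e1, dif_pos e2] at e
      exact Subtype.ext (mul_left_cancel (congrArg Subtype.val e))
  have hle := Finset.card_le_mul_card_image (Finset.univ : Finset K) m hfib
  rw [Finset.card_univ, ← Nat.card_eq_fintype_card] at hle
  refine hle.trans ?_
  rw [mul_comm S.card]
  refine Nat.mul_le_mul le_rfl (Finset.card_le_card ?_)
  intro b hb
  obtain ⟨g, -, rfl⟩ := Finset.mem_image.1 hb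
  exact h g g.2

namespace Sys

variable (h : Sys z Q p)
include h

/-- Elements of `Q` above the vectors of a list. -/
theorem exists_above (l : List Nat) : ∃ S : Finset G, S.card ≤ 2 * l.length ∧
    ∀ a ∈ Q, p a ∈ l → a ∈ S := by
  classical
  have hex : ∀ n, ∃ a : G, n < 64 → a ∈ Q ∧ p a = n := fun n => by
    by_cases hn : n < 64
    · obtain ⟨a, ha, e⟩ := h.surj n hn
      exact ⟨a, fun _ => ⟨ha, e⟩⟩
    · exact ⟨1, fun h' => absurd h' hn⟩
  choose r hr using hex
  refine ⟨(l.toFinset ×ˢ (Finset.univ : Finset Bool)).image fun x => r x.1 * sg z x.2,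
    Finset.card_image_le.trans ?_, fun a ha hl => ?_⟩
  · rw [Finset.card_product, Finset.card_univ, Fintype.card_bool, mul_comm]
    exact Nat.mul_le_mul le_rfl (List.toFinset_card_le l)
  · obtain ⟨hr1, hr2⟩ := hr (p a) (h.lt a ha)
    obtain ⟨i, e⟩ := h.eq_of_p hr1 ha hr2
    exact Finset.mem_image.2 ⟨(p a, i), Finset.mem_product.2 ⟨List.mem_toFinset.2 hl, Finset.mem_univ _⟩, e.symm⟩

end Sys

/-- A partner pair for the vectors of `z` and `x`, with an element exchanging `x` and its partner. -/
structure Pair (z : G) (Q : Subgroup G) (p : G → Nat) (k b β : G) : Prop where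
  frame : Frame z Q p k
  b_mem : b ∈ Q
  b_vec : p b = 2
  β_mem : β ∈ Q.map (MulAut.conj k).toMonoidHom
  β_vec : p (k⁻¹ * β * k) = 2
  swap : ∃ d : G, Acts z Q p d swlM ∧ d * (k * z * k⁻¹) * d⁻¹ = b

theorem Frame.exists_pair (F : Frame z Q p k) : ∃ b β, Pair z Q p k b β := by
  obtain ⟨hl, d, hd⟩ := F.sys.acts_word swlW
  have hw := data_words
  simp only [Bool.and_eq_true, beq_iff_eq] at hw
  rw [← hw.2] at hd
  obtain ⟨β, hβ, hpβ⟩ := F.sys'.surj 2 (by norm_num)
  exact ⟨d * (k * z * k⁻¹) * d⁻¹, β, F, F.sys.large.conj_mem hd.1 F.memQ,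
    by rw [hd.2 _ F.memQ, F.px]; exact swl_facts.1, hβ, hpβ, d, hd, rfl⟩

/-- The common centralizer. -/
def leviGroup (z k b β : G) : Subgroup G :=
  Subgroup.centralizer ({z} : Set G) ⊓ Subgroup.centralizer ({k * z * k⁻¹} : Set G) ⊓
    Subgroup.centralizer ({b} : Set G) ⊓ Subgroup.centralizer ({β} : Set G)

namespace Pair

variable {b β : G} (R : Pair z Q p k b β)
include R

local notation "X" => k * z * k⁻¹
local notation "P" => Q.map (MulAut.conj k).toMonoidHom
local notation "H" => leviGroup z k b β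

theorem mem_levi {h : G} : h ∈ H ↔ Commute h z ∧ Commute h X ∧ Commute h b ∧ Commute h β := by
  simp only [leviGroup, Subgroup.mem_inf, mem_centralizer_singleton_iff']
  constructor
  · rintro ⟨⟨⟨h1, h2⟩, h3⟩, h4⟩
    exact ⟨h1, h2, h3, h4⟩
  · rintro ⟨h1, h2, h3, h4⟩
    exact ⟨⟨⟨h1, h2⟩, h3⟩, h4⟩

theorem b_sq : b * b = 1 := by
  rw [R.frame.sys.sq b R.b_mem, R.b_vec]; rfl

theorem β_sq : β * β = 1 := by
  rw [R.frame.sys'.sq β R.β_mem, R.β_vec]; rfl

theorem b_x : b * X * b⁻¹ = X * z := by
  rw [R.frame.sys.conj_eq R.frame.memQ R.b_mem, R.b_vec, R.frame.px,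
    show bb 2 1 = true by decide +kernel]
  rfl

theorem b_z : b * z * b⁻¹ = z := by
  rw [(R.frame.sys.large.commute_z R.b_mem).eq, mul_inv_cancel_right]

theorem β_z : β * z * β⁻¹ = z * X := by
  have e := R.frame.sys'.conj_eq R.frame.z_memP R.β_mem
  rw [R.β_vec, R.frame.pz, show bb 2 1 = true by decide +kernel] at e
  exact e

theorem β_x : β * X * β⁻¹ = X := by
  rw [(R.frame.sys'.large.commute_z R.β_mem).eq, mul_inv_cancel_right]

theorem eq_one_of_mem {g : G} (hg : g ∈ H) (hgQ : g ∈ Q) : g = 1 := by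
  obtain ⟨hz, hx, hb, hβ⟩ := R.mem_levi.1 hg
  have F := R.frame
  have F' := F.swap
  obtain ⟨v, hv, hA⟩ := F'.exists_rho (s := g) (by rw [F.swap_map]; exact hgQ) hx
  have hβ2 : app (rho v) 2 = 2 := by
    have e := hA.2 β R.β_mem
    rw [hβ.eq, mul_inv_cancel_right] at e
    simp only [R.β_vec] at e
    exact e.symm
  have h := List.all_eq_true.1 siegel_two v hv
  simp only [hβ2, beq_self_eq_true, Bool.not_true, Bool.false_or, beq_iff_eq] at h
  subst h
  rw [F'.rho_zero] at hA
  obtain ⟨i, j, rfl⟩ := F.inter hgQ (F'.sys.mem_of_acts_one hA)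
  cases j
  · cases i
    · exact one_mul (1 : G)
    · exfalso
      rw [show sg X false = 1 from rfl, mul_one, show sg z true = z from rfl] at hβ
      have e := R.β_z
      rw [hβ.eq.symm, mul_inv_cancel_right] at e
      exact F.sys'.large.z_ne_one (left_eq_mul.1 e)
  · exfalso
    have e := (F.sys.commute_iff hgQ R.b_mem).1 hb
    rw [F.p_pair, R.b_vec] at e
    exact absurd e (by decide +kernel)

/-- The image of a member of the group is in the Levi list. -/
theorem levi_image {h : G} (hh : h ∈ H) : ∃ A ∈ levList.map Prod.fst, A.length = 6 ∧ Acts z Q p h A := by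
  obtain ⟨hz, hx, hb, -⟩ := R.mem_levi.1 hh
  have F := R.frame
  obtain ⟨A, hA, hhA⟩ := F.sys.exists_acts hz
  have h1 : app A 1 = 1 := by
    rw [← F.px, ← hhA.2 _ F.memQ, hx.eq, mul_inv_cancel_right]
  have h2 : app A 2 = 2 := by
    rw [← R.b_vec, ← hhA.2 _ R.b_mem, hb.eq, mul_inv_cancel_right]
  have h := List.all_eq_true.1 cand_lev A (mem_cand1 hA h1)
  simp only [h2, beq_self_eq_true, Bool.not_true, Bool.false_or] at h
  refine ⟨A, F.sys.good_of_half hA.1 hhA (fun B hB => ?_) h, hA.1, hhA⟩
  obtain ⟨e, he, rfl⟩ := List.mem_map.1 hB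
  have hok := List.all_eq_true.1 levList_ok e he
  simp only [Bool.and_eq_true, beq_iff_eq] at hok
  rw [hok.1.1]
  exact (F.sys.acts_word e.2).2

theorem levi_unique {h h' : G} {A : List Nat} (hh : h ∈ H) (hh' : h' ∈ H) (hA : Acts z Q p h A)
    (hA' : Acts z Q p h' A) : h = h' :=
  inv_mul_eq_one.1 (R.eq_one_of_mem (Subgroup.mul_mem _ (Subgroup.inv_mem _ hh) hh')
    (R.frame.sys.inv_mul_mem hA hA'))

theorem card_levi : Nat.card H = 60 := by
  classical
  haveI := Fintype.ofFinite H
  have F := R.frame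
  obtain ⟨hc16, hc27⟩ := partner_count
  choose A hA hAl hAa using fun h : H => R.levi_image h.2
  have hinj : Function.Injective A := fun h h' e =>
    Subtype.ext (R.levi_unique h.2 h'.2 (hAa h) (e ▸ hAa h'))
  have hle : Nat.card H ≤ 60 := by
    rw [Nat.card_eq_fintype_card, ← Finset.card_univ]
    refine (Finset.card_le_card_of_injOn A (fun h _ => List.mem_toFinset.2 (hA h)) hinj.injOn).trans
      ((List.toFinset_card_le _).trans ?_)
    rw [List.length_map, levList_nodup.1]
  -- three orbits
  set C := Subgroup.centralizer ({z} : Set G) with hC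
  set M := C ⊓ Subgroup.centralizer ({X} : Set G) with hM
  set M2 := M ⊓ Subgroup.centralizer ({b} : Set G) with hM2
  obtain ⟨S1, hS1, hS1'⟩ := F.sys.exists_above ((List.range 64).filter fun n => !qb n && !(n == 0))
  obtain ⟨S2, hS2, hS2'⟩ := F.sys.exists_above ((List.range 64).filter fun n => !qb n && bb n 1)
  obtain ⟨S3, hS3, hS3'⟩ := F.sys'.exists_above ((List.range 64).filter fun n => !qb n && bb n 1)
  have k1 := card_le_conjugates C X S1 fun g hg => by
    have hgz : Commute g z := mem_centralizer_singleton_iff'.1 hg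
    have hm := F.sys.large.conj_mem hgz F.memQ
    refine hS1' _ hm (List.mem_filter.2 ⟨List.mem_range.2 (F.sys.lt _ hm), ?_⟩)
    have hsq : qb (p (g * X * g⁻¹)) = false :=
      F.sys.sg_inj ((F.sys.sq _ hm).symm.trans (conj_sq_one F.sys'.large.mul_self_z g))
    have hne : p (g * X * g⁻¹) ≠ 0 := fun e => by
      rcases F.sys.ker _ hm e with e' | e'
      · exact F.sys'.large.z_ne_one (conj_eq_one_iff.1 e')
      · refine F.x_ne_z ?_
        calc X = g⁻¹ * (g * X * g⁻¹) * g := by group
          _ = g⁻¹ * (z * g) := by rw [e']; group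
          _ = z := by rw [← hgz.eq, inv_mul_cancel_left]
    simp [hsq, hne]
  have k2 := card_le_conjugates M b S2 fun g hg => by
    have hgz : Commute g z := mem_centralizer_singleton_iff'.1 hg.1
    have hgx : Commute g X := mem_centralizer_singleton_iff'.1 hg.2
    have hm := F.sys.large.conj_mem hgz R.b_mem
    refine hS2' _ hm (List.mem_filter.2 ⟨List.mem_range.2 (F.sys.lt _ hm), ?_⟩)
    have hsq : qb (p (g * b * g⁻¹)) = false :=
      F.sys.sg_inj ((F.sys.sq _ hm).symm.trans (conj_sq_one R.b_sq g))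
    have hb : bb (p (g * b * g⁻¹)) 1 = true := by
      by_contra hne
      rw [Bool.not_eq_true, ← F.comm_x hm] at hne
      have e : g * X * g⁻¹ = X := by rw [hgx.eq, mul_inv_cancel_right]
      rw [← e, LargeData.commute_conj_iff', F.comm_x R.b_mem, R.b_vec] at hne
      exact absurd hne (by decide +kernel)
    simp [hsq, hb]
  have k3 := card_le_conjugates M2 β S3 fun g hg => by
    have hgz : Commute g z := mem_centralizer_singleton_iff'.1 hg.1.1
    have hgx : Commute g X := mem_centralizer_singleton_iff'.1 hg.1.2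
    have hm := F.sys'.large.conj_mem hgx R.β_mem
    refine hS3' _ hm (List.mem_filter.2 ⟨List.mem_range.2 (F.sys'.lt _ hm), ?_⟩)
    have hsq : qb (p (k⁻¹ * (g * β * g⁻¹) * k)) = false :=
      F.sys'.sg_inj ((F.sys'.sq _ hm).symm.trans (conj_sq_one R.β_sq g))
    have hb : bb (p (k⁻¹ * (g * β * g⁻¹) * k)) 1 = true := by
      by_contra hne
      have e2 : bb (p (k⁻¹ * (g * β * g⁻¹) * k)) (p (k⁻¹ * z * k)) = false := by
        rw [F.pz]; exact Bool.not_eq_true _ ▸ hne
      rw [← F.sys'.commute_iff hm F.z_memP] at e2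
      have e : g * z * g⁻¹ = z := by rw [hgz.eq, mul_inv_cancel_right]
      rw [← e, LargeData.commute_conj_iff', F.sys'.commute_iff R.β_mem F.z_memP] at e2
      simp only [R.β_vec, F.pz] at e2
      exact absurd e2 (by decide +kernel)
    simp [hsq, hb]
  have hH : M2 ⊓ Subgroup.centralizer ({β} : Set G) = H := rfl
  rw [hc27] at hS1
  rw [hc16] at hS2 hS3
  rw [hH] at k3
  rw [F.sys.cardC] at k1
  have h1 := k1.trans (Nat.mul_le_mul hS1 (k2.trans (Nat.mul_le_mul hS2 (k3.trans (Nat.mul_le_mul hS3 le_rfl)))))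
  omega

/-- Every member of the Levi list comes from the group. -/
theorem exists_levi {A : List Nat} (hA : A ∈ levList.map Prod.fst) : ∃ h ∈ H, Acts z Q p h A := by
  classical
  haveI := Fintype.ofFinite H
  choose f hf hfl hfa using fun h : H => R.levi_image h.2
  have hinj : Function.Injective f := fun h h' e =>
    Subtype.ext (R.levi_unique h.2 h'.2 (hfa h) (e ▸ hfa h'))
  have hsub : (Finset.univ : Finset H).image f ⊆ (levList.map Prod.fst).toFinset := fun n hn => by
    obtain ⟨h, -, rfl⟩ := Finset.mem_image.1 hn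
    exact List.mem_toFinset.2 (hf h)
  have heq := Finset.eq_of_subset_of_card_le hsub (by
    rw [Finset.card_image_of_injective _ hinj, Finset.card_univ, ← Nat.card_eq_fintype_card, R.card_levi]
    refine (List.toFinset_card_le _).trans ?_
    rw [List.length_map, levList_nodup.1])
  obtain ⟨h, -, rfl⟩ := Finset.mem_image.1 (heq.ge (List.mem_toFinset.2 hA))
  exact ⟨h, h.2, hfa h⟩

end Pair

end CfsgLib.LocalEvenB.SuzType
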