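import Cfsg.Agent.Lib.LocalEvenB.SuzType.Locals.Far

/-!
The images of the conjugates of `z` in `C(z)` outside `Q`: the 45 maps of the singular lines, each with eight
involutions above it; finite facts on their products with a standard far image (owner: helper8).
-/

set_option autoImplicit false
set_option linter.unusedSectionVars false
set_option linter.unusedVariables false
set_option linter.style.haveILetI false
set_option maxRecDepth 100000
set_option quotPrecheck false
set_option Elab.async false

namespace CfsgLib.LocalEvenB.SuzType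

open CfsgLib.ThreeTrans

/-- The value of the map of a singular line. -/
def lineApp (a b y : Nat) : Nat := y ^^^ (bif bb y b then a else 0) ^^^ (bif bb y a then b else 0)
/-- The map of a singular line. -/
def lineMap (a b : Nat) : List Nat := one.map (lineApp a b)
/-- The singular vectors. -/
def singList : List Nat := vecs fun n => !qb n && !(n == 0)
theorem lineMap_near : singList.all (fun a => singList.all fun b => a == b || bb a b || (nearList.map Prod.fst).contains (lineMap a b)) = true := by decide +kernel
theorem lineMap_app : singList.all (fun a => singList.all fun b => (List.range 64).all fun y => app (lineMap a b) y == lineApp a b y) = true := by decide +kernel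
theorem rho_four : rho 4 = lineMap 1 4 := by decide +kernel
theorem nearList_ok : nearList.all (fun e => comp (wmap e.2) (rho 4) == comp e.1 (wmap e.2)) = true := by decide +kernel
theorem nearList_len : (nearList.map Prod.fst).Nodup ∧ nearList.length = 45 := by decide +kernel
theorem lift_count : (vecs fun n => fixB (rho 4) n && !qb n).length = 4 := by decide +kernel
/-- The product with the standard far image. -/
def prodT (A : List Nat) : List Nat := comp A (rho 16)
theorem qcase : (vecs fun n => !qb n && ((fixB (rho 16) n && bb 32 n) || (!(fixB (rho 16) n) && qb (n ^^^ app (rho 16) n)))).length = 18 := by decide +kernel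
theorem r_cases : (nearList.map Prod.fst).all (fun A =>
  if comp (prodT A) (prodT A) == one then ([4,8,28,44,60].map rho).contains A
  else if comp (comp (prodT A) (prodT A)) (comp (prodT A) (prodT A)) == one then (meetList.map fun e => e.1).contains A
  else (let B := prodT A; let B2 := comp B B; let B3 := comp B B2; let A' := comp (rho 16) (comp A (rho 16));
    comp B3 B3 == one && ([4, 8, 28, 44, 60].any fun v => comp A (comp A' A) == rho v &&
      (List.range 64).all fun n => bb n 1 || !(invB v n) || !(comB v n 16 32)) &&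
    (List.range 64).all fun m => !(fixB (rho 16) m) || !(fixB A m) || qb m || bb 32 m || m == 0)) = true := by decide +kernel
theorem meet_ok : meetList.all (fun e =>
  let W := wmap e.2.1; let v := e.2.2.1; let w := e.2.2.2.1; let P := e.2.2.2.2;
  comp W e.1 == comp (rho v) W && comp W (comp (rho 16) (comp e.1 (rho 16))) == comp (rho w) W && app W P == 1 &&
  app (rho 16) P == P && sect.contains v && sect.contains w && !(v == 0) && !(w == 0) && decide (P < 64) &&
  (List.range 64).all (fun n => bb n 1 || !(invB v n) || (List.range 64).all fun m => bb m 1 || !(invB w m) || cx v n w m || cz v n w m) &&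
  (List.range 64).all (fun y => bb (app W y) 1 || (bb v (app W (app (rho 16) y)) == bb w (app W y) && !(bb (app W (app (rho 16) y)) 1))) &&
  (List.range 64).all (fun n => bb n 1 || !(invB v n) || (List.range 64).all fun m => bb m 1 || !(bb v m == bb w n) || cx v n w m)) = true := by decide +kernel
/-- The contribution of the lifts of a near image. -/
def nearVal (A : List Nat) : Nat :=
  if comp (prodT A) (prodT A) == one then
    2 * (vecs fun n => !bb n 1 && invB ((app A 2 ^^^ 2) &&& 60) n && cz ((app A 2 ^^^ 2) &&& 60) n 16 32 && !cx ((app A 2 ^^^ 2) &&& 60) n 16 32).length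
  else if comp (comp (prodT A) (prodT A)) (comp (prodT A) (prodT A)) == one then
    (if meetList.any (fun e => e.1 == A && bb 32 e.2.2.2.2) then 8 else 0)
  else 8
theorem near_sum : ((nearList.map Prod.fst).map nearVal).sum = 200 := by decide +kernel
theorem meet_unique : meetList.all (fun e => meetList.all fun f => !(e.1 == f.1) || bb 32 e.2.2.2.2 == bb 32 f.2.2.2.2) = true := by decide +kernel
theorem line_basis : singList.contains 1 = true ∧ singList.contains 4 = true ∧ bb 1 4 = false := by decide +kernel

variable {G : Type*} [Group G] [Finite G] {z : G} {Q : Subgroup G} {p : G → Nat} {k : G}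

theorem length_near {A : List Nat} (hA : A ∈ nearList.map Prod.fst) : A.length = 6 := by
  obtain ⟨e, he, rfl⟩ := List.mem_map.1 hA
  exact (show ∀ e ∈ nearList, e.1.length = 6 by decide +kernel) e he

namespace Sys

variable (h : Sys z Q p)
include h

/-- The conjugates of `rho 4` are maps of singular lines. -/
theorem mem_near {c y : G} {A : List Nat} (hc : Commute c z) (hy : Acts z Q p y (rho 4)) (hA : A.length = 6)
    (hx : Acts z Q p (c * y * c⁻¹) A) : A ∈ nearList.map Prod.fst := by
  obtain ⟨C, hC, hcC⟩ := h.exists_acts hc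
  have hr : (rho 4).length = 6 := List.length_map _
  have hAC : comp A C = comp C (rho 4) := by
    refine h.acts_unique (c := c * y) (by rw [length_comp, hC.1]) (by rw [length_comp, hr]) ?_ (h.acts_mul hr hcC hy)
    have := h.acts_mul hC.1 hx hcC
    rwa [inv_mul_cancel_right] at this
  obtain ⟨hb1, hb4, hb14⟩ := line_basis
  have hsing : ∀ {n : Nat}, n ∈ singList → n < 64 ∧ qb n = false ∧ n ≠ 0 := fun {n} hn => by
    have := List.mem_filter.1 hn
    simp only [List.mem_range, Bool.and_eq_true, Bool.not_eq_true', beq_eq_false_iff_ne] at this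
    exact ⟨this.1, this.2.1, this.2.2⟩
  rw [List.contains_iff_mem] at hb1 hb4
  have hmem : ∀ {n : Nat}, n ∈ singList → app C n ∈ singList := fun {n} hn => by
    obtain ⟨h1, h2, h3⟩ := hsing hn
    refine List.mem_filter.2 ⟨List.mem_range.2 (hC.2 n h1).1, ?_⟩
    have h0 : app C n ≠ 0 := fun e => h3 (h.app_inj hcC h1 (by norm_num) (e.trans (app_zero C).symm))
    simp [(hC.2 n h1).2, h2, h0]
  have hne : app C 1 ≠ app C 4 := fun e =>
    absurd (h.app_inj hcC (by norm_num) (by norm_num) e) (by norm_num)
  have hbb : bb (app C 1) (app C 4) = false := by rw [hC.bb_app (by norm_num) (by norm_num), hb14]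
  have h1 := List.all_eq_true.1 (List.all_eq_true.1 lineMap_near _ (hmem hb1)) _ (hmem hb4)
  simp only [beq_eq_false_iff_ne.2 hne, hbb, Bool.false_or, List.contains_iff_mem] at h1
  have h2 := List.all_eq_true.1 (List.all_eq_true.1 lineMap_app _ (hmem hb1)) _ (hmem hb4)
  have h3 := List.all_eq_true.1 (List.all_eq_true.1 lineMap_app _ hb1) _ hb4
  suffices e : A = lineMap (app C 1) (app C 4) by rwa [e]
  refine eq_of_app hA (List.length_map _) fun n hn => ?_
  have hn64 : n < 64 := by revert n; decide
  obtain ⟨m, hm, rfl⟩ := h.app_surj hcC n hn64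
  have e2 := beq_iff_eq.1 (List.all_eq_true.1 h2 _ (List.mem_range.2 (hC.2 m hm).1))
  have e3 := beq_iff_eq.1 (List.all_eq_true.1 h3 _ (List.mem_range.2 hm))
  rw [← app_comp hC.1, hAC, app_comp hr, rho_four, e3, e2]
  simp only [lineApp, app_xor, hC.bb_app hm (by norm_num : (1 : Nat) < 64),
    hC.bb_app hm (by norm_num : (4 : Nat) < 64)]
  cases bb m 4 <;> cases bb m 1 <;> simp [app_zero]

end Sys

namespace Frame

variable (F : Frame z Q p k)
include F

/-- The involutions above a near image are conjugate to `z`. -/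
theorem isConj_of_near {x : G} {A : List Nat} (hA : A ∈ nearList.map Prod.fst) (hx : Acts z Q p x A)
    (hxx : x * x = 1) : IsConj z x := by
  obtain ⟨e, he, rfl⟩ := List.mem_map.1 hA
  have hok := List.all_eq_true.1 nearList_ok e he
  rw [beq_iff_eq] at hok
  obtain ⟨hl, c, hc⟩ := F.sys.acts_word e.2
  obtain ⟨B, hB, hcB, hBA, hAB⟩ := F.sys.exists_acts_inv hl hc
  have hy : Acts z Q p (c⁻¹ * x * c⁻¹⁻¹) (rho 4) := by
    refine F.sys.acts_conj hB (length_near hA) (F.rho_len 4) hcB hx ?_
    refine eq_of_app (by rw [length_comp, length_near hA]) (by rw [length_comp, hB]) fun n hn => ?_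
    have hn64 : n < 64 := by revert n; decide
    obtain ⟨m, hm, rfl⟩ := F.sys.app_surj hc n hn64
    have hr4 : app (rho 4) m < 64 := by
      obtain ⟨s, -, hsA, -⟩ := F.exists_near
      obtain ⟨a, ha, rfl⟩ := F.sys.surj m hm
      rw [← hsA.2 a ha]
      exact F.sys.lt _ (F.sys.large.conj_mem hsA.1 ha)
    rw [app_comp (length_near hA), ← app_comp hl, ← hok, app_comp (F.rho_len 4), ← app_comp hl, hBA,
      app_one _ hr4, app_comp hB, ← app_comp hl, hBA, app_one _ hm]
  exact (F.near_class hy (conj_sq_one hxx c⁻¹)).trans (isConj_iff.2 ⟨c⁻¹, rfl⟩).symm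

/-- The images of the conjugates of `z` outside `Q`. -/
theorem near_iff {x : G} {A : List Nat} (hxx : x * x = 1) (hxQ : x ∉ Q) (hA : A.length = 6)
    (hx : Acts z Q p x A) : IsConj z x ↔ A ∈ nearList.map Prod.fst := by
  refine ⟨fun hz => ?_, fun h => F.isConj_of_near h hx hxx⟩
  obtain ⟨c, hc, hAc | hAc⟩ := F.sys.cases_invol hx.1 hxx hxQ
  · refine F.sys.mem_near hc.inv_left hAc hA ?_
    rwa [show c⁻¹ * (c * x * c⁻¹) * c⁻¹⁻¹ = x by group]
  · have := (F.siegel_type (by decide +kernel) (by norm_num) hAc (conj_sq_one hxx c)).1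
      (hz.trans (isConj_iff.2 ⟨c, rfl⟩))
    exact absurd this (by decide +kernel)

/-- Above each near image lie eight involutions. -/
theorem card_lifts {A : List Nat} (hA : A ∈ nearList.map Prod.fst) :
    Nat.card {x : G // x * x = 1 ∧ Acts z Q p x A} = 8 := by
  classical
  obtain ⟨e, he, rfl⟩ := List.mem_map.1 hA
  have hok := List.all_eq_true.1 nearList_ok e he
  rw [beq_iff_eq] at hok
  obtain ⟨hl, c, hc⟩ := F.sys.acts_word e.2
  obtain ⟨s, -, hsA, hss, -, -, hfix⟩ := F.exists_near
  set L := vecs fun n => fixB (rho 4) n && !qb n with hL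
  have hLn : L.Nodup := List.nodup_range.filter _
  have hLm : ∀ {n : Nat}, n ∈ L → n < 64 ∧ app (rho 4) n = n ∧ qb n = false := fun {n} hn => by
    have := List.mem_filter.1 hn
    simpa [fixB] using this
  obtain ⟨B, hB, hcB, hBA, hAB⟩ := F.sys.exists_acts_inv hl hc
  have hinv : comp B e.1 = comp (rho 4) B := by
    refine eq_of_app (by rw [length_comp, length_near hA]) (by rw [length_comp, hB]) fun n hn => ?_
    have hn64 : n < 64 := by revert n; decide
    obtain ⟨m, hm, rfl⟩ := F.sys.app_surj hc n hn64
    have hr4 : app (rho 4) m < 64 := by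
      obtain ⟨a, ha, rfl⟩ := F.sys.surj m hm
      rw [← hsA.2 a ha]
      exact F.sys.lt _ (F.sys.large.conj_mem hsA.1 ha)
    rw [app_comp (length_near hA), ← app_comp hl, ← hok, app_comp (F.rho_len 4), ← app_comp hl, hBA,
      app_one _ hr4, app_comp hB, ← app_comp hl, hBA, app_one _ hm]
  have hone : ∀ {q : G}, q ∈ Q → Acts z Q p (s * q) (rho 4) := fun {q} hq => by
    have := F.sys.acts_mul (show one.length = 6 from rfl) hsA (F.sys.acts_of_mem hq)
    rwa [show comp (rho 4) one = rho 4 by decide +kernel] at this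
  have hsq : ∀ {q : G}, q ∈ Q → app (rho 4) (p q) = p q → qb (p q) = false → s * q * (s * q) = 1 := by
    intro q hq hf hb
    rw [show s * q * (s * q) = s * (q * s) * q by group, (hfix q hq hf).eq, ← mul_assoc, hss, one_mul,
      F.sys.sq q hq, hb]
    rfl
  let f : ↥L.toFinset × Bool → {x : G // x * x = 1 ∧ Acts z Q p x e.1} := fun d =>
    ⟨c * (s * (aOf Q p d.1 * sg z d.2)) * c⁻¹, by
      obtain ⟨h1, h2, h3⟩ := hLm (List.mem_toFinset.1 d.1.2)
      obtain ⟨g1, g2⟩ := F.aOf_spec h1
      have hp : p (aOf Q p d.1 * sg z d.2) = (d.1 : Nat) := by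
        rw [F.sys.map_mul _ g1 _ (F.sys.sg_mem _), g2, F.sys.p_sg, Nat.xor_zero]
      exact ⟨conj_sq_one (hsq (Q.mul_mem g1 (F.sys.sg_mem _)) (by rw [hp, h2]) (by rw [hp, h3])) c,
        F.sys.acts_conj hl (F.rho_len 4) (length_near hA) hc (hone (Q.mul_mem g1 (F.sys.sg_mem _))) hok⟩⟩
  have hf : Function.Bijective f := by
    constructor
    · rintro ⟨⟨n, hn⟩, i⟩ ⟨⟨m, hm⟩, j⟩ heq
      have e1 : aOf Q p n * sg z i = aOf Q p m * sg z j :=
        mul_left_cancel (mul_left_cancel (mul_right_cancel (congrArg Subtype.val heq)))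
      obtain ⟨g1, g2⟩ := F.aOf_spec (hLm (List.mem_toFinset.1 hn)).1
      obtain ⟨g3, g4⟩ := F.aOf_spec (hLm (List.mem_toFinset.1 hm)).1
      have e2 := congrArg p e1
      rw [F.sys.map_mul _ g1 _ (F.sys.sg_mem _), F.sys.map_mul _ g3 _ (F.sys.sg_mem _), g2, g4, F.sys.p_sg,
        F.sys.p_sg, Nat.xor_zero, Nat.xor_zero] at e2
      subst e2
      exact Prod.ext rfl (F.sys.sg_inj (mul_left_cancel e1))
    · rintro ⟨x, hxx, hxA⟩
      have hy : Acts z Q p (c⁻¹ * x * c⁻¹⁻¹) (rho 4) :=
        F.sys.acts_conj hB (length_near hA) (F.rho_len 4) hcB hxA hinv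
      obtain ⟨q, hq, e', hf, ee⟩ := F.sys.coset hss (conj_sq_one hxx c⁻¹) hsA hy
      have hb : qb (p q) = false := by
        rw [← (hfix q hq hf).eq, mul_inv_cancel_right] at ee
        exact (F.sys.sg_inj (mul_left_cancel ((mul_one q).trans ee))).symm
      obtain ⟨g1, g2⟩ := F.aOf_spec (F.sys.lt q hq)
      obtain ⟨i, hi⟩ := F.sys.eq_of_p g1 hq g2
      refine ⟨(⟨p q, List.mem_toFinset.2 (List.mem_filter.2 ⟨List.mem_range.2 (F.sys.lt q hq),
        by simp [fixB, hf, hb]⟩)⟩, i), Subtype.ext ?_⟩
      show c * (s * (aOf Q p (p q) * sg z i)) * c⁻¹ = x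
      rw [← hi, ← e']
      group
  rw [← Nat.card_eq_of_bijective f hf, Nat.card_prod, Nat.card_eq_fintype_card, Fintype.card_coe,
    List.toFinset_card_of_nodup hLn, lift_count]
  simp

end Frame

end CfsgLib.LocalEvenB.SuzType
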