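import Cfsg.Agent.Lib.LocalEvenB.SuzType.Main

/-!
Elements of the centralizer of `z` inducing Siegel elements at the first vector, in coordinates, with their
commutators and squares (owner: helper8).
-/

set_option autoImplicit false
set_option linter.unusedSectionVars false
set_option linter.unusedVariables false
set_option quotPrecheck false

namespace CfsgLib.LocalEvenB.SuzType

open CfsgLib.ThreeTrans

variable {G : Type*} [Group G] [Finite G] {z : G} {Q : Subgroup G} {p : G → Nat} {k : G}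

/-- The `z`-part of the commutator of the elements with coordinates `(v, n)` and `(w, m)`. -/
def cz (v n w m : Nat) : Bool := bb v m ^^ (bb w n ^^ bb n m)

/-- The `x`-part of the commutator of the elements with coordinates `(v, n)` and `(w, m)`. -/
def cx (v n w m : Nat) : Bool := bb v w ^^ (bb v m ^^ bb w n)

/-- Commuting, in coordinates. -/
def comB (v n w m : Nat) : Bool := !(cz v n w m) && !(cx v n w m)

/-- Squaring to one, in coordinates. -/
def invB (v n : Nat) : Bool := (qb n == bb v n) && (qb v == bb v n)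

/-- `c` is the product of a member of `P` inducing `rho v` and a member of `Q` above `n`. -/
def Rep (z : G) (Q : Subgroup G) (p : G → Nat) (k : G) (c : G) (v n : Nat) : Prop :=
  v ∈ sect ∧ n < 64 ∧ bb n 1 = false ∧ ∃ s q, s ∈ Q.map (MulAut.conj k).toMonoidHom ∧ Commute s z ∧
    Acts z Q p s (rho v) ∧ q ∈ Q ∧ p q = n ∧ c = s * q

theorem bb_zero_left (n : Nat) : bb 0 n = false := by simp [bb_eq]

theorem siegel_invol_perp : ∀ v ∈ sect, v ≠ 0 → ∀ n < 64,
    app (rho v) n ^^^ (bif qb v then 1 else 0) ^^^ n = 0 → bb n 1 = false := by decide +kernel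

theorem zero_mem_sect : 0 ∈ sect := by decide +kernel

theorem xor_sect : ∀ v ∈ sect, ∀ w ∈ sect, v ^^^ w ∈ sect := by decide +kernel

theorem xor_mem_sect {v w : Nat} (hv : v ∈ sect) (hw : w ∈ sect) : v ^^^ w ∈ sect := xor_sect v hv w hw

namespace Frame

variable (F : Frame z Q p k)
include F

local notation "X" => k * z * k⁻¹
local notation "P" => Q.map (MulAut.conj k).toMonoidHom

theorem qb_dual {s : G} {v : Nat} (hv : v ∈ sect) (hs : s ∈ P) (hsz : Commute s z)
    (hsA : Acts z Q p s (rho v)) : qb (p (k⁻¹ * s * k)) = qb v :=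
  F.sys'.sg_inj ((F.sys'.sq s hs).symm.trans (F.sq_eq hv hs hsz hsA))

theorem bb_dual {s s' : G} {v w : Nat} (hv : v ∈ sect) (hw : w ∈ sect) (hs : s ∈ P) (hsz : Commute s z)
    (hsA : Acts z Q p s (rho v)) (hs' : s' ∈ P) (hsz' : Commute s' z) (hsA' : Acts z Q p s' (rho w)) :
    bb (p (k⁻¹ * s * k)) (p (k⁻¹ * s' * k)) = bb v w := by
  have h : p (k⁻¹ * (s * s') * k) = p (k⁻¹ * s * k) ^^^ p (k⁻¹ * s' * k) := F.sys'.map_mul s hs s' hs'
  show (qb _ ^^ (qb _ ^^ qb _)) = (qb (v ^^^ w) ^^ (qb v ^^ qb w))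
  rw [← h, F.qb_dual hv hs hsz hsA, F.qb_dual hw hs' hsz' hsA',
    F.qb_dual (xor_mem_sect hv hw) (Subgroup.mul_mem _ hs hs') (hsz.mul_left hsz') (F.rho_mul hv hw hsA hsA')]

theorem comm_dual {s s' : G} {v w : Nat} (hv : v ∈ sect) (hw : w ∈ sect) (hs : s ∈ P) (hsz : Commute s z)
    (hsA : Acts z Q p s (rho v)) (hs' : s' ∈ P) (hsz' : Commute s' z) (hsA' : Acts z Q p s' (rho w)) :
    s * s' * s⁻¹ * s'⁻¹ = sg z false * sg X (bb v w) := by
  rw [F.sys'.comm hs hs', F.bb_dual hv hw hs hsz hsA hs' hsz' hsA', show sg z false = 1 from rfl, one_mul]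

theorem rep_acts {c : G} {v n : Nat} (h : Rep z Q p k c v n) : Acts z Q p c (rho v) := by
  obtain ⟨-, -, -, s, q, -, -, hA, hq, -, rfl⟩ := h
  have := F.sys.acts_mul (show one.length = 6 from rfl) hA (F.sys.acts_of_mem hq)
  rwa [show comp (rho v) one = rho v by
    unfold rho; simp [comp, one, app, term, Nat.testBit, Nat.shiftRight_eq_div_pow]] at this

theorem rep_comm_x {c : G} {v n : Nat} (h : Rep z Q p k c v n) : Commute c X := by
  obtain ⟨-, -, hn, s, q, hs, -, -, hq, rfl, rfl⟩ := h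
  exact (F.sys'.large.commute_z hs).mul_left ((F.comm_x hq).2 hn)

theorem exists_rep {c : G} {v : Nat} (hv : v ∈ sect) (hA : Acts z Q p c (rho v)) (hX : Commute c X) :
    ∃ n, Rep z Q p k c v n := by
  obtain ⟨s, hs, hsz, hsA⟩ := F.exists_s hv
  have hq : s⁻¹ * c ∈ Q := F.sys.inv_mul_mem hsA hA
  have hqx : Commute (s⁻¹ * c) X := (F.sys'.large.commute_z hs).inv_left.mul_left hX
  exact ⟨p (s⁻¹ * c), hv, F.sys.lt _ hq, (F.comm_x hq).1 hqx, s, _, hs, hsz, hsA, hq, rfl,
    (mul_inv_cancel_left s c).symm⟩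

theorem rep_of_mem {a : G} (ha : a ∈ Q) (ha1 : bb (p a) 1 = false) : Rep z Q p k a 0 (p a) :=
  ⟨zero_mem_sect, F.sys.lt a ha, ha1, 1, a, Subgroup.one_mem _, Commute.one_left z,
    by rw [rho_zero F]; exact F.sys.acts_one, ha, rfl, (one_mul a).symm⟩

theorem conj_q {s q : G} {v : Nat} (hv : v ∈ sect) (hs : s ∈ P) (hsz : Commute s z)
    (hsA : Acts z Q p s (rho v)) (hq : q ∈ Q) (hq1 : bb (p q) 1 = false) :
    s * q * s⁻¹ = sg z (bb v (p q)) * sg X (bb v (p q)) * q :=
  mul_inv_eq_iff_eq_mul.1 (F.commutator_eq hv hs hsz hsA hq hq1)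

/-- The commutator of two such elements. -/
theorem rep_comm {c d : G} {v n w m : Nat} (hc : Rep z Q p k c v n) (hd : Rep z Q p k d w m) :
    c * d * c⁻¹ * d⁻¹ = sg z (cz v n w m) * sg X (cx v n w m) := by
  obtain ⟨hv, -, hn, s, q, hs, hsz, hsA, hq, rfl, rfl⟩ := hc
  obtain ⟨hw, -, hm, s', q', hs', hsz', hsA', hq', rfl, rfl⟩ := hd
  have cen : ∀ (i j : Bool) (g : G), Commute g z → Commute g X →
      g * (sg z i * sg X j) * g⁻¹ = sg z i * sg X j := fun i j g hz hx => by
    rw [(F.pair_comm hz hx i j).eq, mul_inv_cancel_right]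
  have hsx : Commute s X := F.sys'.large.commute_z hs
  have hsx' : Commute s' X := F.sys'.large.commute_z hs'
  have hqx : Commute q X := (F.comm_x hq).2 hn
  have hqx' : Commute q' X := (F.comm_x hq').2 hm
  have hqz : Commute q z := F.sys.large.commute_z hq
  have hqz' : Commute q' z := F.sys.large.commute_z hq'
  -- the four elementary commutators
  have e1 := F.comm_dual hv hw hs hsz hsA hs' hsz' hsA'
  have e2 : s * q' * s⁻¹ * q'⁻¹ = sg z (bb v (p q')) * sg X (bb v (p q')) :=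
    F.commutator_eq hv hs hsz hsA hq' hm
  have e3 : q * s' * q⁻¹ * s'⁻¹ = sg z (bb w (p q)) * sg X (bb w (p q)) := by
    have e := F.commutator_eq hw hs' hsz' hsA' hq hn
    calc q * s' * q⁻¹ * s'⁻¹ = (s' * q * s'⁻¹ * q⁻¹)⁻¹ := by group
      _ = _ := by
        rw [e, mul_inv_rev, F.sys'.sg_inv, F.sys.sg_inv]
        exact (F.sys.sg_comm (F.sys'.sg_comm F.z_comm_x _).symm _).eq
  have e4 : q * q' * q⁻¹ * q'⁻¹ = sg z (bb (p q) (p q')) * sg X false := by
    rw [F.sys.comm hq hq', show sg X false = 1 from rfl, mul_one]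
  calc s * q * (s' * q') * (s * q)⁻¹ * (s' * q')⁻¹
      = s * ((q * s' * q⁻¹ * s'⁻¹) * (s' * (q * q' * q⁻¹ * q'⁻¹) * s'⁻¹)) * s⁻¹ *
          ((s * s' * s⁻¹ * s'⁻¹) * (s' * (s * q' * s⁻¹ * q'⁻¹) * s'⁻¹)) := by group
    _ = _ := by
        rw [e3, e4, cen _ _ s' hsz' hsx', F.pair_mul, cen _ _ s hsz hsx, e2, cen _ _ s' hsz' hsx', e1,
          F.pair_mul, F.pair_mul]
        congr 2
        · unfold cz
          cases bb w (p q) <;> cases bb (p q) (p q') <;> cases bb v (p q') <;> rfl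
        · unfold cx
          cases bb w (p q) <;> cases bb v w <;> cases bb v (p q') <;> rfl

theorem rep_commute_iff {c d : G} {v n w m : Nat} (hc : Rep z Q p k c v n) (hd : Rep z Q p k d w m) :
    Commute c d ↔ comB v n w m = true := by
  have e := F.rep_comm hc hd
  simp only [comB, Bool.and_eq_true, Bool.not_eq_true']
  constructor
  · intro h
    have e1 : c * d * c⁻¹ * d⁻¹ = sg z false * sg X false := by
      rw [h.eq, mul_inv_cancel_right, mul_inv_cancel]
      exact (one_mul (1 : G)).symm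
    exact F.pair_inj (e.symm.trans e1)
  · rintro ⟨h1, h2⟩
    rw [h1, h2, show sg z false * sg X false = (1 : G) from one_mul 1] at e
    exact mul_inv_eq_iff_eq_mul.1 (mul_inv_eq_one.1 e)

/-- The square of such an element. -/
theorem rep_sq {c : G} {v n : Nat} (hc : Rep z Q p k c v n) :
    c * c = sg z (qb n ^^ bb v n) * sg X (qb v ^^ bb v n) := by
  obtain ⟨hv, -, hn, s, q, hs, hsz, hsA, hq, rfl, rfl⟩ := hc
  have e := F.commutator_eq hv hs hsz hsA hq hn
  have hx : Commute q X := (F.comm_x hq).2 hn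
  calc s * q * (s * q) = s * s * (s⁻¹ * (q * s * q⁻¹ * s⁻¹) * s) * (q * q) := by group
    _ = _ := by
      rw [show q * s * q⁻¹ * s⁻¹ = (s * q * s⁻¹ * q⁻¹)⁻¹ by group, e, mul_inv_rev, F.sys'.sg_inv,
        F.sys.sg_inv, (F.sys.sg_comm (F.sys'.sg_comm F.z_comm_x _).symm _).eq]
      rw [mul_assoc s⁻¹, ← (F.pair_comm hsz (F.sys'.large.commute_z hs) _ _).eq, inv_mul_cancel_left,
        show s * s = sg z false * sg X (qb v) by
          rw [F.sq_eq hv hs hsz hsA, show sg z false = 1 from rfl, one_mul],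
        show q * q = sg z (qb (p q)) * sg X false by
          rw [F.sys.sq q hq, show sg X false = 1 from rfl, mul_one],
        F.pair_mul, F.pair_mul]
      congr 2
      · cases bb v (p q) <;> cases qb (p q) <;> rfl
      · cases bb v (p q) <;> cases qb v <;> rfl

theorem rep_invol_iff {c : G} {v n : Nat} (hc : Rep z Q p k c v n) : c * c = 1 ↔ invB v n = true := by
  rw [F.rep_sq hc]
  simp only [invB, Bool.and_eq_true, beq_iff_eq]
  constructor
  · intro e
    obtain ⟨h1, h2⟩ := F.pair_inj (e.trans (one_mul (1 : G)).symm : _ = sg z false * sg X false)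
    revert h1 h2
    cases qb n <;> cases qb v <;> cases bb v n <;> simp
  · rintro ⟨h1, h2⟩
    rw [h1, h2, Bool.xor_self]
    exact one_mul (1 : G)

/-- An involution inducing a nontrivial Siegel element commutes with `x`. -/
theorem comm_x_of_invol {c : G} {v : Nat} (hv : v ∈ sect) (hv0 : v ≠ 0) (hA : Acts z Q p c (rho v))
    (hc : c * c = 1) : Commute c X := by
  obtain ⟨s, hs, hsz, hsA⟩ := F.exists_s hv
  have hq : s⁻¹ * c ∈ Q := F.sys.inv_mul_mem hsA hA
  obtain ⟨q, rfl⟩ : ∃ q, q = s⁻¹ * c := ⟨_, rfl⟩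
  have hX : sg X (qb v) ∈ Q := by
    cases qb v
    exacts [Q.one_mem, F.memQ]
  have e : s * (s⁻¹ * c) * s⁻¹ * sg X (qb v) * (s⁻¹ * c) = 1 := by
    rw [← F.sq_eq hv hs hsz hsA, ← hc]
    group
  have hpX : p (sg X (qb v)) = bif qb v then 1 else 0 := by
    cases qb v
    exacts [F.sys.p_one, F.px]
  have e' := congrArg p e
  rw [F.sys.map_mul _ (Q.mul_mem (F.sys.large.conj_mem hsz hq) hX) _ hq,
    F.sys.map_mul _ (F.sys.large.conj_mem hsz hq) _ hX, hsA.2 _ hq, hpX, F.sys.p_one] at e'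
  have h1 := siegel_invol_perp v hv hv0 _ (F.sys.lt _ hq) e'
  have h2 := (F.comm_x hq).2 h1
  have := (F.sys'.large.commute_z hs).mul_left h2
  rwa [mul_inv_cancel_left] at this

end Frame

end CfsgLib.LocalEvenB.SuzType
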