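import Cfsg.Agent.Lib.LocalEvenB.SuzType.Locals.Four
import Cfsg.Agent.Lib.LocalEvenB.SuzType.Main
import Cfsg.Agent.Lib.ThreeTrans.LargeGeneration

/-!
The frame and the four-group of far involutions of a group of Suzuki type (owner: helper8).
-/

set_option autoImplicit false
set_option linter.style.haveILetI false
set_option Elab.async false

namespace CfsgLib.LocalEvenB.SuzType

/-- A group of Suzuki type has a frame with a four-group of far involutions. -/
theorem exists_four_of_suz_type {G : Type*} [Group G] [Finite G] (z : G) (hz : orderOf z = 2)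
    (Q : Subgroup (Subgroup.centralizer ({z} : Set G))) [Q.Normal]
    (hF : Cfsg.generalizedFittingSubgroup (Subgroup.centralizer ({z} : Set G)) = Q)
    (hQ : Cfsg.IsExtraspecial 2 Q) (hcard : Nat.card Q = 2 ^ 7)
    (e : (Subgroup.centralizer ({z} : Set G)) ⧸ Q ≃* Cfsg.Omega (ZMod 2) (Cfsg.quadFormMinus 2 (ZMod 2) 1 1))
    (hnwc : ∃ g : G, (∃ hq : g * z * g⁻¹ ∈ Subgroup.centralizer ({z} : Set G),
      (⟨g * z * g⁻¹, hq⟩ : Subgroup.centralizer ({z} : Set G)) ∈ Q) ∧ g * z * g⁻¹ ≠ z) :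
    ∃ (Q0 : Subgroup G) (p : G → Nat) (k t v : G), Four z Q0 p k t v := by
  classical
  obtain ⟨g, ⟨hq, hgQ⟩, hgz⟩ := hnwc
  set Q0 : Subgroup G := Q.map (Subgroup.centralizer ({z} : Set G)).subtype with hQ0
  have eQ : Q ≃* Q0 := Subgroup.equivMapOfInjective Q (Subgroup.centralizer ({z} : Set G)).subtype
    (Subgroup.centralizer ({z} : Set G)).subtype_injective
  haveI : Fact (Nat.Prime 2) := ⟨Nat.prime_two⟩
  have hQ' : Cfsg.IsExtraspecial 2 Q0 := CfsgLib.ThreeTrans.isExtraspecial_congr hQ eQ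
  have hle : Q0 ≤ Subgroup.centralizer ({z} : Set G) := Subgroup.map_subtype_le Q
  have hL : CfsgLib.ThreeTrans.LargeData z Q0 :=
    CfsgLib.ThreeTrans.LargeGeneration.largeData_of_gFitting hz hle (by rw [hF]) hQ'
  have hOm : Nat.card ↥(Cfsg.Omega (ZMod 2) (Cfsg.quadFormMinus 2 (ZMod 2) 1 1)) = 25920 := by
    have h1 := (Cfsg.Omega (ZMod 2) CfsgLib.Recog.FiM22Two.OrthSixMinus.q6).card_mul_index
    rw [CfsgLib.Recog.FiM22Two.OrthSixMinus.index_omega, CfsgLib.Recog.FiM22Two.OrthSixMinus.card_iso] at h1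
    show Nat.card ↥(Cfsg.Omega (ZMod 2) CfsgLib.Recog.FiM22Two.OrthSixMinus.q6) = 25920
    omega
  have hH : Hyp z Q0 := by
    refine ⟨hL, by rw [← Nat.card_congr eQ.toEquiv, hcard]; norm_num, ?_⟩
    rw [Subgroup.card_eq_card_quotient_mul_card_subgroup Q, hcard, Nat.card_congr e.toEquiv, hOm, mul_comm]
  obtain ⟨p, k, F⟩ := hH.exists_frame ⟨g, ⟨_, hgQ, rfl⟩, hgz⟩
  obtain ⟨t, v, W⟩ := F.exists_four
  exact ⟨Q0, p, k, t, v, W⟩

end CfsgLib.LocalEvenB.SuzType
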