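import Cfsg.Agent.Lib.LocalEvenB.SuzType.Locals.CentOuter
import Cfsg.Agent.Lib.LocalEvenB.SuzType.Locals.PairNear
import Cfsg.Agent.Lib.LocalEvenB.CentralizerDEight
import Cfsg.Agent.Lib.CharDegree.GraphMTwelve.Split

/-!
The centralizer and the normalizer of a Sylow 7-subgroup (owner: helper8).
-/

set_option autoImplicit false
set_option linter.unusedSectionVars false
set_option linter.unusedVariables false
set_option linter.style.haveILetI false
set_option maxRecDepth 100000
set_option quotPrecheck false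
set_option Elab.async false

namespace CfsgLib.LocalEvenB.SuzType

open CfsgLib.ThreeTrans
open CfsgLib.CIT (CIT IsSyl IsPSLThreeFour)

theorem centralizer_zpowers_eq {G : Type*} [Group G] (y : G) :
    Subgroup.centralizer ((Subgroup.zpowers y : Subgroup G) : Set G) = Subgroup.centralizer ({y} : Set G) := by
  rw [Subgroup.zpowers_eq_closure, Subgroup.centralizer_closure]

theorem centralizer_map_conj {G : Type*} [Group G] (A : Subgroup G) (g : G) :
    Subgroup.centralizer ((A.map (MulAut.conj g).toMonoidHom : Subgroup G) : Set G) =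
      (Subgroup.centralizer (A : Set G)).map (MulAut.conj g).toMonoidHom := by
  ext x
  rw [Subgroup.mem_map_equiv, Subgroup.mem_centralizer_iff, Subgroup.mem_centralizer_iff]
  constructor
  · intro h a ha
    have h1 := h _ (Subgroup.mem_map_of_mem (MulAut.conj g).toMonoidHom ha)
    simp only [MulEquiv.coe_toMonoidHom, MulAut.conj_apply, MulAut.conj_symm_apply] at h1 ⊢
    calc a * (g⁻¹ * x * g) = g⁻¹ * (g * a * g⁻¹ * x) * g := by group
      _ = _ := by rw [h1]; group
  · rintro h _ ⟨a, ha, rfl⟩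
    have h1 := h a ha
    simp only [MulEquiv.coe_toMonoidHom, MulAut.conj_apply, MulAut.conj_symm_apply] at h1 ⊢
    calc g * a * g⁻¹ * x = g * (a * (g⁻¹ * x * g)) * g⁻¹ := by group
      _ = _ := by rw [h1]; group

variable {G : Type*} [Group G] [Finite G] {z : G} {Q : Subgroup G} {p : G → Nat} {k : G}

namespace Four

variable {t v : G} (W : Four z Q p k t v)
include W

theorem exists_seven : ∃ y ∈ fourCent t v, orderOf y = 7 := by
  haveI : Fact (Nat.Prime 7) := ⟨by norm_num⟩
  obtain ⟨y, hy⟩ := exists_prime_orderOf_dvd_card' (G := fourCent t v) 7 (by rw [W.card_J]; norm_num)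
  exact ⟨y, y.2, by rw [Subgroup.orderOf_coe, hy]⟩

/-- The common centralizer of `t` and an element of order seven. -/
theorem card_cent_t_seven {y : G} (hy : y ∈ fourCent t v) (hy7 : orderOf y = 7) :
    Nat.card (Subgroup.centralizer ({t} : Set G) ⊓ Subgroup.centralizer ({y} : Set G) : Subgroup G) = 28 ∧
      ∀ c : G, Commute c t → Commute c y → ∃ i : ℤ, ∃ w ∈ fourGrp t v, c = y ^ i * w := by
  haveI := W.normal_four
  set J := fourCent t v with hJ
  set V := (fourGrp t v).subgroupOf J with hV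
  set π := QuotientGroup.mk' V with hπ
  set Y : J := ⟨y, hy⟩ with hY
  have hY7 : orderOf (π Y) = 7 := by
    refine ((Nat.dvd_prime (by norm_num)).1 ?_).resolve_left fun e => ?_
    · have := orderOf_map_dvd π Y
      rwa [hY, Subgroup.orderOf_mk, hy7] at this
    · have h1 : y ∈ fourGrp t v :=
        Subgroup.mem_subgroupOf.1 ((QuotientGroup.eq_one_iff _).1 (orderOf_eq_one_iff.1 e))
      have h2 : orderOf y ∣ 4 := W.card_fourGrp ▸ Subgroup.orderOf_dvd_natCard _ h1
      rw [hy7] at h2
      norm_num at h2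
  have hform : ∀ c : G, Commute c t → Commute c y → ∃ i : ℤ, ∃ w ∈ fourGrp t v, c = y ^ i * w := by
    intro c hct hcy
    have hcJ : c ∈ J := W.no_outer_seven hct hy hy7 hcy
    have h1 : π ⟨c, hcJ⟩ ∈ Subgroup.zpowers (π Y) := by
      rw [← LFour.centralizer_seven W.quotient_psl hY7, mem_centralizer_singleton_iff']
      exact (show Commute (⟨c, hcJ⟩ : J) Y from Subtype.ext hcy.eq).map π
    obtain ⟨i, hi⟩ := Subgroup.mem_zpowers_iff.1 h1
    refine ⟨i, (y ^ i)⁻¹ * c, ?_, (mul_inv_cancel_left _ _).symm⟩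
    rw [← map_zpow] at hi
    have := Subgroup.mem_subgroupOf.1 (QuotientGroup.eq.1 hi)
    simpa [hY] using this
  refine ⟨?_, hform⟩
  set D := ((Subgroup.zpowers (π Y)).comap π).map J.subtype with hD
  have hDeq : (Subgroup.centralizer ({t} : Set G) ⊓ Subgroup.centralizer ({y} : Set G) : Subgroup G) = D := by
    ext c
    rw [Subgroup.mem_inf, mem_centralizer_singleton_iff', mem_centralizer_singleton_iff']
    constructor
    · rintro ⟨hct, hcy⟩
      obtain ⟨i, w, hw, rfl⟩ := hform c hct hcy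
      refine ⟨Y ^ i * ⟨w, W.four_le hw⟩, Subgroup.mem_comap.2 ⟨i, ?_⟩, by simp [hY]⟩
      show π Y ^ i = _
      rw [map_mul, map_zpow, show π ⟨w, W.four_le hw⟩ = 1 from
        (QuotientGroup.eq_one_iff _).2 (Subgroup.mem_subgroupOf.2 hw), mul_one]
    · rintro ⟨d, hd, rfl⟩
      obtain ⟨i, hi⟩ := Subgroup.mem_zpowers_iff.1 (Subgroup.mem_comap.1 hd)
      rw [← map_zpow] at hi
      have hw := Subgroup.mem_subgroupOf.1 (QuotientGroup.eq.1 hi)
      refine ⟨(mem_fourCent.1 d.2).1, ?_⟩
      have e : (d : G) = y ^ i * ((y ^ i)⁻¹ * d) := (mul_inv_cancel_left _ _).symm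
      show Commute (d : G) y
      rw [e]
      refine Commute.mul_left ((Commute.refl y).zpow_left i) (W.commute_four hy ?_).symm
      simpa [hY] using hw
  have e2 : Nat.card ((Subgroup.zpowers (π Y)).comap π) = Nat.card V * Nat.card (Subgroup.zpowers (π Y)) :=
    (Nat.card_congr (QuotientGroup.preimageMkEquivSubgroupProdSet V
      (Subgroup.zpowers (π Y) : Set (J ⧸ V)))).trans (Nat.card_prod _ _)
  rw [hDeq, hD, Subgroup.card_map_of_injective J.subtype_injective, e2, Nat.card_zpowers, hY7,
    Nat.card_congr (Subgroup.subgroupOfEquivOfLe W.four_le).toEquiv, W.card_fourGrp]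

theorem not_isConj_seven {y i : G} (hy7 : orderOf y = 7) (hi : Commute i y) : ¬ IsConj z i := by
  intro h
  obtain ⟨g, rfl⟩ := isConj_iff.1 h
  have hc : Commute (g⁻¹ * y * g) z := by
    have := (LargeData.commute_conj_iff' (g := g⁻¹)).2 hi.symm
    simpa [mul_assoc] using this
  have h1 := Subgroup.orderOf_dvd_natCard _ (mem_centralizer_singleton_iff'.2 hc)
  have h2 : orderOf (g⁻¹ * y * g) = 7 := by
    have := MulEquiv.orderOf_eq (MulAut.conj g⁻¹) y
    rw [MulAut.conj_apply, inv_inv] at this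
    rw [this, hy7]
  rw [h2, W.frame.sys.cardC] at h1
  norm_num at h1

/-- The common centralizer of an element of order seven and an involution commuting with it. -/
theorem card_cent_seven {i y : G} (hy7 : orderOf y = 7) (hii : i * i = 1) (hi1 : i ≠ 1) (hiy : Commute i y) :
    Nat.card (Subgroup.centralizer ({i} : Set G) ⊓ Subgroup.centralizer ({y} : Set G) : Subgroup G) = 28 := by
  obtain ⟨g, hg⟩ := isConj_iff.1 (W.isConj_t ⟨hii, hi1, W.not_isConj_seven hy7 hiy⟩)
  have hyt : Commute (g⁻¹ * y * g) t := by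
    have := (LargeData.commute_conj_iff' (g := g⁻¹)).2 hiy.symm
    rw [← hg] at this
    simpa [mul_assoc] using this
  have h7 : orderOf (g⁻¹ * y * g) = 7 := by
    have := MulEquiv.orderOf_eq (MulAut.conj g⁻¹) y
    rw [MulAut.conj_apply, inv_inv] at this
    rw [this, hy7]
  refine (Nat.card_congr ((MulAut.conj g⁻¹).toEquiv.subtypeEquiv fun c => ?_)).trans
    (W.card_cent_t_seven (W.mem_J_of_odd hyt (by rw [h7]; decide)) h7).1
  show c ∈ _ ↔ g⁻¹ * c * g⁻¹⁻¹ ∈ _
  rw [Subgroup.mem_inf, Subgroup.mem_inf, mem_centralizer_singleton_iff', mem_centralizer_singleton_iff',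
    mem_centralizer_singleton_iff', mem_centralizer_singleton_iff']
  have e1 : t = g⁻¹ * i * g⁻¹⁻¹ := by rw [← hg]; group
  have e2 : g⁻¹ * y * g = g⁻¹ * y * g⁻¹⁻¹ := by rw [inv_inv]
  rw [e1, e2]
  exact and_congr LargeData.commute_conj_iff'.symm LargeData.commute_conj_iff'.symm

/-- The centralizer of an element of order seven modulo it. -/
theorem quotient_seven {y : G} (hy : y ∈ fourCent t v) (hy7 : orderOf y = 7)
    [((Subgroup.zpowers y).subgroupOf (Subgroup.centralizer ({y} : Set G))).Normal] :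
    Nat.card (Subgroup.centralizer ({y} : Set G) ⧸
      (Subgroup.zpowers y).subgroupOf (Subgroup.centralizer ({y} : Set G))) ∈ [4, 12, 60] := by
  classical
  haveI : Fact (Nat.Prime 2) := ⟨Nat.prime_two⟩
  set C := Subgroup.centralizer ({y} : Set G) with hC
  set N0 := (Subgroup.zpowers y).subgroupOf C with hN0
  set π := QuotientGroup.mk' N0 with hπ
  have hVC : fourGrp t v ≤ C := fun w hw => mem_centralizer_singleton_iff'.2 (W.commute_four hy hw).symm
  have hy7' : ∀ w ∈ Subgroup.zpowers y, w ∈ fourGrp t v → w = 1 := fun w h1 h2 => by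
    have k1 : orderOf w ∣ 7 := hy7 ▸ orderOf_dvd_of_mem_zpowers h1
    have k2 : orderOf w ∣ 4 := W.card_fourGrp ▸ Subgroup.orderOf_dvd_natCard _ h2
    exact orderOf_eq_one_iff.1 (Nat.eq_one_of_dvd_coprimes (by norm_num) k1 k2)
  set V' := (fourGrp t v).subgroupOf C with hV'
  set U0 := V'.map π with hU0
  have hker : ∀ a : C, π a = 1 → (a : G) ∈ Subgroup.zpowers y := fun a h =>
    Subgroup.mem_subgroupOf.1 ((QuotientGroup.eq_one_iff a).1 h)
  have hU4 : Nat.card U0 = 4 := by
    have hinj : Function.Injective (π.comp V'.subtype) := by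
      rw [← MonoidHom.ker_eq_bot_iff, Subgroup.eq_bot_iff_forall]
      intro a ha
      exact Subtype.ext (Subtype.ext (hy7' _ (hker _ (MonoidHom.mem_ker.1 ha)) (Subgroup.mem_subgroupOf.1 a.2)))
    have e : U0 = (π.comp V'.subtype).range := by rw [hU0, MonoidHom.range_comp, Subgroup.range_subtype]
    rw [e, ← Nat.card_congr (MonoidHom.ofInjective hinj).toEquiv, hV',
      Nat.card_congr (Subgroup.subgroupOfEquivOfLe hVC).toEquiv, W.card_fourGrp]
  have hU2 : ∀ u ∈ U0, u * u = 1 := by
    rintro _ ⟨w, hw, rfl⟩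
    rw [← map_mul, show w * w = 1 from Subtype.ext ?_, map_one]
    rcases W.mem_four.1 (Subgroup.mem_subgroupOf.1 hw) with e | e | e | e <;>
      simp only [Subgroup.coe_mul, Subgroup.coe_one, e, one_mul, W.sq_t, W.sq_v, W.sq_tv]
  have hcent : ∀ u ∈ U0, u ≠ 1 → Subgroup.centralizer ({u} : Set (C ⧸ N0)) = U0 := by
    rintro _ ⟨w, hw, rfl⟩ hu1
    have hwV : (w : G) ∈ fourGrp t v := Subgroup.mem_subgroupOf.1 hw
    have hw1 : (w : G) ≠ 1 := fun e => hu1 (by rw [show w = 1 from Subtype.ext e, map_one])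
    have hww : (w : G) * w = 1 := (W.isT_of_mem hwV hw1).1
    have hwy : Commute (w : G) y := mem_centralizer_singleton_iff'.1 w.2
    set Dt := (Subgroup.centralizer ({t} : Set G) ⊓ Subgroup.centralizer ({y} : Set G) : Subgroup G) with hDt
    set Dw := (Subgroup.centralizer ({(w : G)} : Set G) ⊓ Subgroup.centralizer ({y} : Set G) : Subgroup G) with hDw
    have hle : Dt ≤ Dw := by
      intro c hc
      obtain ⟨hct, hcy⟩ := Subgroup.mem_inf.1 hc
      exact Subgroup.mem_inf.2 ⟨mem_centralizer_singleton_iff'.2 (W.commute_four (W.no_outer_seven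
        (mem_centralizer_singleton_iff'.1 hct) hy hy7 (mem_centralizer_singleton_iff'.1 hcy)) hwV), hcy⟩
    have heq : Dt = Dw := Subgroup.eq_of_le_of_card_ge hle (by
      rw [hDw, hDt, (W.card_cent_t_seven hy hy7).1, W.card_cent_seven hy7 hww hw1 hwy])
    ext a
    obtain ⟨a, rfl⟩ := QuotientGroup.mk'_surjective N0 a
    rw [mem_centralizer_singleton_iff']
    constructor
    · intro hcom
      have h1 : π (w⁻¹ * (a * w * a⁻¹)) = 1 := by
        rw [map_mul, map_mul, map_mul, map_inv, map_inv, hcom, mul_inv_cancel_right, inv_mul_cancel]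
      obtain ⟨j, hj⟩ := Subgroup.mem_zpowers_iff.1 (hker _ h1)
      simp only [Subgroup.coe_mul, Subgroup.coe_inv] at hj
      set b := (a : G) * w * (a : G)⁻¹ with hb
      have hbb : b * b = 1 := by rw [hb, ← conj_sq_one hww (a : G)]
      have hbe : b = (w : G) * y ^ j := by rw [hj, mul_inv_cancel_left]
      have hyj : Commute (y ^ j) (w : G) := hwy.symm.zpow_left j
      have h2 : y ^ j * y ^ j = 1 := by
        rw [hbe, mul_assoc, ← mul_assoc (y ^ j), hyj.eq, mul_assoc (w : G), ← mul_assoc (w : G), hww, one_mul] at hbb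
        exact hbb
      have h3 : y ^ j = 1 := by
        have k1 : orderOf (y ^ j) ∣ 7 := hy7 ▸ orderOf_dvd_of_mem_zpowers (Subgroup.zpow_mem_zpowers y j)
        have k2 : orderOf (y ^ j) ∣ 2 := orderOf_dvd_of_pow_eq_one (by rw [pow_two, h2])
        exact orderOf_eq_one_iff.1 (Nat.eq_one_of_dvd_coprimes (by norm_num) k1 k2)
      rw [h3, mul_one] at hbe
      have haw : Commute (a : G) w := mul_inv_eq_iff_eq_mul.1 hbe
      have hay : Commute (a : G) y := mem_centralizer_singleton_iff'.1 a.2
      have haD : (a : G) ∈ Dt := heq ▸ Subgroup.mem_inf.2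
        ⟨mem_centralizer_singleton_iff'.2 haw, a.2⟩
      obtain ⟨hat, -⟩ := Subgroup.mem_inf.1 haD
      obtain ⟨i, w', hw', e⟩ :=
        (W.card_cent_t_seven hy hy7).2 _ (mem_centralizer_singleton_iff'.1 hat) hay
      refine ⟨⟨w', hVC hw'⟩, Subgroup.mem_subgroupOf.2 hw', ?_⟩
      refine QuotientGroup.eq.2 (Subgroup.mem_subgroupOf.2 ?_)
      show w'⁻¹ * (a : G) ∈ Subgroup.zpowers y
      rw [e, ← mul_assoc, ((W.commute_four hy hw').zpow_left i).symm.inv_left.eq, mul_assoc, inv_mul_cancel, mul_one]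
      exact Subgroup.zpow_mem_zpowers y i
    · rintro ⟨b, hb, e⟩
      rw [← e]
      have hbV : (b : G) ∈ fourGrp t v := Subgroup.mem_subgroupOf.1 hb
      exact (show Commute b w from Subtype.ext (W.commute_four (W.four_le hbV) hwV).eq).map π
  have hUp : IsPGroup 2 U0 := IsPGroup.of_card (n := 2) (by rw [hU4]; norm_num)
  obtain ⟨S, hS⟩ := hUp.exists_le_sylow
  have hUS : U0 = (S : Subgroup (C ⧸ N0)) := by
    haveI : Nontrivial (S : Subgroup (C ⧸ N0)) := by
      have h1 : 4 ∣ Nat.card (S : Subgroup (C ⧸ N0)) := hU4 ▸ Subgroup.card_dvd_of_le hS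
      have h2 := Nat.le_of_dvd Nat.card_pos h1
      exact Finite.one_lt_card_iff_nontrivial.1 (by omega)
    haveI := S.2.center_nontrivial
    obtain ⟨⟨c, hc⟩, hc1⟩ := exists_ne (1 : Subgroup.center (S : Subgroup (C ⧸ N0)))
    have hcS : ∀ s ∈ (S : Subgroup (C ⧸ N0)), Commute s (c : C ⧸ N0) := fun s hs =>
      congrArg Subtype.val (Subgroup.mem_center_iff.1 hc ⟨s, hs⟩)
    obtain ⟨u, hu, hu1⟩ : ∃ u ∈ U0, u ≠ 1 := by
      by_contra h
      push Not at h
      have : U0 = ⊥ := (Subgroup.eq_bot_iff_forall _).2 h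
      rw [this, Subgroup.card_bot] at hU4
      norm_num at hU4
    have hcU : (c : C ⧸ N0) ∈ U0 := by
      rw [← hcent u hu hu1]
      exact mem_centralizer_singleton_iff'.2 (hcS u (hS hu)).symm
    have hc1' : (c : C ⧸ N0) ≠ 1 := fun e => hc1 (Subtype.ext (Subtype.ext e))
    refine le_antisymm hS fun s hs => ?_
    rw [← hcent _ hcU hc1']
    exact mem_centralizer_singleton_iff'.2 (hcS s hs)
  have hS4 : Nat.card (S : Subgroup (C ⧸ N0)) = 4 := hUS ▸ hU4
  have hKF : IsKleinFour (S : Subgroup (C ⧸ N0)) := by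
    refine ⟨hS4, ?_⟩
    haveI : Nontrivial (S : Subgroup (C ⧸ N0)) := Finite.one_lt_card_iff_nontrivial.1 (by omega)
    refine ((Nat.dvd_prime Nat.prime_two).1 (Monoid.exponent_dvd_of_forall_pow_eq_one fun g => ?_)).resolve_left
      fun e => ?_
    · exact Subtype.ext (by rw [Subgroup.coe_pow, pow_two]; exact hU2 _ (hUS.ge g.2))
    · haveI := Monoid.exp_eq_one_iff.1 e
      exact not_subsingleton (S : Subgroup (C ⧸ N0)) inferInstance
  have hSC : ∀ u ∈ (S : Subgroup (C ⧸ N0)), u ≠ 1 → Subgroup.centralizer ({u} : Set (C ⧸ N0)) = S :=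
    fun u hu hu1 => by rw [hcent u (hUS ▸ hu) hu1, hUS]
  by_cases hnc : Cfsg.HasNormalPComplement 2 (C ⧸ N0)
  · obtain ⟨P, N, hN, hcomp⟩ := hnc
    have hP4 : Nat.card (P : Subgroup (C ⧸ N0)) = 4 := by
      rw [Sylow.card_eq_multiplicity, ← Sylow.card_eq_multiplicity S, hS4]
    have hodd : Odd (Nat.card N) := by
      rw [Nat.odd_iff]
      by_contra hev
      have h1 : 2 ^ 3 ∣ Nat.card (C ⧸ N0) := by
        rw [← hcomp.card_mul_card, hP4]
        obtain ⟨c, hc⟩ : 2 ∣ Nat.card N := by omega
        exact ⟨c, by rw [hc]; ring⟩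
      obtain ⟨K, hK⟩ := Sylow.exists_subgroup_card_pow_prime 2 h1
      obtain ⟨S', hS'⟩ := (IsPGroup.of_card (n := 3) hK).exists_le_sylow
      have h2 := Subgroup.card_dvd_of_le hS'
      rw [hK, Sylow.card_eq_multiplicity, ← Sylow.card_eq_multiplicity S, hS4] at h2
      norm_num at h2
    obtain ⟨a, ha, ha1⟩ : ∃ a ∈ U0, a ≠ 1 := by
      by_contra h
      push Not at h
      rw [(Subgroup.eq_bot_iff_forall _).2 h, Subgroup.card_bot] at hU4
      norm_num at hU4
    obtain ⟨b, hb, hb1, hba⟩ : ∃ b ∈ U0, b ≠ 1 ∧ b ≠ a := by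
      by_contra h
      push Not at h
      have hsub : (U0 : Set (C ⧸ N0)) ⊆ ({1, a} : Finset (C ⧸ N0)) := by
        intro x hx
        by_cases hx1 : x = 1
        · simp [hx1]
        · simp [h x hx hx1]
      have h2 := Set.ncard_le_ncard hsub (Finset.finite_toSet _)
      rw [Set.ncard_coe_finset, ← Nat.card_coe_set_eq] at h2
      have h3 := h2.trans (Finset.card_insert_le _ _)
      rw [Finset.card_singleton] at h3
      simp only [SetLike.coe_sort_coe, hU4] at h3
      omega
    have hp : ∀ u ∈ U0, u ≠ 1 → IsPGroup 2 (Subgroup.centralizer ({u} : Set (C ⧸ N0))) := fun u hu hu1 => by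
      rw [hcent u hu hu1]; exact hUp
    have hab : a * b ≠ 1 := fun e => hba (by
      rw [eq_inv_of_mul_eq_one_right e, inv_of_sq (hU2 a ha)])
    have hcom : Commute a b := mem_centralizer_singleton_iff'.1 ((hcent b hb hb1).symm ▸ ha)
    have hbot := DEight.oddCore_eq_bot (orderOf_eq_prime (by rw [pow_two, hU2 a ha]) ha1)
      (orderOf_eq_prime (by rw [pow_two, hU2 b hb]) hb1) hcom.eq hba.symm (hp a ha ha1) (hp b hb hb1)
      (hp _ (mul_mem ha hb) hab)
    have hN1 : N = ⊥ := le_bot_iff.1 (hbot ▸ CfsgLib.ZStar.le_oddCore hN hodd)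
    have := hcomp.card_mul_card
    rw [hN1, Subgroup.card_bot, one_mul, hP4] at this
    simp [← this]
  · obtain ⟨h, -⟩ := DEight.four_core S hKF hSC hnc
    rcases h with ⟨-, h12⟩ | ⟨⟨e⟩⟩
    · simp [h12]
    · rw [Nat.card_congr e.toEquiv, nat_card_alternatingGroup, Nat.card_fin]
      decide

/-- The orders of the centralizer and of the normalizer. -/
theorem card_seven {y : G} (hy : y ∈ fourCent t v) (hy7 : orderOf y = 7) :
    Nat.card (Subgroup.centralizer ({y} : Set G)) = 84 ∧
      Nat.card (Subgroup.normalizer ((Subgroup.zpowers y : Subgroup G) : Set G)) = 504 := by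
  classical
  haveI : Fact (Nat.Prime 7) := ⟨by norm_num⟩
  set C := Subgroup.centralizer ({y} : Set G) with hC
  set B := Subgroup.zpowers y with hB
  set N := Subgroup.normalizer (B : Set G) with hN
  have hBC : B ≤ C := Subgroup.zpowers_le.2 (mem_centralizer_singleton_iff'.2 (Commute.refl y))
  haveI hnorm : (B.subgroupOf C).Normal := ⟨fun n hn g => by
    rw [Subgroup.mem_subgroupOf] at hn ⊢
    obtain ⟨i, hi⟩ := Subgroup.mem_zpowers_iff.1 hn
    have hg : Commute (g : G) y := mem_centralizer_singleton_iff'.1 g.2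
    simp only [Subgroup.coe_mul, Subgroup.coe_inv]
    rwa [← hi, (hg.zpow_right i).eq, mul_inv_cancel_right, hi]⟩
  have hB7 : Nat.card B = 7 := by rw [hB, Nat.card_zpowers, hy7]
  have hY := W.quotient_seven hy hy7
  rw [← hC, ← hB] at hY
  have hcC : Nat.card C = Nat.card (C ⧸ B.subgroupOf C) * 7 := by
    rw [Subgroup.card_eq_card_quotient_mul_card_subgroup (B.subgroupOf C),
      Nat.card_congr (Subgroup.subgroupOfEquivOfLe hBC).toEquiv, hB7]
  have hker : B.normalizerMonoidHom.ker = C.subgroupOf N := by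
    rw [Subgroup.normalizerMonoidHom_ker, hC, ← centralizer_zpowers_eq]
  have hCN : C ≤ N := by
    rw [hC, ← centralizer_zpowers_eq]
    exact Subgroup.centralizer_le_normalizer _
  have hcN : Nat.card C * Nat.card B.normalizerMonoidHom.range = Nat.card N := by
    rw [← Nat.card_congr (QuotientGroup.quotientKerEquivRange B.normalizerMonoidHom).toEquiv, hker,
      ← Nat.card_congr (Subgroup.subgroupOfEquivOfLe hCN).toEquiv]
    exact (C.subgroupOf N).card_mul_index
  have he : Nat.card B.normalizerMonoidHom.range ∣ 6 := by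
    haveI : IsCyclic B := by rw [hB]; infer_instance
    have h1 := Subgroup.card_subgroup_dvd_card B.normalizerMonoidHom.range
    rw [IsCyclic.card_mulAut, hB7, Nat.totient_prime (by norm_num)] at h1
    exact h1
  have hfac : Nat.card B = 7 ^ (Nat.card G).factorization 7 := by
    rw [hB7, W.card_group, show (448345497600 : ℕ) = 7 ^ 1 * 64049356800 from rfl,
      Nat.factorization_mul (by norm_num) (by norm_num), Finsupp.add_apply,
      Nat.Prime.factorization_pow (by norm_num : Nat.Prime 7), Finsupp.single_eq_same,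
      Nat.factorization_eq_zero_of_not_dvd (by norm_num)]
    norm_num
  let P : Sylow 7 G := Sylow.ofCard B hfac
  have hn := card_sylow_modEq_one 7 G
  rw [P.card_eq_index_normalizer] at hn
  replace hn : N.index ≡ 1 [MOD 7] := hn
  have hmul := N.card_mul_index
  rw [W.card_group] at hmul
  unfold Nat.ModEq at hn
  generalize Nat.card B.normalizerMonoidHom.range = e at hcN he
  generalize N.index = n at hn hmul
  generalize Nat.card (C ⧸ B.subgroupOf C) = q at hY hcC
  rw [← hcN, hcC] at hmul
  have he' : e ∈ Nat.divisors 6 := Nat.mem_divisors.2 ⟨he, by norm_num⟩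
  rw [show Nat.divisors 6 = {1, 2, 3, 6} by decide] at he'
  simp only [Finset.mem_insert, Finset.mem_singleton] at he'
  simp only [List.mem_cons, List.not_mem_nil, or_false] at hY
  rcases hY with rfl | rfl | rfl <;> rcases he' with rfl | rfl | rfl | rfl <;> omega

/-- The centralizer is the product of the group of order seven and an alternating group. -/
theorem split_seven {y : G} (hy : y ∈ fourCent t v) (hy7 : orderOf y = 7) :
    Nonempty (Subgroup.centralizer ({y} : Set G) ≃* Multiplicative (ZMod 7) × alternatingGroup (Fin 4)) := by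
  classical
  haveI : Fact (Nat.Prime 7) := ⟨by norm_num⟩
  set C := Subgroup.centralizer ({y} : Set G) with hC
  set B := Subgroup.zpowers y with hB
  have hBC : B ≤ C := Subgroup.zpowers_le.2 (mem_centralizer_singleton_iff'.2 (Commute.refl y))
  set N0 := B.subgroupOf C with hN0
  have hcen : ∀ a ∈ N0, ∀ g : C, Commute g a := by
    intro a ha g
    obtain ⟨i, hi⟩ := Subgroup.mem_zpowers_iff.1 (Subgroup.mem_subgroupOf.1 ha)
    have hg : Commute (g : G) y := mem_centralizer_singleton_iff'.1 g.2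
    exact Subtype.ext (hi ▸ (hg.zpow_right i)).eq
  haveI : N0.Normal := ⟨fun n hn g => by rwa [(hcen n hn g).eq, mul_inv_cancel_right]⟩
  have hN7 : Nat.card N0 = 7 := by
    rw [hN0, Nat.card_congr (Subgroup.subgroupOfEquivOfLe hBC).toEquiv, hB, Nat.card_zpowers, hy7]
  have hidx : N0.index = 12 := by
    have := N0.card_mul_index
    rw [hN7, (W.card_seven hy hy7).1] at this
    omega
  obtain ⟨H, hH⟩ := Subgroup.exists_right_complement'_of_coprime (N := N0) (by rw [hN7, hidx]; norm_num)
  let e : N0 × H ≃* C := MulEquiv.ofBijective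
    (MonoidHom.noncommCoprod N0.subtype H.subtype fun a b => (hcen a a.2 b).symm) hH
  have hH12 : Nat.card H = 12 := by
    have := hH.card_mul_card
    rw [hN7, (W.card_seven hy hy7).1] at this
    omega
  have h6 : ∀ a : H, orderOf a ≠ 6 := by
    intro a ha
    set a' : G := ((a : C) : G) with ha'
    have ho : orderOf a' = 6 := by rw [ha', Subgroup.orderOf_coe, Subgroup.orderOf_coe, ha]
    have hay : Commute a' y := mem_centralizer_singleton_iff'.1 (a : C).2
    have h3 : orderOf (a' ^ 3) = 2 := by rw [orderOf_pow, ho]; norm_num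
    have hsq : a' ^ 3 * a' ^ 3 = 1 := by rw [← pow_two, ← h3, pow_orderOf_eq_one]
    have h28 := W.card_cent_seven hy7 hsq (fun e => by rw [e, orderOf_one] at h3; norm_num at h3) (hay.pow_left 3)
    have := Subgroup.orderOf_dvd_natCard _ (Subgroup.mem_inf.2
      ⟨mem_centralizer_singleton_iff'.2 ((Commute.refl a').pow_right 3), (a : C).2⟩ :
        a' ∈ (Subgroup.centralizer ({a' ^ 3} : Set G) ⊓ C : Subgroup G))
    rw [hC, h28, ho] at this
    norm_num at this
  obtain ⟨eH⟩ := CfsgLib.CharDegree.GraphMTwelve.nonempty_alt_four hH12 h6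
  haveI : IsCyclic N0 := isCyclic_of_prime_card hN7
  have eN : N0 ≃* Multiplicative (ZMod 7) := mulEquivOfCyclicCardEq (by
    rw [hN7, Nat.card_congr Multiplicative.toAdd, Nat.card_zmod])
  exact ⟨e.symm.trans (MulEquiv.prodCongr eN eH)⟩

/-- The centralizer and the normalizer of a Sylow 7-subgroup. -/
theorem sylow_seven (B : Sylow 7 G) :
    Nonempty (↥(Subgroup.centralizer ((B : Subgroup G) : Set G)) ≃* Multiplicative (ZMod 7) × alternatingGroup (Fin 4)) ∧
      Nat.card ↥(Subgroup.normalizer ((B : Subgroup G) : Set G)) = 504 := by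
  haveI : Fact (Nat.Prime 7) := ⟨by norm_num⟩
  obtain ⟨y, hy, hy7⟩ := W.exists_seven
  obtain ⟨S, hS⟩ := (IsPGroup.of_card (n := 1) (G := Subgroup.zpowers y)
    (by rw [Nat.card_zpowers, hy7, pow_one])).exists_le_sylow
  have hS7 : Nat.card (S : Subgroup G) = 7 := by
    rw [Sylow.card_eq_multiplicity, W.card_group, show (448345497600 : ℕ) = 7 ^ 1 * 64049356800 from rfl,
      Nat.factorization_mul (by norm_num) (by norm_num), Finsupp.add_apply,
      Nat.Prime.factorization_pow (by norm_num : Nat.Prime 7), Finsupp.single_eq_same,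
      Nat.factorization_eq_zero_of_not_dvd (by norm_num)]
    norm_num
  have hSy : (S : Subgroup G) = Subgroup.zpowers y :=
    (Subgroup.eq_of_le_of_card_ge hS (by rw [hS7, Nat.card_zpowers, hy7])).symm
  obtain ⟨g, rfl⟩ := MulAction.exists_smul_eq G S B
  have e : ((g • S : Sylow 7 G) : Subgroup G) = (Subgroup.zpowers y).map (MulAut.conj g).toMonoidHom := by
    rw [← hSy]; rfl
  rw [e, centralizer_map_conj, centralizer_zpowers_eq, ← Subgroup.map_equiv_normalizer_eq]
  obtain ⟨eC⟩ := W.split_seven hy hy7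
  refine ⟨⟨((Subgroup.centralizer ({y} : Set G)).equivMapOfInjective (MulAut.conj g).toMonoidHom
    (MulAut.conj g).injective).symm.trans eC⟩, ?_⟩
  rw [Subgroup.card_map_of_injective (MulAut.conj g).injective, (W.card_seven hy hy7).2]

end Four

end CfsgLib.LocalEvenB.SuzType
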