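import Cfsg.Agent.Lib.LocalEvenB.SuzType.Locals.Cand

/-!
Which isometries are induced: transvections are not; determination of induced maps inside short lists
(owner: helper8).
-/

set_option autoImplicit false
set_option linter.unusedSectionVars false
set_option linter.unusedVariables false
set_option linter.style.haveILetI false
set_option quotPrecheck false

namespace CfsgLib.LocalEvenB.SuzType

open CfsgLib.ThreeTrans

variable {G : Type*} [Group G] [Finite G] {z : G} {Q : Subgroup G} {p : G → Nat} {k : G}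

/-- An isometry fixing the first vector is in the list of candidates. -/
theorem mem_cand1 {A : List Nat} (hA : Iso A) (h1 : app A 1 = 1) : A ∈ cand1 := by
  obtain ⟨a0, a1, a2, a3, a4, a5, rfl⟩ : ∃ a0 a1 a2 a3 a4 a5, A = [a0, a1, a2, a3, a4, a5] := by
    match A, hA.1 with
    | [a0, a1, a2, a3, a4, a5], _ => exact ⟨a0, a1, a2, a3, a4, a5, rfl⟩
  have v0 : app [a0, a1, a2, a3, a4, a5] 1 = a0 := by simp [app, term, Nat.testBit, Nat.shiftRight_eq_div_pow]
  have v1 : app [a0, a1, a2, a3, a4, a5] 2 = a1 := by simp [app, term, Nat.testBit, Nat.shiftRight_eq_div_pow]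
  have v2 : app [a0, a1, a2, a3, a4, a5] 4 = a2 := by simp [app, term, Nat.testBit, Nat.shiftRight_eq_div_pow]
  have v3 : app [a0, a1, a2, a3, a4, a5] 8 = a3 := by simp [app, term, Nat.testBit, Nat.shiftRight_eq_div_pow]
  have v4 : app [a0, a1, a2, a3, a4, a5] 16 = a4 := by simp [app, term, Nat.testBit, Nat.shiftRight_eq_div_pow]
  have v5 : app [a0, a1, a2, a3, a4, a5] 32 = a5 := by simp [app, term, Nat.testBit, Nat.shiftRight_eq_div_pow]
  obtain rfl : a0 = 1 := v0.symm.trans h1
  have hb := bb_basis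
  simp only [Bool.and_eq_true, Bool.not_eq_true'] at hb
  obtain ⟨⟨⟨⟨⟨⟨⟨⟨⟨⟨⟨⟨⟨⟨⟨⟨⟨⟨⟨⟨t12, t48⟩, t16⟩, t14⟩, t18⟩, t116⟩, t132⟩, t24⟩, t28⟩, t216⟩, t232⟩, t416⟩,
    t432⟩, t816⟩, t832⟩, q1⟩, q2⟩, q4⟩, q8⟩, q16⟩, q32⟩ := hb
  have B := fun {m n : Nat} (hm : m < 64) (hn : n < 64) => hA.bb_app hm hn
  have L := fun {m : Nat} (hm : m < 64) => hA.2 m hm
  have l1 := L (m := 2) (by norm_num)
  have l2 := L (m := 4) (by norm_num)
  have l3 := L (m := 8) (by norm_num)
  have l4 := L (m := 16) (by norm_num)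
  have l5 := L (m := 32) (by norm_num)
  rw [v1] at l1
  rw [v2] at l2
  rw [v3] at l3
  rw [v4] at l4
  rw [v5] at l5
  have b10 := B (m := 2) (n := 1) (by norm_num) (by norm_num)
  have b20 := B (m := 4) (n := 1) (by norm_num) (by norm_num)
  have b30 := B (m := 8) (n := 1) (by norm_num) (by norm_num)
  have b40 := B (m := 16) (n := 1) (by norm_num) (by norm_num)
  have b50 := B (m := 32) (n := 1) (by norm_num) (by norm_num)
  have b21 := B (m := 4) (n := 2) (by norm_num) (by norm_num)
  have b31 := B (m := 8) (n := 2) (by norm_num) (by norm_num)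
  have b41 := B (m := 16) (n := 2) (by norm_num) (by norm_num)
  have b51 := B (m := 32) (n := 2) (by norm_num) (by norm_num)
  have b32 := B (m := 8) (n := 4) (by norm_num) (by norm_num)
  have b42 := B (m := 16) (n := 4) (by norm_num) (by norm_num)
  have b52 := B (m := 32) (n := 4) (by norm_num) (by norm_num)
  have b43 := B (m := 16) (n := 8) (by norm_num) (by norm_num)
  have b53 := B (m := 32) (n := 8) (by norm_num) (by norm_num)
  have b54 := B (m := 32) (n := 16) (by norm_num) (by norm_num)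
  rw [v1, v0, bb_comm 2 1, t12] at b10
  rw [v2, v0, bb_comm 4 1, t14] at b20
  rw [v3, v0, bb_comm 8 1, t18] at b30
  rw [v4, v0, bb_comm 16 1, t116] at b40
  rw [v5, v0, bb_comm 32 1, t132] at b50
  rw [v2, v1, bb_comm 4 2, t24] at b21
  rw [v3, v1, bb_comm 8 2, t28] at b31
  rw [v4, v1, bb_comm 16 2, t216] at b41
  rw [v5, v1, bb_comm 32 2, t232] at b51
  rw [v3, v2, bb_comm 8 4, t48] at b32
  rw [v4, v2, bb_comm 16 4, t416] at b42
  rw [v5, v2, bb_comm 32 4, t432] at b52
  rw [v4, v3, bb_comm 16 8, t816] at b43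
  rw [v5, v3, bb_comm 32 8, t832] at b53
  rw [v5, v4, bb_comm 32 16, t16] at b54
  rw [q2] at l1
  rw [q4] at l2
  rw [q8] at l3
  rw [q16] at l4
  rw [q32] at l5
  have h0 : a2 ≠ 0 := fun e => by
    rw [e, bb_comm, bb_zero_left] at b32
    exact Bool.false_ne_true b32
  simp only [cand1, candTwo, candFour, candEight, candSixteen, candLast, vecs, List.mem_flatMap, List.mem_map,
    List.mem_filter, List.mem_range]
  exact ⟨a1, ⟨l1.1, by simp [l1.2, b10]⟩, a2, ⟨l2.1, by simp [l2.2, b20, b21, h0]⟩, a3,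
    ⟨l3.1, by simp [l3.2, b30, b31, b32]⟩, a4, ⟨l4.1, by simp [l4.2, b40, b41, b42, b43]⟩, a5,
    ⟨l5.1, by simp [l5.2, b50, b51, b52, b53, b54]⟩, rfl⟩

namespace Sys

variable (h : Sys z Q p)
include h

theorem acts_eq {c : G} {A B : List Nat} (hA : A.length = 6) (hB : B.length = 6) (h1 : Acts z Q p c A)
    (h2 : Acts z Q p c B) : A = B :=
  h.acts_unique hA hB h1 h2

/-- Commuting elements induce commuting maps. -/
theorem comm_of_commute {c d : G} {A B : List Nat} (hA : A.length = 6) (hB : B.length = 6)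
    (hc : Acts z Q p c A) (hd : Acts z Q p d B) (e : Commute c d) : comp A B = comp B A := by
  refine h.acts_unique (by rw [length_comp, hB]) (by rw [length_comp, hA]) (h.acts_mul hB hc hd) ?_
  rw [e.eq]
  exact h.acts_mul hA hd hc

/-- The map of the inverse. -/
theorem exists_acts_inv {c : G} {A : List Nat} (hA : A.length = 6) (hc : Acts z Q p c A) :
    ∃ B, B.length = 6 ∧ Acts z Q p c⁻¹ B ∧ comp B A = one ∧ comp A B = one := by
  obtain ⟨B, hB, hBc⟩ := h.exists_acts hc.1.inv_left
  refine ⟨B, hB.1, hBc, ?_, ?_⟩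
  · refine h.acts_unique (by rw [length_comp, hA]) rfl ?_ h.acts_one
    simpa using h.acts_mul hA hBc hc
  · refine h.acts_unique (by rw [length_comp, hB.1]) rfl ?_ h.acts_one
    simpa using h.acts_mul hB.1 hc hBc

/-- Every two-element of the centralizer of `z` is conjugate there into the chosen Sylow subgroup. -/
theorem exists_conj_sylow {c : G} (hc : Commute c z) {m : ℕ} (hm : c ^ 2 ^ m = 1) :
    ∃ d : G, Commute d z ∧ ∃ r ∈ sylow, r.1.length = 6 ∧ Acts z Q p (d * c * d⁻¹) r.1 := by
  haveI : Fact (Nat.Prime 2) := ⟨Nat.prime_two⟩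
  obtain ⟨T, hcard, hQT, hT⟩ := h.exists_sylow
  set C := Subgroup.centralizer ({z} : Set G) with hC
  have hTC : T ≤ C := fun a ha => by
    obtain ⟨r, -, -, hr⟩ := hT a ha
    exact mem_centralizer_singleton_iff'.2 hr.1.eq
  have hfac : (Nat.card C).factorization 2 = 13 := by
    rw [h.cardC, show (2 : ℕ) ^ 7 * 25920 = 2 ^ 13 * 405 by norm_num,
      Nat.factorization_def _ Nat.prime_two, padicValNat.mul (by norm_num) (by norm_num),
      padicValNat.prime_pow, padicValNat.eq_zero_of_not_dvd (by norm_num)]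
  let S : Sylow 2 C := Sylow.ofCard (T.subgroupOf C)
    (by rw [hfac, Nat.card_congr (Subgroup.subgroupOfEquivOfLe hTC).toEquiv, hcard])
  set c' : C := ⟨c, mem_centralizer_singleton_iff'.2 hc.eq⟩ with hc'
  have hp : IsPGroup 2 (Subgroup.zpowers c') := by
    intro y
    obtain ⟨j, hj⟩ := y.2
    refine ⟨m, Subtype.ext ?_⟩
    rw [SubgroupClass.coe_pow, OneMemClass.coe_one, ← hj]
    show (c' ^ j) ^ 2 ^ m = 1
    have e : c' ^ 2 ^ m = 1 := Subtype.ext hm
    rw [← zpow_natCast (c' ^ j), ← zpow_mul, mul_comm, zpow_mul, zpow_natCast, e, one_zpow]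
  obtain ⟨R, hR⟩ := hp.exists_le_sylow
  obtain ⟨g, hg⟩ := MulAction.exists_smul_eq C R S
  refine ⟨g, mem_centralizer_singleton_iff'.1 g.2, hT _ ?_⟩
  have : g * c' * g⁻¹ ∈ (S : Subgroup C) := by
    rw [← hg, Sylow.coe_subgroup_smul]
    exact ⟨_, hR (Subgroup.mem_zpowers _), rfl⟩
  exact Subgroup.mem_subgroupOf.1 this

/-- No element induces a transvection. -/
theorem no_transvection {c : G} {A : List Nat} (hA : A.length = 6) (hc : Acts z Q p c A)
    (h2 : comp A A = one) : ((List.range 64).filter (fixB A)).length ≠ 32 := by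
  intro h32
  have hq : c * c ∈ Q := h.mem_of_acts_one (h2 ▸ h.acts_mul hA hc hc)
  have hm : c ^ 2 ^ 8 = 1 := by
    have e := pow_card_eq_one' (x := (⟨c * c, hq⟩ : Q))
    rw [h.card] at e
    have e' : (c * c) ^ 128 = 1 := congrArg Subtype.val e
    rw [← pow_two, ← pow_mul] at e'
    exact e'
  obtain ⟨d, hd, r, hr, hrl, hrA⟩ := h.exists_conj_sylow hc.1 hm
  obtain ⟨W, hW, hWd⟩ := h.exists_acts hd
  have e : comp W A = comp r.1 W := by
    refine h.acts_unique (by rw [length_comp, hA]) (by rw [length_comp, hW.1]) (h.acts_mul hA hWd hc) ?_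
    have := h.acts_mul hW.1 hrA hWd
    rwa [inv_mul_cancel_right] at this
  have hne := List.all_eq_true.1 sylow_fix r hr
  simp only [Bool.not_eq_true', beq_eq_false_iff_ne, ne_eq] at hne
  refine hne ?_
  rw [← h32]
  have key : ∀ m < 64, (fixB r.1 (app W m) = true ↔ fixB A m = true) := by
    intro m hm64
    obtain ⟨a, ha, rfl⟩ := h.surj m hm64
    have hlt : app A (p a) < 64 := by
      rw [← hc.2 a ha]
      exact h.lt _ (h.large.conj_mem hc.1 ha)
    simp only [fixB, beq_iff_eq]
    rw [← app_comp hW.1, ← e, app_comp hA]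
    exact ⟨fun e' => h.app_inj hWd hlt hm64 e', fun e' => by rw [e']⟩
  have hn : ∀ B, ((List.range 64).filter (fixB B)).length = ((Finset.range 64).filter (fun m => fixB B m = true)).card := by
    intro B
    rw [← List.toFinset_card_of_nodup (List.nodup_range.filter _)]
    congr 1
    ext m
    simp
  rw [hn, hn]
  symm
  refine Finset.card_bij (fun m _ => app W m) ?_ ?_ ?_
  · intro m hm
    rw [Finset.mem_filter, Finset.mem_range] at hm ⊢
    exact ⟨(hW.2 m hm.1).1, (key m hm.1).2 hm.2⟩
  · intro a ha b hb e'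
    rw [Finset.mem_filter, Finset.mem_range] at ha hb
    exact h.app_inj hWd ha.1 hb.1 e'
  · intro n hn'
    rw [Finset.mem_filter, Finset.mem_range] at hn'
    obtain ⟨m, hm', rfl⟩ := h.app_surj hWd n hn'.1
    exact ⟨m, Finset.mem_filter.2 ⟨Finset.mem_range.2 hm', (key m hm').1 hn'.2⟩, rfl⟩

/-- If a list consists of induced maps, an induced map that is in it up to `tauM` is in it. -/
theorem good_of_half {c : G} {A : List Nat} (hA : A.length = 6) (hc : Acts z Q p c A) {good : List (List Nat)}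
    (hgood : ∀ B ∈ good, ∃ w, Acts z Q p w B) (hmem : halfB good A = true) : A ∈ good := by
  simp only [halfB, Bool.or_eq_true, List.contains_iff_mem] at hmem
  rcases hmem with h1 | h1
  · exact h1
  exfalso
  obtain ⟨w, hw⟩ := hgood _ h1
  obtain ⟨B, hB, hBc, hBA, -⟩ := h.exists_acts_inv hA hc
  obtain ⟨ht, htl, htf⟩ := tau_facts
  have := h.acts_mul (B := comp A tauM) (by rw [length_comp, htl]) hBc hw
  have e : comp B (comp A tauM) = tauM := by
    refine eq_of_app (by rw [length_comp, length_comp, htl]) htl fun n hn => ?_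
    have hn64 : n < 64 := by revert n; decide
    have hlt : app tauM n < 64 := (show ∀ n < 64, app tauM n < 64 by decide +kernel) n hn64
    rw [app_comp (by rw [length_comp, htl]), app_comp htl, ← app_comp hA, hBA, app_one _ hlt]
  rw [e] at this
  exact h.no_transvection htl this ht htf

end Sys

namespace Frame

variable (F : Frame z Q p k)
include F

local notation "X" => k * z * k⁻¹
local notation "P" => Q.map (MulAut.conj k).toMonoidHom

theorem rhoList_acts {B : List Nat} (hB : B ∈ rhoList) : ∃ w, Acts z Q p w B := by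
  simp only [rhoList, List.mem_map] at hB
  obtain ⟨u, hu, rfl⟩ := hB
  obtain ⟨s, -, -, hs⟩ := F.exists_s hu
  exact ⟨s, hs⟩

theorem lamList_acts {B : List Nat} (hB : B ∈ lamList) : ∃ w, Acts z Q p w B := by
  simp only [lamList, List.mem_map] at hB
  obtain ⟨u, hu, rfl⟩ := hB
  obtain ⟨s, -, -, hs⟩ := F.exists_s hu
  have hw := data_words
  simp only [Bool.and_eq_true, beq_iff_eq] at hw
  obtain ⟨hl, c, hc⟩ := F.sys.acts_word lamW
  rw [← hw.1.1.1.1] at hc
  exact ⟨c * s, F.sys.acts_mul (F.rho_len u) hc hs⟩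

/-- An element commuting with a far element at the first vector fixes that vector. -/
theorem fix_one {c t : G} {A : List Nat} (hA : Iso A) (hc : Acts z Q p c A) (ht : Acts z Q p t (rho 16))
    (e : Commute c t) : app A 1 = 1 := by
  have hcomm := F.sys.comm_of_commute hA.1 (F.rho_len 16) hc ht e
  have h32 : app (rho 16) 32 = 32 ^^^ 1 := by decide +kernel
  have h1 : app A 1 = app A 32 ^^^ app (rho 16) (app A 32) := by
    rw [← app_comp hA.1, ← hcomm, app_comp (F.rho_len 16), h32, ← app_xor, ← Nat.xor_assoc, Nat.xor_self,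
      Nat.zero_xor]
  have h := List.all_eq_true.1 im_sixteen _ (List.mem_range.2 (hA.2 32 (by norm_num)).1)
  rw [← h1] at h
  simp only [Bool.or_eq_true, beq_iff_eq] at h
  have hq : qb (app A 1) = false := by
    rw [(hA.2 1 (by norm_num)).2]; decide +kernel
  rcases h with (h | h) | h
  · rw [hq] at h; exact absurd h Bool.false_ne_true
  · exfalso
    rw [← app_zero A] at h
    exact absurd (F.sys.app_inj hc (by norm_num) (by norm_num) h) (by norm_num)
  · exact h

end Frame

end CfsgLib.LocalEvenB.SuzType
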